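import Groth.Agent.GalTori.RatField
import Mathlib.GroupTheory.MonoidLocalization.UniqueFactorization
import Mathlib.RingTheory.Polynomial.UniqueFactorization
import Mathlib.RingTheory.Localization.Away.Basic
import Mathlib.Algebra.MvPolynomial.Nilpotent
import Mathlib.Algebra.MonoidAlgebra.NoZeroDivisors

/-! Units of localizations of factorial rings. -/

universe u

namespace Groth.Agent.GalTori

/-- The units of a localization of a factorial ring are free on the primes inverted. -/
theorem exists_units_data (R : Type u) [CommRing R] [IsDomain R] [UniqueFactorizationMonoid R] {c : R} (hc : c ≠ 0) :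
    ∃ (S : Type u) (_ : Fintype S) (z : S → R) (zu : S → (Localization.Away c)ˣ),
      (∀ s, (zu s : Localization.Away c) = algebraMap R _ (z s)) ∧
      (∀ u : (Localization.Away c)ˣ, ∃ (ε : Rˣ) (n : PermLat S), u = Units.map (algebraMap R (Localization.Away c)).toMonoidHom ε * pw zu n) ∧
      (∀ (ε : Rˣ) (n : PermLat S), Units.map (algebraMap R (Localization.Away c)).toMonoidHom ε * pw zu n = 1 → n = 1) ∧
      (∀ σ : R ≃+* R, σ c = c → ∀ s, ∃ s', Associated (σ (z s)) (z s')) := by
  classical
  let F : Finset (Associates R) := ((UniqueFactorizationMonoid.factors c).map Associates.mk).toFinset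
  let z : F → R := fun s => Quotient.out s.1
  have hz : ∀ s : F, Associates.mk (z s) = s.1 := fun s => Quotient.out_eq _
  have hzf : ∀ s, ∃ p ∈ UniqueFactorizationMonoid.factors c, Associated p (z s) := fun s => by
    obtain ⟨p, hp, hps⟩ := Multiset.mem_map.1 (Multiset.mem_toFinset.1 s.2)
    exact ⟨p, hp, Associates.mk_eq_mk_iff_associated.1 (hps.trans (hz s).symm)⟩
  have hzp : ∀ s, Prime (z s) := fun s => by
    obtain ⟨p, hp, hps⟩ := hzf s
    exact hps.prime (UniqueFactorizationMonoid.prime_of_factor p hp)
  have hzc : ∀ s, z s ∣ c := fun s => by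
    obtain ⟨p, hp, hps⟩ := hzf s
    exact hps.symm.dvd.trans (UniqueFactorizationMonoid.dvd_of_mem_factors hp)
  have hzall : ∀ p, Prime p → p ∣ c → ∃ s, Associated p (z s) := fun p hp hpc => by
    obtain ⟨q, hq, hpq⟩ := UniqueFactorizationMonoid.exists_mem_factors_of_dvd hc hp.irreducible hpc
    exact ⟨⟨Associates.mk q, Multiset.mem_toFinset.2 (Multiset.mem_map_of_mem _ hq)⟩,
      hpq.trans (Associates.mk_eq_mk_iff_associated.1 (hz ⟨Associates.mk q, _⟩).symm)⟩
  have hzinj : ∀ s t, z s ∣ z t → s = t := fun s t h => by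
    apply Subtype.ext
    rw [← hz s, ← hz t]
    exact Associates.mk_eq_mk_iff_associated.2 ((hzp s).associated_of_dvd (hzp t) h)
  let A := Localization.Away c
  have hcu : IsUnit (algebraMap R A c) := IsLocalization.map_units A ⟨c, Submonoid.mem_powers c⟩
  have hzu : ∀ s, IsUnit (algebraMap R A (z s)) := fun s => by
    exact isUnit_of_dvd_unit (map_dvd _ (hzc s)) hcu
  let zu : F → Aˣ := fun s => (hzu s).unit
  refine ⟨F, inferInstance, z, zu, fun s => rfl, ?_, ?_, fun σ hσ s => ?_⟩
  · let Λ : Rˣ × PermLat F →* Aˣ := MonoidHom.coprod (Units.map (algebraMap R A).toMonoidHom) (pw zu)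
    have key : ∀ a : R, ∀ K : ℕ, a ∣ c ^ K → ∃ w ∈ Λ.range, ((w : Aˣ) : A) = algebraMap R A a := by
      intro a
      induction a using UniqueFactorizationMonoid.induction_on_prime with
      | h₁ => intro K h; exact absurd (eq_zero_of_zero_dvd h) (pow_ne_zero _ hc)
      | h₂ x hx =>
        intro K _
        exact ⟨Units.map (algebraMap R A).toMonoidHom hx.unit, ⟨(hx.unit, 1), by simp [Λ]⟩, rfl⟩
      | h₃ a p ha hp ih =>
        intro K h
        obtain ⟨w, hw, hwa⟩ := ih K ((dvd_mul_left a p).trans h)
        obtain ⟨s, hs⟩ := hzall p hp (hp.dvd_of_dvd_pow ((dvd_mul_right p a).trans h))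
        obtain ⟨u, hu⟩ := hs.symm
        refine ⟨Units.map (algebraMap R A).toMonoidHom u * zu s * w, mul_mem ⟨(u, gen s), ?_⟩ hw, ?_⟩
        · simp [Λ, pw_gen]
        · show algebraMap R A u * algebraMap R A (z s) * (w : A) = _
          rw [hwa, ← map_mul, ← map_mul, mul_comm (u : R), hu]
    intro u
    obtain ⟨⟨a, ⟨_, N, rfl⟩⟩, ha⟩ := IsLocalization.surj (Submonoid.powers c) (u : A)
    obtain ⟨⟨b, ⟨_, K, rfl⟩⟩, hb⟩ := IsLocalization.surj (Submonoid.powers c) ((u⁻¹ : Aˣ) : A)
    have hinj : Function.Injective (algebraMap R A) :=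
      IsLocalization.injective A (powers_le_nonZeroDivisors_of_noZeroDivisors hc)
    have hab : a * b = c ^ (N + K) := hinj (by
      rw [map_mul, ← ha, ← hb, pow_add, map_mul, mul_mul_mul_comm, Units.mul_inv, one_mul])
    obtain ⟨w, hw, hwa⟩ := key a (N + K) ⟨b, hab.symm⟩
    obtain ⟨w', hw', hwc⟩ := key (c ^ N) N dvd_rfl
    have hu : u = w * w'⁻¹ := by
      rw [eq_mul_inv_iff_mul_eq]
      apply Units.ext
      rw [Units.val_mul, hwc, hwa]
      exact ha
    obtain ⟨⟨ε, n⟩, h⟩ := mul_mem hw (inv_mem hw')
    exact ⟨ε, n, by rw [hu, ← h]; rfl⟩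
  · intro ε n h
    apply Multiplicative.toAdd.injective
    funext s
    let pp : F → ℕ := fun t => (Multiplicative.toAdd n t).toNat
    let nn : F → ℕ := fun t => (-Multiplicative.toAdd n t).toNat
    have hinj : Function.Injective (algebraMap R A) :=
      IsLocalization.injective A (powers_le_nonZeroDivisors_of_noZeroDivisors hc)
    have hsplit : ∀ t, zu t ^ Multiplicative.toAdd n t * zu t ^ nn t = zu t ^ pp t := fun t => by
      rw [← zpow_natCast (zu t) (nn t), ← zpow_add, ← zpow_natCast (zu t) (pp t)]
      congr 1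
      simp only [pp, nn]
      omega
    have he : (ε : R) * ∏ t, z t ^ pp t = ∏ t, z t ^ nn t := by
      apply hinj
      have h2 : Units.map (algebraMap R A).toMonoidHom ε * ∏ t, zu t ^ pp t = ∏ t, zu t ^ nn t := by
        rw [← Finset.prod_congr rfl fun t _ => hsplit t, Finset.prod_mul_distrib, ← mul_assoc]
        exact (congrArg (· * ∏ t, zu t ^ nn t) h).trans (one_mul _)
      have h3 := congrArg Units.val h2
      simpa [zu, Units.coe_prod] using h3
    have hnd : ∀ (m : F → ℕ) (u : Rˣ), m s = 0 → ¬ z s ∣ (u : R) * ∏ t, z t ^ m t := fun m u hm hdvd => by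
      rcases (hzp s).dvd_or_dvd hdvd with h1 | h1
      · exact (hzp s).not_isUnit (isUnit_of_dvd_unit h1 u.isUnit)
      · obtain ⟨t, -, ht⟩ := ((hzp s).dvd_finsetProd_iff _).1 h1
        have := hzinj s t ((hzp s).dvd_of_dvd_pow ht)
        subst this
        rw [hm, pow_zero] at ht
        exact (hzp s).not_isUnit (isUnit_of_dvd_one ht)
    show Multiplicative.toAdd n s = 0
    rcases lt_trichotomy (Multiplicative.toAdd n s) 0 with hlt | heq | hgt
    · exfalso
      have h0 : pp s = 0 := by simp only [pp]; omega
      have h1 : nn s ≠ 0 := by simp only [nn]; omega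
      exact hnd pp ε h0 (he.symm ▸ (dvd_pow_self _ h1).trans (Finset.dvd_prod_of_mem (fun t => z t ^ nn t) (Finset.mem_univ s)))
    · exact heq
    · exfalso
      have h0 : nn s = 0 := by simp only [nn]; omega
      have h1 : pp s ≠ 0 := by simp only [pp]; omega
      refine hnd nn 1 h0 ?_
      rw [Units.val_one, one_mul, ← he]
      exact ((dvd_pow_self _ h1).trans (Finset.dvd_prod_of_mem (fun t => z t ^ pp t) (Finset.mem_univ s))).mul_left _
  · have hpσ : Prime (σ (z s)) := (MulEquiv.prime_iff σ.toMulEquiv).2 (hzp s)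
    exact hzall _ hpσ (hσ ▸ map_dvd σ (hzc s))

/-- A unit of the group algebra of a torsion-free group is a monomial. -/
theorem exists_single_of_isUnit {L M : Type u} [Field L] [CommGroup M] [TwoUniqueProds M] {x : MonoidAlgebra L M}
    (hx : IsUnit x) : ∃ (a : L) (m : M), a ≠ 0 ∧ x = MonoidAlgebra.single m a := by
  classical
  obtain ⟨y, hy⟩ := isUnit_iff_exists_inv.1 hx
  have hxs : x.coeff.support.Nonempty := by
    rw [Finsupp.support_nonempty_iff]
    intro h
    have hx0 : x = 0 := MonoidAlgebra.coeff_injective (h.trans MonoidAlgebra.coeff_zero.symm)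
    rw [hx0, zero_mul] at hy
    exact zero_ne_one hy
  have hys : y.coeff.support.Nonempty := by
    rw [Finsupp.support_nonempty_iff]
    intro h
    have hy0 : y = 0 := MonoidAlgebra.coeff_injective (h.trans MonoidAlgebra.coeff_zero.symm)
    rw [hy0, mul_zero] at hy
    exact zero_ne_one hy
  by_cases hcard : 1 < x.coeff.support.card * y.coeff.support.card
  · obtain ⟨p, hp, q, hq, hne, hup, huq⟩ := TwoUniqueProds.uniqueMul_of_one_lt_card hcard
    have key : ∀ p ∈ x.coeff.support ×ˢ y.coeff.support, UniqueMul x.coeff.support y.coeff.support p.1 p.2 →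
        p.1 * p.2 = 1 := fun p hp hu => by
      by_contra h1
      have := MonoidAlgebra.coeff_mul_mul_of_uniqueMul hu
      rw [hy, MonoidAlgebra.one_def, MonoidAlgebra.coeff_single, Finsupp.single_apply, if_neg (Ne.symm h1)] at this
      rw [Finset.mem_product] at hp
      exact mul_ne_zero (Finsupp.mem_support_iff.1 hp.1) (Finsupp.mem_support_iff.1 hp.2) this.symm
    rw [Finset.mem_product] at hq
    obtain ⟨e1, e2⟩ := hup hq.1 hq.2 ((key q (Finset.mem_product.2 hq) huq).trans (key p hp hup).symm)
    exact absurd (Prod.ext e1.symm e2.symm) hne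
  · have h1 : x.coeff.support.card = 1 := by
      have a1 := hxs.card_pos
      have a2 := hys.card_pos
      by_contra hne
      exact hcard (lt_of_lt_of_le (show 1 < x.coeff.support.card by omega) (Nat.le_mul_of_pos_right _ a2))
    obtain ⟨m, a, ha, h⟩ := Finsupp.card_support_eq_one'.1 h1
    exact ⟨a, m, ha, MonoidAlgebra.coeff_injective (h.trans (MonoidAlgebra.coeff_single _ _).symm)⟩

/-- The group algebra of a finite rank lattice is factorial. -/
theorem uniqueFactorizationMonoid_lat (L : Type u) [Field L] (r : ℕ) :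
    UniqueFactorizationMonoid (MonoidAlgebra L (TorusPts.Lat.{u} r)) := by
  classical
  let M := TorusPts.Lat.{u} r
  let P := MvPolynomial (Fin r) L
  let em : (Fin r →₀ ℕ) → M := fun d => ULift.up (Multiplicative.ofAdd fun i => (d i : ℤ))
  have hem : Function.Injective em := fun d d' h => Finsupp.ext fun i => by
    exact_mod_cast congrFun (Multiplicative.ofAdd.injective (congrArg ULift.down h)) i
  let φ : P →ₐ[L] MonoidAlgebra L M := MvPolynomial.aeval fun i => MonoidAlgebra.single (em (Finsupp.single i 1)) (1 : L)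
  have hφ : ∀ d a, φ (MvPolynomial.monomial d a) = MonoidAlgebra.single (em d) a := fun d a => by
    induction d using Finsupp.induction generalizing a with
    | zero =>
      rw [MvPolynomial.monomial_zero', MvPolynomial.aeval_C]
      rfl
    | single_add i b f hi hb ih =>
      rw [MvPolynomial.monomial_single_add, map_mul, map_pow, ih, MvPolynomial.aeval_X, MonoidAlgebra.single_pow,
        MonoidAlgebra.single_mul_single, one_pow, one_mul]
      congr 1
      apply ULift.ext
      apply Multiplicative.toAdd.injective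
      funext j
      simp [em, Finsupp.single_apply]
      show b • (if i = j then (1 : ℤ) else 0) + (f j : ℤ) = _
      split_ifs <;> simp
  have hφinj : Function.Injective φ := (injective_iff_map_eq_zero _).2 fun p hp => by
    have e : φ p = MonoidAlgebra.mapDomain em (MonoidAlgebra.ofCoeff (R := L) (AddMonoidAlgebra.coeff p)) := by
      conv_lhs => rw [p.as_sum]
      rw [map_sum]
      simp only [hφ]
      apply MonoidAlgebra.coeff_injective
      rw [MonoidAlgebra.coeff_sum, MonoidAlgebra.coeff_mapDomain]
      rfl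
    ext d
    have h2 : (φ p).coeff (em d) = MvPolynomial.coeff d p := by
      rw [e, MonoidAlgebra.coeff_mapDomain, Finsupp.mapDomain_apply hem]
      rfl
    rw [← h2, hp]
    simp
  let _ : Algebra P (MonoidAlgebra L M) := φ.toRingHom.toAlgebra
  let d1 : Fin r →₀ ℕ := Finsupp.equivFunOnFinite.symm fun _ => 1
  have hloc : IsLocalization (Submonoid.powers (MvPolynomial.monomial d1 (1 : L))) (MonoidAlgebra L M) := by
    have hpow : ∀ N : ℕ, (MvPolynomial.monomial d1 (1 : L)) ^ N = MvPolynomial.monomial (N • d1) 1 := fun N => by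
      rw [MvPolynomial.monomial_pow, one_pow]
    refine ⟨⟨?_, fun x => ?_, fun {a b} h => ?_⟩⟩
    · rintro ⟨_, N, rfl⟩
      show IsUnit (φ (MvPolynomial.monomial d1 (1 : L) ^ N))
      rw [map_pow, hφ]
      exact ((Group.isUnit (em d1)).map (MonoidAlgebra.of L M)).pow N
    · induction x using MonoidAlgebra.induction_linear with
      | zero => exact ⟨(0, 1), by simp⟩
      | add x y hx hy =>
        obtain ⟨⟨a, s⟩, ha⟩ := hx
        obtain ⟨⟨b, t⟩, hb⟩ := hy
        refine ⟨(a * t + b * s, s * t), ?_⟩
        simp only [Submonoid.coe_mul, map_mul, map_add] at ha hb ⊢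
        rw [← ha, ← hb]
        ring
      | single m a =>
        let N : ℕ := ∑ i, (-(Multiplicative.toAdd m.down i)).toNat
        refine ⟨(MvPolynomial.monomial (Finsupp.equivFunOnFinite.symm fun i => (Multiplicative.toAdd m.down i + N).toNat) a,
          ⟨_, N, rfl⟩), ?_⟩
        show MonoidAlgebra.single m a * φ (MvPolynomial.monomial d1 (1 : L) ^ N) = φ _
        rw [hpow, hφ, hφ, MonoidAlgebra.single_mul_single, mul_one]
        congr 1
        apply ULift.ext
        apply Multiplicative.toAdd.injective
        funext i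
        have hN : (-(Multiplicative.toAdd m.down i)).toNat ≤ N :=
          Finset.single_le_sum (f := fun i => (-(Multiplicative.toAdd m.down i)).toNat) (fun _ _ => Nat.zero_le _)
            (Finset.mem_univ i)
        show Multiplicative.toAdd m.down i + ((N • d1) i : ℕ) = ((_ : ℕ) : ℤ)
        simp [d1]
        omega
    · exact ⟨1, by rw [Submonoid.coe_one, one_mul, one_mul]; exact hφinj h⟩
  exact UniqueFactorizationMonoid.of_isLocalization (Submonoid.powers (MvPolynomial.monomial d1 (1 : L))) _

end Groth.Agent.GalTori
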