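import Mathlib.AlgebraicGeometry.Birational.Birational
import Mathlib.AlgebraicGeometry.Properties
import Mathlib.RingTheory.FiniteType
import Mathlib.RingTheory.Localization.Away.Basic
import Mathlib.RingTheory.Localization.FractionRing

/-! Birational affine schemes from equal fraction fields. -/

universe u

open AlgebraicGeometry CategoryTheory

namespace Groth.Agent.GalTori

variable {k : Type u} [Field k] {A B K : Type u} [CommRing A] [Algebra k A] [Algebra.FiniteType k A]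
  [CommRing B] [Algebra k B] [Algebra.FiniteType k B] [Field K] [Algebra k K]

/-- Elements of a localization inside a field. -/
theorem exists_denominator (jA : A →ₐ[k] K) (jB : B →ₐ[k] K)
    (hfrac : ∀ a : A, ∃ x y : B, jB y ≠ 0 ∧ jA a * jB y = jB x) :
    ∃ g : B, jB g ≠ 0 ∧ ∀ a : A, ∃ (n : ℕ) (x : B), jA a * jB g ^ n = jB x := by
  classical
  obtain ⟨gen, hgen⟩ := Algebra.FiniteType.out (R := k) (A := A)
  choose x y hy hxy using hfrac
  refine ⟨∏ a ∈ gen, y a, by rw [map_prod]; exact Finset.prod_ne_zero_iff.2 fun a _ => hy a, fun a => ?_⟩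
  have ha : a ∈ Algebra.adjoin k (gen : Set A) := hgen ▸ Algebra.mem_top
  induction ha using Algebra.adjoin_induction with
  | mem a ha =>
    refine ⟨1, x a * ∏ b ∈ gen.erase a, y b, ?_⟩
    rw [pow_one, map_mul, ← hxy, ← Finset.mul_prod_erase _ (fun b => y b) ha, map_mul, mul_assoc]
  | algebraMap r => exact ⟨0, algebraMap k B r, by rw [pow_zero, mul_one, AlgHom.commutes, AlgHom.commutes]⟩
  | add a b _ _ ha hb =>
    obtain ⟨n, u, hu⟩ := ha
    obtain ⟨m, w, hw⟩ := hb
    refine ⟨n + m, u * (∏ a ∈ gen, y a) ^ m + w * (∏ a ∈ gen, y a) ^ n, ?_⟩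
    rw [map_add, map_add, map_mul jB u, map_mul jB w, ← hu, ← hw, map_pow, map_pow, pow_add]
    ring
  | mul a b _ _ ha hb =>
    obtain ⟨n, u, hu⟩ := ha
    obtain ⟨m, w, hw⟩ := hb
    refine ⟨n + m, u * w, ?_⟩
    rw [map_mul, map_mul, ← hu, ← hw, pow_add]
    ring

/-- Two finitely generated subalgebras with the same fractions have a common localization. -/
theorem exists_away_equiv [IsDomain A] [IsDomain B] (jA : A →ₐ[k] K) (jB : B →ₐ[k] K)
    (hA : Function.Injective jA) (hB : Function.Injective jB)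
    (hAB : ∀ a : A, ∃ x y : B, jB y ≠ 0 ∧ jA a * jB y = jB x)
    (hBA : ∀ b : B, ∃ x y : A, jA y ≠ 0 ∧ jB b * jA y = jA x) :
    ∃ (f : A) (g : B), f ≠ 0 ∧ g ≠ 0 ∧ Nonempty (Localization.Away f ≃ₐ[k] Localization.Away g) := by
  obtain ⟨g₀, hg₀, hA'⟩ := exists_denominator jA jB hAB
  obtain ⟨f₀, hf₀, hB'⟩ := exists_denominator jB jA hBA
  obtain ⟨n, b, hb⟩ := hA' f₀
  let g := g₀ * b
  have hb0 : jB b ≠ 0 := hb ▸ mul_ne_zero hf₀ (pow_ne_zero _ hg₀)
  have hg : jB g ≠ 0 := by rw [map_mul]; exact mul_ne_zero hg₀ hb0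
  obtain ⟨m, a, ha⟩ := hB' g
  let f := f₀ * a
  have ha0 : jA a ≠ 0 := ha ▸ mul_ne_zero hg (pow_ne_zero _ hf₀)
  have hf : jA f ≠ 0 := by rw [map_mul]; exact mul_ne_zero hf₀ ha0
  let Af := Localization.Away f
  let Bg := Localization.Away g
  let iA : Af →ₐ[k] K := IsLocalization.liftAlgHom (M := Submonoid.powers f) (f := jA) fun z => by
    obtain ⟨N, hN⟩ := z.2
    rw [← hN]
    show IsUnit (jA (f ^ N))
    rw [map_pow]
    exact (isUnit_iff_ne_zero.2 hf).pow N
  let iB : Bg →ₐ[k] K := IsLocalization.liftAlgHom (M := Submonoid.powers g) (f := jB) fun z => by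
    obtain ⟨N, hN⟩ := z.2
    rw [← hN]
    show IsUnit (jB (g ^ N))
    rw [map_pow]
    exact (isUnit_iff_ne_zero.2 hg).pow N
  have hiA : ∀ a, iA (algebraMap A Af a) = jA a := fun a => IsLocalization.lift_eq _ a
  have hiB : ∀ b, iB (algebraMap B Bg b) = jB b := fun b => IsLocalization.lift_eq _ b
  have inj : ∀ {R : Type u} [CommRing R] [Algebra k R] (r : R) (j : R →ₐ[k] K) (i : Localization.Away r →ₐ[k] K),
      Function.Injective j → (∀ a, i (algebraMap R _ a) = j a) → Function.Injective i := by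
    intro R _ _ r j i hj hij
    refine (injective_iff_map_eq_zero _).2 fun y hy => ?_
    obtain ⟨⟨a, s⟩, hm⟩ := IsLocalization.surj (Submonoid.powers r) y
    have : j a = 0 := by rw [← hij, ← hm, map_mul, hy, zero_mul]
    rw [hj (this.trans (map_zero j).symm), map_zero] at hm
    exact (IsLocalization.map_units _ s).mul_left_eq_zero.1 hm
  have hiAi := inj f jA iA hA hiA
  have hiBi := inj g jB iB hB hiB
  -- the common image
  have huA : IsUnit (algebraMap A Af f₀) ∧ IsUnit (algebraMap A Af a) := by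
    have := IsLocalization.map_units Af (⟨f, Submonoid.mem_powers f⟩ : Submonoid.powers f)
    rwa [map_mul, IsUnit.mul_iff] at this
  have huB : IsUnit (algebraMap B Bg g₀) ∧ IsUnit (algebraMap B Bg b) := by
    have := IsLocalization.map_units Bg (⟨g, Submonoid.mem_powers g⟩ : Submonoid.powers g)
    rwa [map_mul, IsUnit.mul_iff] at this
  have inv_range : ∀ {R : Type u} [CommRing R] [Algebra k R] (i : R →ₐ[k] K) (r : R) (x : K),
      IsUnit r → i r = x → x⁻¹ ∈ i.range := by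
    intro R _ _ i r x hr hx
    refine ⟨↑hr.unit⁻¹, eq_inv_of_mul_eq_one_left ?_⟩
    rw [← hx]
    show i _ * i r = 1
    rw [← map_mul, IsUnit.val_inv_mul, map_one]
  have hAB' : ∀ a', jA a' ∈ iB.range := fun a' => by
    obtain ⟨N, x, hx⟩ := hA' a'
    have : jA a' = jB x * ((jB g₀)⁻¹) ^ N := by
      rw [← hx, inv_pow, mul_inv_cancel_right₀ (pow_ne_zero _ hg₀)]
    rw [this]
    exact mul_mem ⟨_, hiB x⟩ (pow_mem (inv_range iB _ _ huB.1 (hiB g₀)) N)
  have hBA' : ∀ b', jB b' ∈ iA.range := fun b' => by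
    obtain ⟨N, x, hx⟩ := hB' b'
    have : jB b' = jA x * ((jA f₀)⁻¹) ^ N := by
      rw [← hx, inv_pow, mul_inv_cancel_right₀ (pow_ne_zero _ hf₀)]
    rw [this]
    exact mul_mem ⟨_, hiA x⟩ (pow_mem (inv_range iA _ _ huA.1 (hiA f₀)) N)
  have hfB : (jA f)⁻¹ ∈ iB.range := by
    have : (jA f)⁻¹ = (jB g)⁻¹ * ((jA f₀)⁻¹ * ((jA f₀)⁻¹) ^ m) := by
      rw [map_mul, ← ha]
      simp only [mul_inv, inv_pow]
      ring
    rw [this]
    have h0 : (jA f₀)⁻¹ ∈ iB.range := by
      have : (jA f₀)⁻¹ = jB g₀ ^ n * (jB b)⁻¹ := by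
        rw [← hb, mul_inv, mul_left_comm, mul_inv_cancel₀ (pow_ne_zero _ hg₀), mul_one]
      rw [this]
      exact mul_mem (pow_mem (⟨_, hiB g₀⟩ : jB g₀ ∈ iB.range) n) (inv_range iB _ _ huB.2 (hiB b))
    exact mul_mem (inv_range iB _ _ (huB.1.mul huB.2) (by rw [← map_mul, hiB])) (mul_mem h0 (pow_mem h0 m))
  have hgA : (jB g)⁻¹ ∈ iA.range := by
    have : (jB g)⁻¹ = jA f₀ ^ m * (jA a)⁻¹ := by
      rw [← ha, mul_inv, mul_left_comm, mul_inv_cancel₀ (pow_ne_zero _ hf₀), mul_one]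
    rw [this]
    exact mul_mem (pow_mem (⟨_, hiA f₀⟩ : jA f₀ ∈ iA.range) m) (inv_range iA _ _ huA.2 (hiA a))
  have hle : ∀ {R : Type u} [CommRing R] [Algebra k R] (r : R) (j : R →ₐ[k] K) (i : Localization.Away r →ₐ[k] K)
      (S : Subalgebra k K), (∀ a, i (algebraMap R _ a) = j a) → (∀ a, j a ∈ S) → (j r)⁻¹ ∈ S → j r ≠ 0 → i.range ≤ S := by
    rintro R _ _ r j i S hij hS hr hr0 _ ⟨y, rfl⟩
    obtain ⟨⟨c, ⟨-, N, rfl⟩⟩, hm⟩ := IsLocalization.surj (Submonoid.powers r) y
    have h := congrArg i hm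
    simp only at h
    rw [map_mul, hij, hij, map_pow] at h
    have : i y = j c * ((j r)⁻¹) ^ N := by rw [← h, inv_pow, mul_inv_cancel_right₀ (pow_ne_zero _ hr0)]
    show i y ∈ S
    rw [this]
    exact mul_mem (hS c) (pow_mem hr N)
  have heq : iA.range = iB.range :=
    le_antisymm (hle f jA iA _ hiA hAB' hfB hf) (hle g jB iB _ hiB hBA' hgA hg)
  exact ⟨f, g, fun h => hf (by rw [h, map_zero]), fun h => hg (by rw [h, map_zero]),
    ⟨((AlgEquiv.ofInjective iA hiAi).trans (Subalgebra.equivOfEq _ _ heq)).trans (AlgEquiv.ofInjective iB hiBi).symm⟩⟩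

omit [Algebra.FiniteType k A] [Algebra.FiniteType k B] in
/-- Affine schemes with isomorphic localizations are birational. -/
theorem birationalOver_of_away [IsDomain A] [IsDomain B] {X Y : Scheme.{u}} {sX : X ⟶ Spec (CommRingCat.of k)}
    {sY : Y ⟶ Spec (CommRingCat.of k)} (eX : Spec (CommRingCat.of A) ≅ X) (eY : Spec (CommRingCat.of B) ≅ Y)
    (hX : eX.hom ≫ sX = Spec.map (CommRingCat.ofHom (algebraMap k A)))
    (hY : eY.hom ≫ sY = Spec.map (CommRingCat.ofHom (algebraMap k B)))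
    {f : A} {g : B} (hf : f ≠ 0) (hg : g ≠ 0) (e : Localization.Away f ≃ₐ[k] Localization.Away g) :
    Scheme.BirationalOver sX sY := by
  have : IrreducibleSpace (Spec (CommRingCat.of A)) := inferInstanceAs (IrreducibleSpace (PrimeSpectrum A))
  have : IrreducibleSpace (Spec (CommRingCat.of B)) := inferInstanceAs (IrreducibleSpace (PrimeSpectrum B))
  let lf₀ : Spec (CommRingCat.of (Localization.Away f)) ⟶ Spec (CommRingCat.of A) :=
    Spec.map (CommRingCat.ofHom (algebraMap A (Localization.Away f)))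
  have : IsOpenImmersion lf₀ := IsOpenImmersion.of_isLocalization f
  let lg₀ : Spec (CommRingCat.of (Localization.Away g)) ⟶ Spec (CommRingCat.of B) :=
    Spec.map (CommRingCat.ofHom (algebraMap B (Localization.Away g)))
  have : IsOpenImmersion lg₀ := IsOpenImmersion.of_isLocalization g
  let lf := lf₀ ≫ eX.hom
  let lg := lg₀ ≫ eY.hom
  have : IsDomain (Localization.Away f) :=
    IsLocalization.isDomain_localization (powers_le_nonZeroDivisors_of_noZeroDivisors hf)
  have : IsDomain (Localization.Away g) :=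
    IsLocalization.isDomain_localization (powers_le_nonZeroDivisors_of_noZeroDivisors hg)
  obtain ⟨p⟩ : Nonempty (PrimeSpectrum (Localization.Away f)) := inferInstance
  obtain ⟨q⟩ : Nonempty (PrimeSpectrum (Localization.Away g)) := inferInstance
  have hdX : Dense (lf.opensRange : Set X) := by
    have h := eX.hom.homeomorph.surjective.denseRange.dense_image eX.hom.homeomorph.continuous
      (lf₀.opensRange.2.dense ⟨lf₀ p, p, rfl⟩)
    refine h.mono ?_
    rintro _ ⟨y, ⟨z, rfl⟩, rfl⟩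
    exact ⟨z, rfl⟩
  have hdY : Dense (lg.opensRange : Set Y) := by
    have h := eY.hom.homeomorph.surjective.denseRange.dense_image eY.hom.homeomorph.continuous
      (lg₀.opensRange.2.dense ⟨lg₀ q, q, rfl⟩)
    refine h.mono ?_
    rintro _ ⟨y, ⟨z, rfl⟩, rfl⟩
    exact ⟨z, rfl⟩
  let φ : Spec (CommRingCat.of (Localization.Away f)) ≅ Spec (CommRingCat.of (Localization.Away g)) :=
    Scheme.Spec.mapIso (e.symm.toRingEquiv.toCommRingCatIso.op)
  refine ⟨⟨lf.opensRange, hdX, lg.opensRange, hdY, lf.isoOpensRange.symm ≪≫ φ ≪≫ lg.isoOpensRange⟩, ?_⟩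
  show (lf.isoOpensRange.inv ≫ φ.hom ≫ lg.isoOpensRange.hom) ≫ lg.opensRange.ι ≫ sY = lf.opensRange.ι ≫ sX
  rw [Category.assoc, Category.assoc, reassoc_of% lg.isoOpensRange_hom_ι,
    ← Iso.inv_hom_id_assoc lf.isoOpensRange (lf.opensRange.ι ≫ sX), reassoc_of% lf.isoOpensRange_hom_ι]
  congr 1
  show φ.hom ≫ (lg₀ ≫ eY.hom) ≫ sY = (lf₀ ≫ eX.hom) ≫ sX
  rw [Category.assoc, Category.assoc, hX, hY]
  simp only [lf₀, lg₀, φ, ← Spec.map_comp, ← CommRingCat.ofHom_comp]
  show Spec.map _ ≫ _ = _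
  rw [← Spec.map_comp]
  congr 1
  ext c
  show e.symm (algebraMap B _ (algebraMap k B c)) = algebraMap A _ (algebraMap k A c)
  rw [← IsScalarTower.algebraMap_apply, ← IsScalarTower.algebraMap_apply, AlgEquiv.commutes]

end Groth.Agent.GalTori
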