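import Groth.Agent.AGFRoot.TorusSplit
import Groth.Agent.ComodLib.PrimCriteria
import Groth.Prelude.Def_TwC
import Mathlib.FieldTheory.IsAlgClosed.AlgebraicClosure
import Mathlib.RingTheory.TensorProduct.MonoidAlgebra
import Mathlib.Algebra.MonoidAlgebra.NoZeroDivisors

/-! Coordinate rings of isotrivial tori over fields. -/

universe u

open CategoryTheory CategoryTheory.Limits MonoidalCategory CartesianMonoidalCategory MonObj AlgebraicGeometry
open TensorProduct

namespace Groth.Agent.GalTori

open GrpSchLib.AffineHopf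

variable {k : Type u} [Field k]

theorem isTorus_of_finiteEtale (T : Over (Spec (CommRingCat.of k))) [GrpObj T]
    (hT : ∃ r : ℕ, TwC.Locally (Spec (CommRingCat.of k)) .finiteEtale
        (fun S' g => Red.IsSplitTorusWith (Fin r → ℤ) (Red.bc g T))) :
    Red.IsTorus T := by
  obtain ⟨r, S', f, hfin, het, hs, hloc⟩ := hT
  refine ⟨S', f, inferInstance, hs, fun V hV => ⟨f ⁻¹ᵁ V, (hV.preimage f).isCompact,
    Set.image_preimage_eq _ f.surjective⟩, fun s' => ?_⟩
  obtain ⟨U, hU, -, h⟩ := hloc s'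
  exact ⟨U, hU, r, h⟩

/-- Coordinates of a torus over a field. -/
theorem exists_coords (T : Over (Spec (CommRingCat.of k))) [GrpObj T] (hT : Red.IsTorus T) :
    ∃ (A : Type u) (_ : CommRing A) (_ : HopfAlgebra k A) (_ : Coalgebra.IsCocomm k A),
      Nonempty (Grp.mk (sp k A) ≅ Grp.mk T) ∧
        ∀ (κ : Type u) [Field κ] [Algebra k κ], IsDomain (κ ⊗[k] A) := by
  obtain ⟨r, L₀, _, _, ⟨s⟩⟩ := AGFRoot.exists_split_field hT
  let φ := Spec.map (CommRingCat.ofHom (algebraMap k L₀))
  obtain ⟨d⟩ := nonempty_DS_iso L₀ (Fin r → ℤ)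
  have : IsAffine T.left := by
    have : IsAffine (pullback T.hom φ) :=
      @IsAffine.of_isIso _ _ ((Over.forget _).mapIso ((Grp.forget _).mapIso (s.trans d.symm))).hom
        (Iso.isIso_hom _) (isAffine_Spec _)
    have hA' : IsAffineHom (pullback.snd T.hom φ) := isAffineHom_of_isAffine (pullback.snd T.hom φ)
    have := EtFound.fpqc_isAffineHom.{u}
    have : Surjective φ :=
      ⟨fun x => ⟨(IsLocalRing.closedPoint L₀ : Spec (CommRingCat.of L₀)), Subsingleton.elim _ _⟩⟩
    have : Flat φ := by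
      rw [Flat.SpecMap_iff]
      show (algebraMap k L₀).Flat
      rw [RingHom.flat_algebraMap_iff]
      infer_instance
    have : IsAffineHom T.hom := MorphismProperty.of_pullback_snd_of_descendsAlong
      (Q := (@Surjective ⊓ @Flat ⊓ @QuasiCompact : MorphismProperty Scheme.{u}))
      ⟨⟨‹_›, ‹_›⟩, inferInstance⟩ hA'
    exact isAffine_of_isAffineHom T.hom
  obtain ⟨A, _, _, ⟨t⟩⟩ := exists_hopf T
  obtain ⟨b⟩ := nonempty_bc_sp (R := k) L₀ A
  obtain ⟨e₁⟩ := TorusPts.exists_bialgEquiv (b.symm.trans (((Over.pullback φ).mapGrp.mapIso t).trans (s.trans d.symm)))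
  obtain ⟨L, _, _, _, _, ⟨e⟩⟩ := TorusPts.exists_galois_split L₀
    (e₁.trans (MonoidAlgebra.domCongrBialgEquiv L₀ L₀ MulEquiv.ulift.symm))
  have hco : Coalgebra.IsCocomm L (L ⊗[k] A) := by
    refine ComodLib.PrimDiag.isCocomm_of_span (eq_top_iff.2 fun z _ => ?_)
    rw [← e.symm_apply_apply z]
    generalize e z = w
    induction w using MonoidAlgebra.induction_linear with
    | zero => rw [map_zero]; exact zero_mem _
    | add a b ha hb => rw [map_add]; exact add_mem ha hb
    | single m x =>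
      rw [← mul_one x, ← MonoidAlgebra.smul_single', map_smul]
      exact Submodule.smul_mem _ _ (Submodule.subset_span (TorusPts.isGroupLike_ch e m))
  refine ⟨A, inferInstance, inferInstance, ComodLib.PrimDiag.isCocomm_of_baseChange hco, ⟨t⟩, fun κ _ _ => ?_⟩
  let E := AlgebraicClosure κ
  let emb : L →ₐ[k] E := IsAlgClosed.lift
  let _ : Algebra L E := emb.toRingHom.toAlgebra
  have : IsScalarTower k L E := .of_algebraMap_eq fun x => (emb.commutes x).symm
  let e' : E ⊗[k] A ≃ₐ[E] MonoidAlgebra E (TorusPts.Lat.{u} r) :=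
    ((Algebra.TensorProduct.cancelBaseChange k L E E A).symm.trans
      (Algebra.TensorProduct.congr AlgEquiv.refl e.toAlgEquiv)).trans
      (MonoidAlgebra.scalarTensorEquiv L E)
  have : IsDomain (MonoidAlgebra E (TorusPts.Lat.{u} r)) :=
    (MonoidAlgebra.domCongr E E (MulEquiv.ulift : TorusPts.Lat.{u} r ≃* Multiplicative (Fin r → ℤ))).toMulEquiv.isDomain
  have : IsDomain (E ⊗[k] A) := e'.toMulEquiv.isDomain
  have hinj : Function.Injective (Algebra.TensorProduct.map (IsScalarTower.toAlgHom k κ E) (AlgHom.id k A)) :=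
    Module.Flat.rTensor_preserves_injective_linearMap (IsScalarTower.toAlgHom k κ E).toLinearMap
      (algebraMap κ E).injective
  exact hinj.isDomain

end Groth.Agent.GalTori
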