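import Groth.Agent.GalTori.UnitsUFD

/-! Equivariant exponents of units of localizations of factorial rings, and lattices. -/

universe u

namespace Groth.Agent.GalTori

theorem permθ_apply_pw {G : Type u} [Group G] {S : Type u} [Fintype S] (π : G →* Equiv.Perm S) {X : Type*} [CommGroup X]
    (w : S → X) (g : G) (v : PermLat S) : pw w (permθ π g v) = pw (fun s => w (π g s)) v := by
  have hv : v = ∏ s, gen s ^ Multiplicative.toAdd v s := (pw_gen_id v).symm
  rw [hv]
  simp only [map_prod, map_zpow, permθ_gen, pw_gen]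

/-- Exponents of the units of a localization, with their symmetries. -/
theorem exists_exponents {R : Type u} [CommRing R] [IsDomain R] [UniqueFactorizationMonoid R] {G : Type u} [Group G]
    (act : G →* (R ≃+* R)) {c : R} (hc : c ≠ 0) (hfix : ∀ g, act g c = c) :
    ∃ (S : Type u) (_ : Fintype S) (π : G →* Equiv.Perm S) (ev : (Localization.Away c)ˣ →* PermLat S)
      (sec : PermLat S →* (Localization.Away c)ˣ),
      (∀ v, ev (sec v) = v) ∧
      (∀ ε : Rˣ, ev (Units.map (algebraMap R (Localization.Away c)).toMonoidHom ε) = 1) ∧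
      (∀ u, ev u = 1 → ∃ ε : Rˣ, u = Units.map (algebraMap R (Localization.Away c)).toMonoidHom ε) ∧
      ∀ (g : G) (aA : Localization.Away c →+* Localization.Away c),
        (∀ x, aA (algebraMap R _ x) = algebraMap R _ (act g x)) →
        ∀ u, ev (Units.map aA.toMonoidHom u) = permθ π g (ev u) := by
  classical
  obtain ⟨S, _, z, zu, hzu, hsurj, huniq, hσ⟩ := exists_units_data R hc
  let A := Localization.Away c
  let ιR : Rˣ →* Aˣ := Units.map (algebraMap R A).toMonoidHom
  choose ε₀ n₀ hn₀ using hsurj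
  have huniq' : ∀ (ε ε' : Rˣ) (n n' : PermLat S), ιR ε * pw zu n = ιR ε' * pw zu n' → n = n' := fun ε ε' n n' h => by
    have : ιR (ε * ε'⁻¹) * pw zu (n * n'⁻¹) = 1 := by
      rw [map_mul, map_mul, map_inv, map_inv, mul_mul_mul_comm, h, ← mul_inv, mul_inv_cancel]
    exact mul_inv_eq_one.1 (huniq _ _ this)
  let ev : Aˣ →* PermLat S := MonoidHom.mk' n₀ fun u w => huniq' (ε₀ (u * w)) (ε₀ u * ε₀ w) _ _ (by
    rw [← hn₀, map_mul ιR, map_mul (pw zu), mul_mul_mul_comm, ← hn₀, ← hn₀])
  have hev : ∀ u ε n, u = ιR ε * pw zu n → ev u = n := fun u ε n h => huniq' (ε₀ u) ε _ _ ((hn₀ u).symm.trans h)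
  have hgen : ∀ s t, Associated (z s) (z t) → s = t := fun s t ⟨e, he⟩ => by
    have h : ιR e * pw zu (gen s) = ιR 1 * pw zu (gen t) := Units.ext (by
      rw [pw_gen, pw_gen, map_one, one_mul, Units.val_mul, hzu, hzu, ← he, map_mul, mul_comm]
      rfl)
    have h2 := congrArg Multiplicative.toAdd (huniq' _ _ _ _ h)
    by_contra hne
    simpa [gen, hne] using congrFun h2 s
  choose p hp using fun g s => hσ (act g) (hfix g) s
  have hp1 : ∀ s, p 1 s = s := fun s => (hgen _ _ (by simpa using hp 1 s)).symm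
  have hpm : ∀ g h s, p (g * h) s = p g (p h s) := fun g h s => hgen _ _ (by
    refine (hp (g * h) s).symm.trans ?_
    rw [map_mul]
    exact ((hp h s).map (act g)).trans (hp g (p h s)))
  let π : G →* Equiv.Perm S :=
    { toFun := fun g => ⟨p g, p g⁻¹, fun s => by rw [← hpm, inv_mul_cancel, hp1],
        fun s => by rw [← hpm, mul_inv_cancel, hp1]⟩
      map_one' := Equiv.ext hp1
      map_mul' := fun g h => Equiv.ext (hpm g h) }
  refine ⟨S, inferInstance, π, ev, pw zu, fun v => hev _ 1 v (by rw [map_one, one_mul]),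
    fun ε => hev _ ε 1 (by rw [map_one, mul_one]),
    fun u h => ⟨ε₀ u, by conv_lhs => rw [hn₀ u, show n₀ u = 1 from h, map_one, mul_one]⟩, fun g aA haA u => ?_⟩
  let aU : Aˣ →* Aˣ := Units.map aA.toMonoidHom
  have hgen' : ∀ s, ev (aU (zu s)) = gen (π g s) := fun s => by
    obtain ⟨e, he⟩ := (hp g s).symm
    refine hev _ e _ (Units.ext ?_)
    rw [pw_gen, Units.val_mul, hzu]
    show aA (zu s : A) = algebraMap R A (e : R) * _
    rw [hzu, haA, ← map_mul, mul_comm, ← he]
    rfl
  have hunit : ∀ ε : Rˣ, ev (aU (ιR ε)) = 1 := fun ε => by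
    refine hev _ (Units.map (act g).toRingHom.toMonoidHom ε) 1 (Units.ext ?_)
    rw [map_one, mul_one]
    exact haA (ε : R)
  show ev (aU u) = permθ π g (ev u)
  conv_lhs => rw [hn₀ u, map_mul, map_mul]
  rw [show n₀ u = ev u from rfl]
  show ev (aU (ιR (ε₀ u))) * ev (aU (pw zu (ev u))) = _
  rw [hunit, one_mul]
  generalize ev u = v
  have hv : v = ∏ s, gen s ^ Multiplicative.toAdd v s := (pw_gen_id v).symm
  rw [hv]
  simp only [map_prod, map_zpow, pw_gen, hgen', permθ_gen]

/-- The group algebra of a lattice is a domain. -/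
theorem isDomain_of_lat (L : Type u) [Field L] {W : Type u} [CommGroup W] {r : ℕ} (eW : W ≃* TorusPts.Lat.{u} r) :
    IsDomain (MonoidAlgebra L W) := by
  have : UniqueProds (TorusPts.Lat.{u} r) := UniqueProds.of_injective_mulHom
    (MulEquiv.ulift : TorusPts.Lat.{u} r ≃* Multiplicative (Fin r → ℤ)).toMulHom
    (MulEquiv.injective _) inferInstance
  have : UniqueProds W := UniqueProds.of_injective_mulHom eW.toMulHom eW.injective this
  infer_instance

/-- A subgroup of a lattice is a lattice. -/
theorem exists_lat_of_injective {W : Type u} [CommGroup W] {S : Type u} [Fintype S] (f : W →* PermLat S)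
    (hf : Function.Injective f) : ∃ r : ℕ, Nonempty (W ≃* TorusPts.Lat.{u} r) := by
  let g : Additive W →+ (S → ℤ) := MonoidHom.toAdditiveLeft f
  have hg : Function.Injective g := hf
  let gl : Additive W →ₗ[ℤ] (S → ℤ) := g.toIntLinearMap
  have : Module.Finite ℤ (Additive W) := Module.Finite.of_injective gl hg
  have : Module.IsTorsionFree ℤ (Additive W) := hg.moduleIsTorsionFree gl (fun r x => gl.map_smul r x)
  have : Module.Free ℤ (Additive W) := inferInstance
  let b := Module.finBasis ℤ (Additive W)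
  exact ⟨_, ⟨(AddEquiv.toMultiplicativeRight b.equivFun.toAddEquiv).trans MulEquiv.ulift.symm⟩⟩

end Groth.Agent.GalTori
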