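import Mathlib.FieldTheory.SeparablyGenerated
import Mathlib.RingTheory.Nilpotent.GeometricallyReduced
import Mathlib.RingTheory.AlgebraicIndependent.Adjoin
import Mathlib.RingTheory.DedekindDomain.Dvr
import Mathlib.RingTheory.Polynomial.Quotient
import Mathlib.FieldTheory.PrimitiveElement
import Groth.Agent.RegLoc6.GeomRed

/-! A retraction from an open subset of affine space, from lifting along discrete valuation rings. -/

universe u

open TensorProduct
open scoped nonZeroDivisors

namespace Groth.Agent.GalTori.FromDVR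

variable {k : Type u} [Field k]

/-- The evaluation at a generator of a finite separable extension, on a discrete valuation ring. -/
theorem exists_dvr_eval {R E F : Type u} [CommRing R] [IsDomain R] [Algebra k R] [Field E] [Algebra R E]
    [IsFractionRing R E] [Algebra k E] [IsScalarTower k R E] [Field F] [Algebra E F] [Algebra R F]
    [IsScalarTower R E F] [Algebra k F] [IsScalarTower k E F] [IsScalarTower k R F]
    [FiniteDimensional E F] [Algebra.IsSeparable E F] :
    ∃ (θ : F) (A : Type u) (_ : CommRing A) (_ : IsDomain A) (_ : IsDiscreteValuationRing A) (_ : Algebra k A)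
      (ψ : Polynomial R →ₐ[k] A) (ev : A →ₐ[k] F),
      Function.Injective ψ ∧ Function.Surjective ev ∧ (∀ G, ev (ψ G) = Polynomial.aeval θ G) ∧
      ∀ a : A, ∃ G Q : Polynomial R, Polynomial.aeval θ Q ≠ 0 ∧ a * ψ Q = ψ G := by
  classical
  obtain ⟨θ, hθ⟩ := Field.exists_primitive_element E F
  have halg : IsAlgebraic E θ := Algebra.IsAlgebraic.isAlgebraic θ
  let e := (Polynomial.aeval θ : Polynomial E →ₐ[E] F)
  have hesurj : Function.Surjective e := fun y => by
    have h := IntermediateField.adjoin_simple_toSubalgebra_of_isAlgebraic halg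
    rw [hθ, IntermediateField.top_toSubalgebra, Algebra.adjoin_singleton_eq_range_aeval] at h
    exact (h ▸ Algebra.mem_top : y ∈ (Polynomial.aeval θ : Polynomial E →ₐ[E] F).range)
  let p : Ideal (Polynomial E) := RingHom.ker e.toRingHom
  have hp : p.IsMaximal := RingHom.ker_isMaximal_of_surjective _ hesurj
  have hp0 : p ≠ ⊥ := fun h => minpoly.ne_zero halg.isIntegral <| by
    have : minpoly E θ ∈ p := minpoly.aeval E θ
    rwa [h, Ideal.mem_bot] at this
  let A := Localization.AtPrime p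
  have : IsDiscreteValuationRing A := IsLocalization.AtPrime.isDiscreteValuationRing_of_dedekind_domain (Polynomial E) hp0 A
  have hunit : ∀ y : p.primeCompl, IsUnit (e.toRingHom y) := fun y => isUnit_iff_ne_zero.2 y.2
  let ev : A →ₐ[k] F := IsLocalization.liftAlgHom (M := p.primeCompl) (S := A) (f := e.restrictScalars k) hunit
  have hev : ∀ g, ev (algebraMap (Polynomial E) A g) = e g := fun g => IsLocalization.lift_eq hunit g
  let ι : R →ₐ[k] E := IsScalarTower.toAlgHom k R E
  let ψ : Polynomial R →ₐ[k] A := (IsScalarTower.toAlgHom k (Polynomial E) A).comp (Polynomial.mapAlgHom ι)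
  have hψ : ∀ G : Polynomial R, e (G.map ι.toRingHom) = Polynomial.aeval θ G := fun G =>
    Polynomial.aeval_map_algebraMap E θ G
  refine ⟨θ, A, inferInstance, inferInstance, inferInstance, inferInstance, ψ, ev, ?_, ?_, fun G => ?_, fun a => ?_⟩
  · exact (IsLocalization.injective A p.primeCompl_le_nonZeroDivisors).comp
      (Polynomial.map_injective ι.toRingHom (IsFractionRing.injective R E))
  · intro y
    obtain ⟨g, rfl⟩ := hesurj y
    exact ⟨_, hev g⟩
  · exact (hev _).trans (hψ G)
  · obtain ⟨g, ⟨h, hh⟩, rfl⟩ := IsLocalization.exists_mk'_eq p.primeCompl a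
    let _ : Algebra (Polynomial R) (Polynomial E) := (Polynomial.mapRingHom (algebraMap R E)).toAlgebra
    have : IsLocalization ((R⁰).map (Polynomial.C : R →+* Polynomial R)) (Polynomial E) := Polynomial.isLocalization (R⁰) E
    obtain ⟨G₀, ⟨s₁, hs₁⟩, hG⟩ := IsLocalization.exists_mk'_eq ((R⁰).map (Polynomial.C : R →+* Polynomial R)) g
    obtain ⟨Q₀, ⟨s₂, hs₂⟩, hQ⟩ := IsLocalization.exists_mk'_eq ((R⁰).map (Polynomial.C : R →+* Polynomial R)) h
    have hG' : g * s₁.map ι.toRingHom = G₀.map ι.toRingHom := by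
      rw [← hG]; exact IsLocalization.mk'_spec _ _ _
    have hQ' : h * s₂.map ι.toRingHom = Q₀.map ι.toRingHom := by
      rw [← hQ]; exact IsLocalization.mk'_spec _ _ _
    have hs : ∀ {s : Polynomial R}, s ∈ (R⁰).map (Polynomial.C : R →+* Polynomial R) → Polynomial.aeval θ s ≠ 0 := by
      rintro _ ⟨r, hr, rfl⟩
      rw [Polynomial.aeval_C, IsScalarTower.algebraMap_apply R E F]
      exact (map_ne_zero _).2 fun h => nonZeroDivisors.ne_zero hr (IsFractionRing.injective R E (h.trans (map_zero _).symm))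
    refine ⟨G₀ * s₂, Q₀ * s₁, ?_, ?_⟩
    · rw [map_mul]
      refine mul_ne_zero ?_ (hs hs₁)
      rw [← hψ, ← hQ', map_mul, hψ]
      exact mul_ne_zero hh (hs hs₂)
    · show _ * algebraMap (Polynomial E) A ((Q₀ * s₁).map ι.toRingHom) = algebraMap (Polynomial E) A ((G₀ * s₂).map ι.toRingHom)
      rw [Polynomial.map_mul, Polynomial.map_mul, ← hQ', ← hG', show h * s₂.map ι.toRingHom * s₁.map ι.toRingHom =
        h * (s₁.map ι.toRingHom * s₂.map ι.toRingHom) by ring, map_mul, ← mul_assoc, IsLocalization.mk'_spec]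
      simp only [map_mul]
      ring

theorem isGeometricallyReduced_fractionRing (H : Type u) [CommRing H] [IsDomain H] [Algebra k H]
    [IsDomain (AlgebraicClosure k ⊗[k] H)] : Algebra.IsGeometricallyReduced k (FractionRing H) := by
  let kb := AlgebraicClosure k
  let F := FractionRing H
  let j : kb ⊗[k] H →ₐ[k] kb ⊗[k] F := Algebra.TensorProduct.map (AlgHom.id k kb) (IsScalarTower.toAlgHom k H F)
  have hj : Function.Injective j :=
    Module.Flat.lTensor_preserves_injective_linearMap (IsScalarTower.toAlgHom k H F).toLinearMap (IsFractionRing.injective H F)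
  have hden : ∀ w : kb ⊗[k] F, ∃ (s : H) (w' : kb ⊗[k] H), s ≠ 0 ∧ w * ((1 : kb) ⊗ₜ algebraMap H F s) = j w' := by
    intro w
    induction w using TensorProduct.induction_on with
    | zero => exact ⟨1, 0, one_ne_zero, by simp⟩
    | tmul c f =>
      obtain ⟨a, s, hs, rfl⟩ := IsFractionRing.div_surjective (A := H) f
      refine ⟨s, c ⊗ₜ a, nonZeroDivisors.ne_zero hs, ?_⟩
      rw [Algebra.TensorProduct.tmul_mul_tmul, mul_one, div_mul_cancel₀]
      · rfl
      · exact (map_ne_zero_iff _ (IsFractionRing.injective H F)).2 (nonZeroDivisors.ne_zero hs)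
    | add a b ha hb =>
      obtain ⟨s, w, hs, hw⟩ := ha
      obtain ⟨s', w', hs', hw'⟩ := hb
      refine ⟨s * s', w * ((1 : kb) ⊗ₜ s') + w' * ((1 : kb) ⊗ₜ s), mul_ne_zero hs hs', ?_⟩
      rw [map_add j, map_mul j, map_mul j, ← hw, ← hw', map_mul (algebraMap H F), show ((1 : kb) ⊗ₜ[k] (algebraMap H F s * algebraMap H F s')) =
        ((1 : kb) ⊗ₜ[k] algebraMap H F s) * ((1 : kb) ⊗ₜ[k] algebraMap H F s') by simp]
      show (a + b) * _ = a * _ * ((1 : kb) ⊗ₜ[k] algebraMap H F s') + b * _ * ((1 : kb) ⊗ₜ[k] algebraMap H F s)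
      ring
  refine (Algebra.isGeometricallyReduced_field_iff k F).2 ⟨fun w ⟨N, hN⟩ => ?_⟩
  obtain ⟨s, w', hs, hw⟩ := hden w
  have hw' : w' = 0 := IsReduced.eq_zero _ ⟨N, hj (by rw [map_pow, ← hw, mul_pow, hN, zero_mul, map_zero])⟩
  have hu : IsUnit ((1 : kb) ⊗ₜ[k] algebraMap H F s) :=
    (isUnit_iff_ne_zero.2 ((map_ne_zero_iff _ (IsFractionRing.injective H F)).2 hs)).map
      (Algebra.TensorProduct.includeRight : F →ₐ[k] kb ⊗[k] F)
  rw [hw', map_zero] at hw
  exact hu.mul_left_eq_zero.1 hw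

theorem exists_retract_data (H : Type u) [CommRing H] [IsDomain H] [Algebra k H] [Algebra.FiniteType k H]
    [IsDomain (AlgebraicClosure k ⊗[k] H)]
    (h : ∀ (A : Type u) [CommRing A] [IsDomain A] [IsDiscreteValuationRing A] [Algebra k A]
      (x : H →ₐ[k] IsLocalRing.ResidueField A), ∃ s : H →ₐ[k] A, ∀ a, IsLocalRing.residue A (s a) = x a) :
    ∃ (n : ℕ) (Q : MvPolynomial (Fin n) k) (c : H) (α : Localization.Away Q →ₐ[k] Localization.Away c)
      (β : Localization.Away c →ₐ[k] Localization.Away Q), c ≠ 0 ∧ α.comp β = AlgHom.id k _ := by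
  classical
  let F := FractionRing H
  have : Algebra.EssFiniteType H F := Algebra.EssFiniteType.of_isLocalization F (H⁰)
  have : Algebra.EssFiniteType k F := Algebra.EssFiniteType.comp k H F
  have := isGeometricallyReduced_fractionRing (k := k) H
  obtain ⟨S, hS, hsep⟩ := RegLoc6.exists_separating_transcendence k F
  let t : Fin S.card → F := fun i => (S.equivFin.symm i : F)
  have hti : AlgebraicIndependent k t := hS.1.comp _ S.equivFin.symm.injective
  have hrange : Set.range t = (S : Set F) := by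
    ext y
    exact ⟨fun ⟨i, hi⟩ => hi ▸ (S.equivFin.symm i).2, fun hy => ⟨S.equivFin ⟨y, hy⟩, by simp [t]⟩⟩
  let R := MvPolynomial (Fin S.card) k
  let E := IntermediateField.adjoin k (Set.range t)
  have hS' : Algebra.IsSeparable E F := by
    show Algebra.IsSeparable (IntermediateField.adjoin k (Set.range t)) F
    rw [hrange]; exact hsep
  have : Algebra.EssFiniteType E F := Algebra.EssFiniteType.of_comp k E F
  have : FiniteDimensional E F := Algebra.finite_of_essFiniteType_of_isAlgebraic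
  let tE : Fin S.card → E := fun i => ⟨t i, IntermediateField.subset_adjoin _ _ ⟨i, rfl⟩⟩
  let _ : Algebra R E := (MvPolynomial.aeval tE).toRingHom.toAlgebra
  have : IsScalarTower k R E := .of_algebraMap_eq fun x => ((MvPolynomial.aeval tE).commutes x).symm
  let _ : Algebra R F := (MvPolynomial.aeval t).toRingHom.toAlgebra
  have hRF : ∀ x : R, ((algebraMap R E x : E) : F) = MvPolynomial.aeval t x := fun x =>
    (MvPolynomial.comp_aeval_apply (f := tE) E.val x)
  have : IsScalarTower R E F := .of_algebraMap_eq fun x => (hRF x).symm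
  have : IsScalarTower k R F := .of_algebraMap_eq fun x => ((MvPolynomial.aeval t).commutes x).symm
  have : IsFractionRing R E := by
    let eq : FractionRing R ≃ₐ[R] E := AlgEquiv.ofRingEquiv (f := hti.aevalEquivField.toRingEquiv) fun x =>
      Subtype.ext ((hti.aevalEquivField_algebraMap_apply_coe x).trans (hRF x).symm)
    exact IsLocalization.isLocalization_of_algEquiv (R⁰) eq
  obtain ⟨θ, A, _, _, _, _, ψ, ev, hψinj, hevs, hevψ, hfrac⟩ := exists_dvr_eval (k := k) (R := R) (E := E) (F := F)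
  -- the residue field
  have hloc : IsLocalHom ev.toRingHom := ⟨fun a ha => by
    by_contra hna
    have hker : RingHom.ker ev.toRingHom = IsLocalRing.maximalIdeal A :=
      IsLocalRing.eq_maximalIdeal (RingHom.ker_isMaximal_of_surjective _ hevs)
    have : a ∈ RingHom.ker ev.toRingHom := hker ▸ (IsLocalRing.mem_maximalIdeal a).2 hna
    exact ha.ne_zero this⟩
  let res : IsLocalRing.ResidueField A →ₐ[k] F :=
    { IsLocalRing.ResidueField.lift ev.toRingHom with
      commutes' := fun r => ev.commutes r }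
  have hres : Function.Bijective res := ⟨RingHom.injective res.toRingHom, fun y => by
    obtain ⟨a, rfl⟩ := hevs y
    exact ⟨IsLocalRing.residue A a, rfl⟩⟩
  obtain ⟨s, hs⟩ := h A ((AlgEquiv.ofBijective res hres).symm.toAlgHom.comp (IsScalarTower.toAlgHom k H F))
  have hevs' : ∀ a, ev (s a) = algebraMap H F a := fun a => by
    show res (IsLocalRing.residue A (s a)) = _
    rw [hs]
    exact (AlgEquiv.ofBijective res hres).apply_symm_apply _
  -- coordinates
  let P := MvPolynomial (Fin (S.card + 1)) k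
  let π := MvPolynomial.finSuccEquiv k S.card
  let ψP : P →ₐ[k] A := ψ.comp π.toAlgHom
  let evP : P →ₐ[k] F := ev.comp ψP
  have hψP : Function.Injective ψP := hψinj.comp π.injective
  have hfrac' : ∀ a : A, ∃ G Q : P, evP Q ≠ 0 ∧ a * ψP Q = ψP G := fun a => by
    obtain ⟨G, Q, hQ, ha⟩ := hfrac a
    exact ⟨π.symm G, π.symm Q, by simpa [evP, ψP, hevψ] using hQ, by simpa [ψP] using ha⟩
  obtain ⟨gen, hgen⟩ := Algebra.FiniteType.out (R := k) (A := H)
  -- a common denominator
  choose G Q hQ hGQ using hfrac'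
  let Q₁ : P := ∏ a ∈ gen, Q (s a)
  have hQ₁ : evP Q₁ ≠ 0 := by
    rw [map_prod]; exact Finset.prod_ne_zero_iff.2 fun a _ => hQ _
  have hnum : ∀ a : H, ∃ (N : ℕ) (g : P), s a * ψP Q₁ ^ N = ψP g := fun a => by
    have ha : a ∈ Algebra.adjoin k (gen : Set H) := hgen ▸ Algebra.mem_top
    induction ha using Algebra.adjoin_induction with
    | mem x hx =>
      refine ⟨1, G (s x) * ∏ b ∈ gen.erase x, Q (s b), ?_⟩
      rw [pow_one, map_mul, ← hGQ, show Q₁ = Q (s x) * ∏ b ∈ gen.erase x, Q (s b) from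
        (Finset.mul_prod_erase _ (fun b => Q (s b)) hx).symm, map_mul, mul_assoc]
    | algebraMap r => exact ⟨0, algebraMap k P r, by rw [pow_zero, mul_one, AlgHom.commutes, AlgHom.commutes]⟩
    | add x y _ _ hx hy =>
      obtain ⟨N, g, hg⟩ := hx
      obtain ⟨N', g', hg'⟩ := hy
      refine ⟨N + N', g * Q₁ ^ N' + g' * Q₁ ^ N, ?_⟩
      rw [map_add, map_add, map_mul, map_mul, ← hg, ← hg', map_pow, map_pow, pow_add]
      ring
    | mul x y _ _ hx hy =>
      obtain ⟨N, g, hg⟩ := hx
      obtain ⟨N', g', hg'⟩ := hy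
      refine ⟨N + N', g * g', ?_⟩
      rw [map_mul, map_mul, ← hg, ← hg', pow_add]
      ring
  -- `evP` on a basic open subset of the torus
  obtain ⟨c₀, hc₀⟩ := IsLocalization.exist_integer_multiples_of_finset (H⁰) (Finset.univ.image fun i => evP (MvPolynomial.X i))
  have hc₀0 : (c₀ : H) ≠ 0 := nonZeroDivisors.ne_zero c₀.2
  obtain ⟨q₁, d, hd, hq₁⟩ := IsFractionRing.div_surjective (A := H) (evP Q₁)
  have hd0 : d ≠ 0 := nonZeroDivisors.ne_zero hd
  have hq₁0 : q₁ ≠ 0 := fun h => hQ₁ (by rw [← hq₁, h, map_zero, zero_div])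
  let c : H := (c₀ : H) * (q₁ * d)
  have hc : c ≠ 0 := mul_ne_zero hc₀0 (mul_ne_zero hq₁0 hd0)
  let Hc := Localization.Away c
  let toF : Hc →ₐ[H] F := IsLocalization.liftAlgHom (M := Submonoid.powers c) (f := Algebra.ofId H F) fun y => by
    obtain ⟨N, hN⟩ := y.2
    exact isUnit_iff_ne_zero.2 ((map_ne_zero_iff _ (IsFractionRing.injective H F)).2 (hN ▸ pow_ne_zero _ hc))
  have htoF : Function.Injective toF := (injective_iff_map_eq_zero _).2 fun y hy => by
    obtain ⟨⟨a, m⟩, hm⟩ := IsLocalization.surj (Submonoid.powers c) y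
    have : algebraMap H F a = 0 := by rw [← toF.commutes, ← hm, map_mul, hy, zero_mul]
    rw [IsFractionRing.injective H F (this.trans (map_zero _).symm), map_zero] at hm
    exact (IsLocalization.map_units Hc m).mul_left_eq_zero.1 hm
  have hcu : IsUnit (algebraMap H Hc c) := IsLocalization.map_units Hc ⟨c, Submonoid.mem_powers c⟩
  simp only [c, map_mul, IsUnit.mul_iff] at hcu
  have hX : ∀ i, ∃ y : Hc, toF y = evP (MvPolynomial.X i) := fun i => by
    obtain ⟨b, hb⟩ := hc₀ (evP (MvPolynomial.X i)) (Finset.mem_image_of_mem _ (Finset.mem_univ i))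
    refine ⟨algebraMap H Hc b * ↑hcu.1.unit⁻¹, ?_⟩
    have h1 := congrArg toF hcu.1.unit.mul_inv
    rw [map_mul, map_one, IsUnit.unit_spec, toF.commutes] at h1
    rw [map_mul, toF.commutes, hb, Algebra.smul_def, mul_right_comm, h1, one_mul]
  choose y hy using hX
  let α₀ : P →ₐ[k] Hc := MvPolynomial.aeval y
  have hα₀ : ∀ g, toF (α₀ g) = evP g := fun g => by
    have : (toF.restrictScalars k).comp α₀ = evP := MvPolynomial.algHom_ext fun i => by simp [α₀, hy]
    exact DFunLike.congr_fun this g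
  have hQ₁u : IsUnit (α₀ Q₁) := by
    have e : α₀ Q₁ * algebraMap H Hc d = algebraMap H Hc q₁ := htoF (by
      rw [map_mul, hα₀, toF.commutes, toF.commutes, ← hq₁,
        div_mul_cancel₀ _ ((map_ne_zero_iff _ (IsFractionRing.injective H F)).2 hd0)])
    exact isUnit_of_mul_isUnit_left (e ▸ hcu.2.1)
  obtain ⟨Nc, gc, hgc⟩ := hnum c
  let Q₂ : P := Q₁ * gc
  have key : ∀ (a : H) (N : ℕ) (g : P), s a * ψP Q₁ ^ N = ψP g →
      algebraMap H Hc a * α₀ Q₁ ^ N = α₀ g := fun a N g e => htoF (by
    rw [map_mul, map_pow, toF.commutes, hα₀, hα₀]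
    show algebraMap H F a * ev (ψP Q₁) ^ N = ev (ψP g)
    rw [← hevs', ← e, map_mul, map_pow])
  have hQ₂u : IsUnit (α₀ Q₂) := by
    rw [map_mul, ← key c Nc gc hgc]
    exact hQ₁u.mul ((IsLocalization.map_units Hc ⟨c, Submonoid.mem_powers c⟩).mul (hQ₁u.pow _))
  let α : Localization.Away Q₂ →ₐ[k] Hc := IsLocalization.liftAlgHom (M := Submonoid.powers Q₂) (f := α₀) fun z => by
    obtain ⟨N, hN⟩ := z.2
    rw [← hN]
    show IsUnit (α₀ (Q₂ ^ N))
    rw [map_pow]
    exact hQ₂u.pow N
  have hαP : ∀ g, α (algebraMap P _ g) = α₀ g := fun g => IsLocalization.lift_eq _ g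
  -- the rational map to the torus
  let L := Localization.Away Q₂
  let K := FractionRing A
  have hψP0 : ∀ g : P, g ≠ 0 → IsUnit (algebraMap A K (ψP g)) := fun g hg =>
    isUnit_iff_ne_zero.2 ((map_ne_zero_iff _ (IsFractionRing.injective A K)).2 ((map_ne_zero_iff _ hψP).2 hg))
  have : Nontrivial Hc := toF.toRingHom.domain_nontrivial
  have hgc0 : gc ≠ 0 := fun h => hQ₂u.ne_zero (by simp [Q₂, h])
  have hQ₁0 : Q₁ ≠ 0 := fun h => hQ₁ (by rw [h, map_zero])
  have hQ₂0 : Q₂ ≠ 0 := mul_ne_zero hQ₁0 hgc0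
  let iL : L →ₐ[k] K := IsLocalization.liftAlgHom (M := Submonoid.powers Q₂)
    (f := (IsScalarTower.toAlgHom k A K).comp ψP) fun z => by
    obtain ⟨N, hN⟩ := z.2
    exact hψP0 _ (hN ▸ pow_ne_zero _ hQ₂0)
  have hiLP : ∀ g, iL (algebraMap P L g) = algebraMap A K (ψP g) := fun g => IsLocalization.lift_eq _ g
  have hiL : Function.Injective iL := (injective_iff_map_eq_zero _).2 fun z hz => by
    obtain ⟨⟨g, m⟩, hm⟩ := IsLocalization.surj (Submonoid.powers Q₂) z
    have : algebraMap A K (ψP g) = 0 := by rw [← hiLP, ← hm, map_mul, hz, zero_mul]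
    rw [hψP ((IsFractionRing.injective A K (this.trans (map_zero _).symm)).trans (map_zero _).symm), map_zero] at hm
    exact (IsLocalization.map_units L m).mul_left_eq_zero.1 hm
  have hLQ₂ : IsUnit (algebraMap P L Q₂) := IsLocalization.map_units L ⟨Q₂, Submonoid.mem_powers _⟩
  rw [map_mul, IsUnit.mul_iff] at hLQ₂
  have hmem : ∀ a : H, algebraMap A K (s a) ∈ iL.range := fun a => by
    obtain ⟨N, g, hg⟩ := hnum a
    refine ⟨algebraMap P L g * ↑(hLQ₂.1.unit ^ N)⁻¹, ?_⟩
    have h1 := congrArg iL (hLQ₂.1.unit ^ N).mul_inv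
    rw [map_mul, map_one, Units.val_pow_eq_pow_val, IsUnit.unit_spec, map_pow, hiLP] at h1
    show iL _ = _
    rw [map_mul, hiLP, ← hg, map_mul, map_pow, mul_assoc, h1, mul_one]
  let β₀ : H →ₐ[k] L := (AlgEquiv.ofInjective iL hiL).symm.toAlgHom.comp
    (((IsScalarTower.toAlgHom k A K).comp s).codRestrict iL.range hmem)
  have hβ₀ : ∀ a, iL (β₀ a) = algebraMap A K (s a) := fun a => by
    show ((AlgEquiv.ofInjective iL hiL) ((AlgEquiv.ofInjective iL hiL).symm _) : K) = _
    rw [AlgEquiv.apply_symm_apply]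
    rfl
  have hβc : IsUnit (β₀ c) := by
    have e : β₀ c * algebraMap P L Q₁ ^ Nc = algebraMap P L gc := hiL (by
      rw [map_mul, map_pow, hβ₀, hiLP, hiLP, ← map_pow, ← map_mul, hgc])
    exact isUnit_of_mul_isUnit_left (e ▸ hLQ₂.2)
  let β : Hc →ₐ[k] L := IsLocalization.liftAlgHom (M := Submonoid.powers c) (f := β₀) fun z => by
    obtain ⟨N, hN⟩ := z.2
    rw [← hN]
    show IsUnit (β₀ (c ^ N))
    rw [map_pow]
    exact hβc.pow N
  refine ⟨_, Q₂, c, α, β, hc, IsLocalization.algHom_ext (Submonoid.powers c) (AlgHom.ext fun a => ?_)⟩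
  show α (β (algebraMap H Hc a)) = algebraMap H Hc a
  rw [show β (algebraMap H Hc a) = β₀ a from IsLocalization.lift_eq _ a]
  obtain ⟨N, g, hg⟩ := hnum a
  have e : β₀ a * algebraMap P L Q₁ ^ N = algebraMap P L g := hiL (by
    rw [map_mul, map_pow, hβ₀, hiLP, hiLP, ← map_pow, ← map_mul, hg])
  have h2 := congrArg α e
  rw [map_mul, map_pow, hαP, hαP, ← key a N g hg] at h2
  exact (hQ₁u.pow N).mul_left_injective h2

end Groth.Agent.GalTori.FromDVR
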