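import Groth.Agent.AGFRoot.TorusSplit
import Groth.Prelude.Def_TwC
import Groth.Agent.MultTypeLib.Basic
import Mathlib.RingTheory.DiscreteValuationRing.Basic
import Mathlib.RingTheory.Unramified.Field
import Mathlib.RingTheory.Invariant.Basic
import Mathlib.FieldTheory.Normal.Closure
import Mathlib.RingTheory.Ideal.GoingUp

/-! Galois models for isotrivial tori over a discrete valuation ring. -/

universe u

open CategoryTheory CategoryTheory.Limits AlgebraicGeometry TensorProduct

namespace Groth.Agent.GalTori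

open GrpSchLib.AffineHopf GrpSchLib.MultTypeBC

variable (A : Type u) [CommRing A] [IsDomain A]

/-- A finite étale algebra over a local ring splitting an isotrivial torus. -/
theorem exists_split_etale [IsLocalRing A] (T : Over (Spec (CommRingCat.of A))) [GrpObj T]
    (hT : ∃ r : ℕ, TwC.Locally (Spec (CommRingCat.of A)) .finiteEtale
        (fun S' g => Red.IsSplitTorusWith (Fin r → ℤ) (Red.bc g T))) :
    ∃ (r : ℕ) (C : Type u) (_ : CommRing C) (_ : Algebra A C) (_ : Module.Finite A C) (_ : Algebra.Etale A C)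
      (_ : Module.FaithfullyFlat A C),
      Red.IsSplitTorusWith (Fin r → ℤ) (Red.bc (Spec.map (CommRingCat.ofHom (algebraMap A C))) T) := by
  obtain ⟨r, S', f, hfin, het, hs, hloc⟩ := hT
  obtain ⟨s', hs'⟩ := f.surjective (IsLocalRing.closedPoint A)
  obtain ⟨U, hU, hUc, ⟨e⟩⟩ := hloc s'
  have : IsClosedImmersion U.ι := IsClosedImmersion.of_isPreimmersion _ (by rw [Scheme.Opens.range_ι]; exact hUc)
  let p : (U : Scheme.{u}) ⟶ Spec (CommRingCat.of A) := U.ι ≫ f
  have : IsFinite p := inferInstanceAs (IsFinite (U.ι ≫ f))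
  have : Etale p := inferInstanceAs (Etale (U.ι ≫ f))
  have : IsAffine (U : Scheme.{u}) := isAffine_of_isAffineHom p
  let C := Γ((U : Scheme.{u}), ⊤)
  let j := (U : Scheme.{u}).isoSpec.inv
  obtain ⟨φ, hφ⟩ : ∃ φ : CommRingCat.of A ⟶ C, Spec.map φ = j ≫ p := ⟨Spec.preimage _, Spec.map_preimage _⟩
  let _ : Algebra A C := φ.hom.toAlgebra
  have : IsFinite (Spec.map φ) := hφ ▸ inferInstance
  have : Module.Finite A C := RingHom.finite_algebraMap.1 ((IsFinite.SpecMap_iff _).1 ‹IsFinite (Spec.map φ)›)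
  have : Etale (Spec.map φ) := hφ ▸ inferInstance
  have : Algebra.Etale A C := by
    rw [← RingHom.etale_algebraMap]
    exact (HasRingHomProperty.Spec_iff (P := @Etale)).1 ‹Etale (Spec.map φ)›
  let q : Spec C := (U : Scheme.{u}).isoSpec.hom ⟨s', hU⟩
  have hq : (Spec.map φ) q = IsLocalRing.closedPoint A := by
    have h : (U : Scheme.{u}).isoSpec.hom ≫ Spec.map φ = U.ι ≫ f := by rw [hφ]; exact Iso.hom_inv_id_assoc _ _
    exact (congrArg (fun g : (U : Scheme.{u}) ⟶ Spec (CommRingCat.of A) => g ⟨s', hU⟩) h).trans hs'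
  have : Module.FaithfullyFlat A C := by
    refine Module.FaithfullyFlat.of_comap_surjective fun P => ?_
    obtain ⟨Q, -, hQ⟩ := Flat.generalizingMap (Spec.map φ)
      (show (P : Spec (CommRingCat.of A)) ⤳ (Spec.map φ) q from hq ▸ IsLocalRing.specializes_closedPoint P)
    exact ⟨Q, hQ⟩
  obtain ⟨a⟩ := bc_bc j p T
  obtain ⟨b⟩ := bc_iso j e
  obtain ⟨c⟩ := bc_DS j (Fin r → ℤ)
  obtain ⟨d⟩ := bc_congr (show Spec.map (CommRingCat.ofHom (algebraMap A C)) = j ≫ p from hφ) T
  exact ⟨r, C, inferInstance, φ.hom.toAlgebra, inferInstance, inferInstance, inferInstance, ⟨d ≪≫ a.symm ≪≫ b ≪≫ c⟩⟩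

/-- The Hopf algebra of a torus split by a faithfully flat algebra. -/
theorem exists_hopf_split {r : ℕ} (T : Over (Spec (CommRingCat.of A))) [GrpObj T] (C : Type u) [CommRing C]
    [Algebra A C] [Module.FaithfullyFlat A C]
    (hs : Red.IsSplitTorusWith (Fin r → ℤ) (Red.bc (Spec.map (CommRingCat.ofHom (algebraMap A C))) T)) :
    ∃ (H : Type u) (_ : CommRing H) (_ : HopfAlgebra A H),
      Nonempty (Grp.mk (sp A H) ≅ Grp.mk T) ∧
      Nonempty (C ⊗[A] H ≃ₐc[C] MonoidAlgebra C (TorusPts.Lat.{u} r)) := by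
  obtain ⟨s⟩ := hs
  let φ := Spec.map (CommRingCat.ofHom (algebraMap A C))
  obtain ⟨d⟩ := nonempty_DS_iso C (Fin r → ℤ)
  have : IsAffine T.left := by
    have : IsAffine (pullback T.hom φ) :=
      @IsAffine.of_isIso _ _ ((Over.forget _).mapIso ((Grp.forget _).mapIso (s.trans d.symm))).hom
        (Iso.isIso_hom _) (isAffine_Spec _)
    have hA' : IsAffineHom (pullback.snd T.hom φ) := isAffineHom_of_isAffine (pullback.snd T.hom φ)
    have := EtFound.fpqc_isAffineHom.{u}
    have : Surjective φ := ⟨PrimeSpectrum.comap_surjective_of_faithfullyFlat⟩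
    have : Flat φ := by
      rw [Flat.SpecMap_iff]
      exact RingHom.flat_algebraMap_iff.2 inferInstance
    have : IsAffineHom T.hom := MorphismProperty.of_pullback_snd_of_descendsAlong
      (Q := (@Surjective ⊓ @Flat ⊓ @QuasiCompact : MorphismProperty Scheme.{u}))
      ⟨⟨‹_›, ‹_›⟩, inferInstance⟩ hA'
    exact isAffine_of_isAffineHom T.hom
  obtain ⟨H, _, _, ⟨t⟩⟩ := exists_hopf T
  obtain ⟨b⟩ := nonempty_bc_sp (R := A) C H
  obtain ⟨e⟩ := TorusPts.exists_bialgEquiv (b.symm.trans (((Over.pullback φ).mapGrp.mapIso t).trans (s.trans d.symm)))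
  exact ⟨H, inferInstance, inferInstance, ⟨t⟩, ⟨e.trans (MonoidAlgebra.domCongrBialgEquiv C C MulEquiv.ulift.symm)⟩⟩

/-- Subalgebras generated by two unramified finite subalgebras. -/
theorem unramified_sup {L : Type u} [CommRing L] [Algebra A L] (S₁ S₂ : Subalgebra A L)
    [Module.Finite A S₁] [Module.Finite A S₂] [Algebra.FormallyUnramified A S₁] [Algebra.FormallyUnramified A S₂] :
    Module.Finite A ↥(S₁ ⊔ S₂) ∧ Algebra.FormallyUnramified A ↥(S₁ ⊔ S₂) := by
  let ψ : S₁ ⊗[A] S₂ →ₐ[A] L := Algebra.TensorProduct.productMap S₁.val S₂.val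
  have hψ : ψ.range = S₁ ⊔ S₂ := by
    rw [Algebra.TensorProduct.productMap_range, Subalgebra.range_val, Subalgebra.range_val]
  have : Algebra.FormallyUnramified A (S₁ ⊗[A] S₂) := Algebra.FormallyUnramified.comp A S₁ (S₁ ⊗[A] S₂)
  rw [← hψ]
  exact ⟨Module.Finite.of_surjective ψ.rangeRestrict.toLinearMap ψ.rangeRestrict_surjective,
    Algebra.FormallyUnramified.of_surjective ψ.rangeRestrict ψ.rangeRestrict_surjective⟩

set_option maxHeartbeats 2000000 in
/-- A Galois model of a finite unramified algebra over a normal domain: a domain with a group action. -/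
theorem exists_galois_domain [IsIntegrallyClosed A] (C : Type u) [CommRing C] [Algebra A C] [Module.Finite A C]
    [Algebra.FormallyUnramified A C] [Module.FaithfullyFlat A C] :
    ∃ (B : Type u) (_ : CommRing B) (_ : IsDomain B) (_ : Algebra A B) (_ : Algebra C B) (_ : IsScalarTower A C B)
      (_ : Module.Finite A B) (_ : Algebra.FormallyUnramified A B)
      (G : Type u) (_ : Group G) (_ : Finite G) (_ : MulSemiringAction G B) (_ : SMulCommClass G A B),
      Function.Injective (algebraMap A B) ∧ Algebra.IsInvariant A B G := by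
  classical
  obtain ⟨q, hq⟩ := PrimeSpectrum.comap_surjective_of_faithfullyFlat (A := A) (B := C) ⟨⊥, Ideal.bot_prime⟩
  have hqA : q.asIdeal.comap (algebraMap A C) = ⊥ := congrArg PrimeSpectrum.asIdeal hq
  let C₁ := C ⧸ q.asIdeal
  have : IsDomain C₁ := Ideal.Quotient.isDomain _
  have : Module.Finite A C₁ := Module.Finite.of_surjective (Ideal.Quotient.mkₐ A q.asIdeal).toLinearMap Ideal.Quotient.mk_surjective
  have : Algebra.FormallyUnramified A C₁ :=
    Algebra.FormallyUnramified.of_surjective (Ideal.Quotient.mkₐ A q.asIdeal) Ideal.Quotient.mk_surjective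
  have hinj1 : Function.Injective (algebraMap A C₁) := (injective_iff_map_eq_zero _).2 fun a ha => by
    have : a ∈ q.asIdeal.comap (algebraMap A C) := (Ideal.Quotient.eq_zero_iff_mem (I := q.asIdeal)).1 ha
    rwa [hqA, Ideal.mem_bot] at this
  let K := FractionRing A
  let L₁ := FractionRing C₁
  have : FaithfulSMul A C₁ := (faithfulSMul_iff_algebraMap_injective A C₁).2 hinj1
  let _ : Algebra K L₁ := FractionRing.liftAlgebra A L₁
  have : FiniteDimensional K L₁ :=
    Module.Finite.of_isLocalization (R := A) (S := C₁) (Rₚ := K) (Sₚ := L₁) (nonZeroDivisors A)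
  have : Algebra.FormallyUnramified A L₁ := by
    have : Algebra.FormallyUnramified C₁ L₁ := Algebra.FormallyUnramified.of_isLocalization (nonZeroDivisors C₁)
    exact Algebra.FormallyUnramified.comp A C₁ L₁
  have : Algebra.FormallyUnramified K L₁ := Algebra.FormallyUnramified.of_restrictScalars A K L₁
  have : Algebra.IsSeparable K L₁ := Algebra.FormallyUnramified.isSeparable K L₁
  let E := AlgebraicClosure L₁
  have : IsAlgClosure K E := ⟨inferInstance, Algebra.IsAlgebraic.trans K L₁ E⟩
  have : Normal K E := IsAlgClosure.normal K E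
  let L := IntermediateField.normalClosure K L₁ E
  have : Algebra.IsSeparable K L := by
    rw [← le_separableClosure_iff]
    show (⨆ f : L₁ →ₐ[K] E, f.fieldRange) ≤ _
    refine iSup_le fun f => ?_
    rw [le_separableClosure_iff]
    exact AlgEquiv.Algebra.isSeparable (AlgEquiv.ofInjectiveField f)
  have : IsGalois K L := isGalois_iff.mpr ⟨inferInstance, inferInstance⟩
  letI : DecidableEq (L₁ →ₐ[K] L) := Classical.decEq _
  letI : Fintype (L₁ →ₐ[K] L) := Fintype.ofFinite _
  -- the subalgebra generated by the conjugates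
  let emb : (L₁ →ₐ[K] L) → Subalgebra A L := fun f =>
    ((f.restrictScalars A).comp (IsScalarTower.toAlgHom A C₁ L₁)).range
  have hemb : ∀ s : Finset (L₁ →ₐ[K] L), Module.Finite A ↥(s.sup emb) ∧ Algebra.FormallyUnramified A ↥(s.sup emb) := by
    intro s
    induction s using Finset.induction_on with
    | empty =>
      rw [Finset.sup_empty]
      exact ⟨Module.Finite.of_surjective (Algebra.ofId A (⊥ : Subalgebra A L)).toLinearMap
          (fun ⟨x, hx⟩ => by obtain ⟨a, rfl⟩ := Algebra.mem_bot.1 hx; exact ⟨a, rfl⟩),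
        Algebra.FormallyUnramified.of_surjective (Algebra.ofId A (⊥ : Subalgebra A L))
          (fun ⟨x, hx⟩ => by obtain ⟨a, rfl⟩ := Algebra.mem_bot.1 hx; exact ⟨a, rfl⟩)⟩
    | insert f s hf ih =>
      rw [Finset.sup_insert]
      have := ih.1
      have := ih.2
      let ψ := (f.restrictScalars A).comp (IsScalarTower.toAlgHom A C₁ L₁)
      have : Module.Finite A ↥(emb f) := Module.Finite.of_surjective ψ.rangeRestrict.toLinearMap ψ.rangeRestrict_surjective
      have : Algebra.FormallyUnramified A ↥(emb f) := Algebra.FormallyUnramified.of_surjective ψ.rangeRestrict ψ.rangeRestrict_surjective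
      exact unramified_sup A (emb f) (s.sup emb)
  let B : Subalgebra A L := Finset.univ.sup emb
  obtain ⟨hBfin, hBunr⟩ := hemb Finset.univ
  have hstab : ∀ (σ : L ≃ₐ[K] L) (x : L), x ∈ B → σ x ∈ B := by
    intro σ x hx
    have hle : B ≤ B.comap (σ.toAlgHom.restrictScalars A) := Finset.sup_le fun f _ => by
      rintro _ ⟨c, rfl⟩
      exact (Finset.le_sup (f := emb) (Finset.mem_univ (σ.toAlgHom.comp f))) ⟨c, rfl⟩
    exact hle hx
  let act : MulSemiringAction (L ≃ₐ[K] L) B :=
    { smul := fun σ x => ⟨σ x.1, hstab σ _ x.2⟩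
      one_smul := fun x => rfl
      mul_smul := fun σ τ x => rfl
      smul_zero := fun σ => Subtype.ext (map_zero σ)
      smul_add := fun σ x y => Subtype.ext (map_add σ x.1 y.1)
      smul_one := fun σ => Subtype.ext (map_one σ)
      smul_mul := fun σ x y => Subtype.ext (map_mul σ x.1 y.1) }
  have hcomm : SMulCommClass (L ≃ₐ[K] L) A B := ⟨fun σ a x => Subtype.ext (by
    show σ (a • x.1) = a • σ x.1
    rw [Algebra.smul_def, Algebra.smul_def, map_mul, IsScalarTower.algebraMap_apply A K L, AlgEquiv.commutes])⟩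
  have hinjAL : Function.Injective (algebraMap A L) := by
    rw [IsScalarTower.algebraMap_eq A K L]
    exact (algebraMap K L).injective.comp (IsFractionRing.injective A K)
  have : Algebra.IsInvariant A B (L ≃ₐ[K] L) := ⟨fun x hx => by
    obtain ⟨c, hc⟩ := IntermediateField.mem_bot.mp ((IsGalois.mem_bot_iff_fixed x.1).mpr fun σ => congrArg Subtype.val (hx σ))
    have hint : IsIntegral A x := IsIntegral.of_finite A x
    have hintc : IsIntegral A c := by
      have : IsIntegral A (algebraMap K L c) := hc ▸ hint.map B.val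
      exact (isIntegral_algebraMap_iff (algebraMap K L).injective).1 this
    obtain ⟨a, rfl⟩ := (IsIntegrallyClosed.isIntegral_iff).1 hintc
    exact ⟨a, Subtype.ext (by rw [← hc, ← IsScalarTower.algebraMap_apply A K L]; rfl)⟩⟩
  obtain ⟨f₀⟩ : Nonempty (L₁ →ₐ[K] L) := ⟨(IsScalarTower.toAlgHom K L₁ E).codRestrict L.toSubalgebra fun y =>
    (AlgHom.fieldRange_le_normalClosure (IsScalarTower.toAlgHom K L₁ E)) ⟨y, rfl⟩⟩
  let g : C →ₐ[A] B := (((f₀.restrictScalars A).comp (IsScalarTower.toAlgHom A C₁ L₁)).comp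
    (Ideal.Quotient.mkₐ A q.asIdeal)).codRestrict B fun c =>
      Finset.le_sup (f := emb) (Finset.mem_univ f₀) ⟨Ideal.Quotient.mk _ c, rfl⟩
  let _ : Algebra C B := g.toRingHom.toAlgebra
  have : IsScalarTower A C B := .of_algebraMap_eq fun a => (g.commutes a).symm
  exact ⟨B, inferInstance, inferInstance, inferInstance, g.toRingHom.toAlgebra, inferInstance, hBfin, hBunr,
    L ≃ₐ[K] L, inferInstance, inferInstance, act, hcomm,
    fun a b h => hinjAL (congrArg Subtype.val h), inferInstance⟩

end Groth.Agent.GalTori
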