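import Mathlib.RingTheory.DedekindDomain.AdicValuation
import Mathlib.RingTheory.DiscreteValuationRing.Basic
import Mathlib.RingTheory.Unramified.Field
import Mathlib.RingTheory.Unramified.LocalRing
import Mathlib.RingTheory.Invariant.Basic
import Mathlib.RingTheory.Ideal.GoingUp
import Mathlib.RingTheory.Flat.Basic

/-! Places of a Galois model of a discrete valuation ring and of its completion. -/

universe u

open TensorProduct IsDedekindDomain
open scoped Pointwise

namespace Groth.Agent.GalTori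

variable (A : Type u) [CommRing A] [IsDomain A] [IsDiscreteValuationRing A]
  (v : IsDedekindDomain.HeightOneSpectrum A) {ϖ : A} (hϖ : Irreducible ϖ)

local notation "Ah" => HeightOneSpectrum.adicCompletionIntegers (FractionRing A) v
local notation "Kh" => HeightOneSpectrum.adicCompletion (FractionRing A) v

include hϖ in
theorem asIdeal_eq : v.asIdeal = Ideal.span {ϖ} := by
  rw [IsLocalRing.eq_maximalIdeal v.isMaximal]
  exact hϖ.maximalIdeal_eq

include hϖ in
theorem valued_uniformizer :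
    Valued.v (algebraMap A Kh ϖ) = WithZero.exp (-1 : ℤ) := by
  rw [show algebraMap A Kh ϖ = ((algebraMap A (FractionRing A) ϖ : FractionRing A) : Kh) from rfl,
    HeightOneSpectrum.valuedAdicCompletion_eq_valuation', HeightOneSpectrum.valuation_of_algebraMap,
    HeightOneSpectrum.intValuation_singleton _ hϖ.ne_zero (asIdeal_eq A v hϖ)]

include hϖ in
theorem not_isUnit_uniformizer : ¬ IsUnit (algebraMap A Ah ϖ) := by
  rw [HeightOneSpectrum.adicCompletionIntegers.isUnit_iff_valued_eq_one]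
  show ¬ Valued.v (algebraMap A Kh ϖ) = 1
  rw [valued_uniformizer A v hϖ, ← WithZero.exp_zero]
  simp

include hϖ in
theorem exists_residue (x : Ah) : ∃ (r : A) (y : Ah), x = algebraMap A Ah r + algebraMap A Ah ϖ * y := by
  obtain ⟨k, hk⟩ : ∃ k : FractionRing A, Valued.v ((x : Kh) - algebraMap (FractionRing A) Kh k) < 1 := by
    have hnhds : {y : Kh | Valued.v ((x : Kh) - y) < 1} ∈ nhds (x : Kh) := by
      rw [Valued.mem_nhds]
      refine ⟨1, fun y hy => ?_⟩
      simp only [Set.mem_setOf_eq] at hy ⊢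
      rw [← Valuation.map_neg, neg_sub]
      simpa using hy
    obtain ⟨w, hw, hwo⟩ := mem_nhds_iff.1 hnhds |>.imp fun o ho => (show o ⊆ _ ∧ (IsOpen o ∧ (x : Kh) ∈ o) from ho)
    obtain ⟨k, hk⟩ := (HeightOneSpectrum.denseRange_algebraMap (K := FractionRing A) (v := v)).exists_mem_open hwo.1 ⟨_, hwo.2⟩
    exact ⟨k, hw hk⟩
  have hk1 : v.valuation (FractionRing A) k ≤ 1 := by
    rw [← HeightOneSpectrum.valuedAdicCompletion_eq_valuation']
    have h : algebraMap (FractionRing A) Kh k = (x : Kh) - ((x : Kh) - algebraMap (FractionRing A) Kh k) := by ring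
    show Valued.v (algebraMap (FractionRing A) Kh k) ≤ 1
    rw [h]
    exact (Valuation.map_sub _ _ _).trans (max_le x.2 hk.le)
  obtain ⟨r, hr⟩ := HeightOneSpectrum.mem_integers_of_valuation_le_one (FractionRing A) k fun w => by
    have : w = v := HeightOneSpectrum.ext ((IsLocalRing.eq_maximalIdeal w.isMaximal).trans (IsLocalRing.eq_maximalIdeal v.isMaximal).symm)
    rw [this]; exact hk1
  have hϖ0 : (algebraMap A Kh ϖ) ≠ 0 := fun h => by
    have := valued_uniformizer A v hϖ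
    rw [h, map_zero] at this
    exact WithZero.exp_ne_zero this.symm
  let y₀ : Kh := ((x : Kh) - algebraMap A Kh r) / algebraMap A Kh ϖ
  have hy : Valued.v y₀ ≤ 1 := by
    have hlt : Valued.v ((x : Kh) - algebraMap A Kh r) ≤ WithZero.exp (-1 : ℤ) := by
      have : algebraMap A Kh r = algebraMap (FractionRing A) Kh k := by rw [← hr]; rfl
      rw [this]
      rcases eq_or_ne (Valued.v ((x : Kh) - algebraMap (FractionRing A) Kh k)) 0 with h0 | h0
      · rw [h0]; exact zero_le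
      · rw [← WithZero.exp_log h0] at hk ⊢
        rw [← WithZero.exp_zero, WithZero.exp_lt_exp] at hk
        rw [WithZero.exp_le_exp]
        omega
    rw [map_div₀, valued_uniformizer A v hϖ]
    exact div_le_one_of_le₀ hlt zero_le
  refine ⟨r, ⟨y₀, hy⟩, Subtype.ext ?_⟩
  show (x : Kh) = algebraMap A Kh r + algebraMap A Kh ϖ * y₀
  rw [mul_div_cancel₀ _ hϖ0]
  ring

section model

variable (B : Type u) [CommRing B] [IsDomain B] [Algebra A B] [Module.Finite A B] [Algebra.FormallyUnramified A B]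
  (G : Type u) [Group G] [Finite G] [MulSemiringAction G B] [SMulCommClass G A B] [Algebra.IsInvariant A B G]
  (hinj : Function.Injective (algebraMap A B))

include hϖ in
theorem mem_of_isMaximal (P : Ideal B) [P.IsMaximal] : algebraMap A B ϖ ∈ P := by
  have h := IsLocalRing.eq_maximalIdeal (Ideal.isMaximal_comap_of_isIntegral_of_isMaximal (R := A) P)
  have : ϖ ∈ P.comap (algebraMap A B) := by rw [h, hϖ.maximalIdeal_eq]; exact Ideal.mem_span_singleton_self ϖ
  exact this

include hϖ in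
theorem isReduced_quotient : IsReduced (B ⧸ Ideal.span {algebraMap A B ϖ}) ∧ Finite (MaximalSpectrum B) ∧
    (∀ P : Ideal B, P.IsPrime → algebraMap A B ϖ ∈ P → P.IsMaximal) := by
  let m := Ideal.span ({ϖ} : Set A)
  have : m.IsMaximal := by rw [show m = _ from hϖ.maximalIdeal_eq.symm]; infer_instance
  let _ := Ideal.Quotient.field m
  let Bq := B ⧸ m.map (algebraMap A B)
  have hm : m.map (algebraMap A B) = Ideal.span {algebraMap A B ϖ} := by rw [Ideal.map_span, Set.image_singleton]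
  let _ : Algebra (A ⧸ m) Bq := (Ideal.quotientMap _ (algebraMap A B) Ideal.le_comap_map).toAlgebra
  have : IsScalarTower A (A ⧸ m) Bq := .of_algebraMap_eq fun _ => rfl
  have : Module.Finite A Bq := Module.Finite.of_surjective (Ideal.Quotient.mkₐ A _).toLinearMap Ideal.Quotient.mk_surjective
  have : Module.Finite (A ⧸ m) Bq := Module.Finite.of_restrictScalars_finite A _ _
  have : Algebra.FormallyUnramified A Bq :=
    Algebra.FormallyUnramified.of_surjective (Ideal.Quotient.mkₐ A _) Ideal.Quotient.mk_surjective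
  have : Algebra.FormallyUnramified (A ⧸ m) Bq := Algebra.FormallyUnramified.of_restrictScalars A (A ⧸ m) Bq
  have hred : IsReduced Bq := Algebra.FormallyUnramified.isReduced_of_field (A ⧸ m) Bq
  have : IsArtinianRing Bq := IsArtinianRing.of_finite (A ⧸ m) _
  refine ⟨hm ▸ hred, ?_, fun P hP h => ?_⟩
  · have : Finite (PrimeSpectrum Bq) := inferInstance
    let f : MaximalSpectrum B → PrimeSpectrum Bq := fun M => ⟨M.asIdeal.map (Ideal.Quotient.mk _),
      Ideal.map_isPrime_of_surjective Ideal.Quotient.mk_surjective (by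
        rw [Ideal.mk_ker, hm, Ideal.span_le, Set.singleton_subset_iff]
        exact mem_of_isMaximal A hϖ B M.asIdeal)⟩
    refine Finite.of_injective f fun M M' h => MaximalSpectrum.ext ?_
    have := congrArg (fun p : PrimeSpectrum Bq => p.asIdeal.comap (Ideal.Quotient.mk _)) h
    simpa [f, Ideal.comap_map_of_surjective _ Ideal.Quotient.mk_surjective, ← RingHom.ker_eq_comap_bot, hm,
      sup_eq_left.2 ((Ideal.span_le).2 (Set.singleton_subset_iff.2 (mem_of_isMaximal A hϖ B M.asIdeal))),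
      sup_eq_left.2 ((Ideal.span_le).2 (Set.singleton_subset_iff.2 (mem_of_isMaximal A hϖ B M'.asIdeal)))] using this
  · refine Ideal.isMaximal_of_isIntegral_of_isMaximal_comap (R := A) P ?_
    have hle : m ≤ P.comap (algebraMap A B) := (Ideal.span_le).2 (Set.singleton_subset_iff.2 h)
    rw [← Ideal.IsMaximal.eq_of_le ‹m.IsMaximal› (Ideal.comap_ne_top _ hP.ne_top) hle]
    infer_instance

include hϖ hinj in
theorem exists_prime_gen : ∃ (z : MaximalSpectrum B → B) (ε : Bˣ),
    (∀ P, Ideal.span {z P} = P.asIdeal) ∧ (∀ (g : G) P, ∃ P', z P' = g • z P) ∧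
    ∃ (_ : Fintype (MaximalSpectrum B)), algebraMap A B ϖ = ε * ∏ P, z P := by
  classical
  obtain ⟨hred, hfin, hmax⟩ := isReduced_quotient A hϖ B
  let _ : Fintype (MaximalSpectrum B) := Fintype.ofFinite _
  obtain ⟨P₀⟩ : Nonempty (MaximalSpectrum B) := by
    obtain ⟨M, hM⟩ := Ideal.exists_maximal B
    exact ⟨⟨M, hM⟩⟩
  let p := algebraMap A B ϖ
  have hinf : ∀ b : B, (∀ P : MaximalSpectrum B, b ∈ P.asIdeal) → b ∈ Ideal.span {p} := fun b hb => by
    have hrad : (Ideal.span {p}).IsRadical := (Ideal.isRadical_iff_quotient_reduced _).2 hred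
    apply hrad
    rw [Ideal.radical_eq_sInf, Ideal.mem_sInf]
    rintro Q ⟨hQ, hQp⟩
    exact hb ⟨Q, hmax Q hQp (hQ (Ideal.mem_span_singleton_self p))⟩
  -- the fixed ring of the stabilizer
  let D : Subgroup G := MulAction.stabilizer G P₀.asIdeal
  let S := FixedPoints.subring B D
  have : Algebra.IsInvariant S B D := ⟨fun b hb => ⟨⟨b, hb⟩, rfl⟩⟩
  have : SMulCommClass D S B := ⟨fun d s b => by
    show d • ((s : B) * b) = (s : B) * d • b
    rw [smul_mul', s.2 d]⟩
  have : Algebra.IsIntegral S B := Algebra.IsInvariant.isIntegral S B D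
  let Q : MaximalSpectrum B → Ideal S := fun P => P.asIdeal.comap (algebraMap S B)
  have hQ : ∀ P, (Q P).IsMaximal := fun P =>
    have := P.isMaximal
    Ideal.isMaximal_comap_of_isIntegral_of_isMaximal P.asIdeal
  have hQne : ∀ P, P ≠ P₀ → Q P ≠ Q P₀ := fun P hP h => by
    have := P.isMaximal
    have := P₀.isMaximal
    obtain ⟨d, hd⟩ := Algebra.IsInvariant.exists_smul_of_under_eq S B D P₀.asIdeal P.asIdeal h.symm
    exact hP (MaximalSpectrum.ext (hd.trans d.2))
  obtain ⟨a, ha, b, hb, hab⟩ := Submodule.mem_sup.1 (show (1 : S) ∈ (∏ P ∈ Finset.univ.erase P₀, Q P) ⊔ Q P₀ ^ 2 by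
    have hc : IsCoprime (∏ P ∈ Finset.univ.erase P₀, Q P) (Q P₀ ^ 2) :=
      (IsCoprime.prod_left fun P hP => Ideal.isCoprime_iff_sup_eq.2
        ((hQ P).coprime_of_ne (hQ P₀) (hQne P (Finset.ne_of_mem_erase hP)))).pow_right
    rw [Ideal.isCoprime_iff_sup_eq.1 hc]
    trivial)
  have hpD : ∀ d : D, d • p = p := fun d => by
    show (d : G) • algebraMap A B ϖ = algebraMap A B ϖ
    rw [smul_algebraMap]
  let z₀ : B := p * (a : B) + (b : B)
  have hz₀D : ∀ d : D, d • z₀ = z₀ := fun d => by simp only [z₀, smul_add, smul_mul', hpD, a.2 d, b.2 d]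
  have hb2 : (b : B) ∈ P₀.asIdeal ^ 2 := by
    have h1 : (Q P₀ ^ 2).map (algebraMap S B) ≤ P₀.asIdeal ^ 2 := by
      rw [Ideal.map_pow]
      exact Ideal.pow_right_mono Ideal.map_comap_le 2
    exact h1 (Ideal.mem_map_of_mem _ hb)
  have hpP : ∀ P : MaximalSpectrum B, p ∈ P.asIdeal := fun P =>
    have := P.isMaximal
    mem_of_isMaximal A hϖ B P.asIdeal
  have hz₀other : ∀ P, P ≠ P₀ → z₀ ∉ P.asIdeal := fun P hP h => by
    have haQ : (a : B) ∈ P.asIdeal :=
      show a ∈ Q P from Ideal.prod_le_inf.trans (Finset.inf_le (Finset.mem_erase.2 ⟨hP, Finset.mem_univ _⟩)) ha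
    have hbP : (b : B) ∈ P.asIdeal := by
      have := sub_mem h (P.asIdeal.mul_mem_left p haQ)
      simpa [z₀] using this
    exact P.isMaximal.ne_top ((Ideal.eq_top_iff_one _).2 (by
      rw [show (1 : B) = (a : B) + (b : B) from (congrArg (fun s : S => (s : B)) hab).symm]
      exact add_mem haQ hbP))
  have hz₀mem : z₀ ∈ P₀.asIdeal := add_mem (Ideal.mul_mem_right _ _ (hpP P₀)) (Ideal.pow_le_self two_ne_zero hb2)
  have hspan : Ideal.span {z₀} = P₀.asIdeal := by
    refine le_antisymm ((Ideal.span_le).2 (Set.singleton_subset_iff.2 hz₀mem)) fun x hx => ?_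
    let q : B := ∏ P ∈ Finset.univ.erase P₀, if h : ∃ y ∈ P.asIdeal, y ∉ P₀.asIdeal then h.choose else 1
    have hq : ∀ P ∈ Finset.univ.erase P₀, ∃ y ∈ P.asIdeal, y ∉ P₀.asIdeal := fun P hP => by
      by_contra hc
      push Not at hc
      exact Finset.ne_of_mem_erase hP (MaximalSpectrum.ext (P.isMaximal.eq_of_le P₀.isMaximal.ne_top hc))
    have hq0 : q ∉ P₀.asIdeal := fun h => by
      obtain ⟨P, hP, hP'⟩ := P₀.isMaximal.isPrime.prod_mem_iff.1 h
      rw [dif_pos (hq P hP)] at hP'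
      exact (hq P hP).choose_spec.2 hP'
    have hqx : ∀ y ∈ P₀.asIdeal, q * y ∈ Ideal.span {p} := fun y hy => hinf _ fun P => by
      by_cases hP : P = P₀
      · exact hP ▸ Ideal.mul_mem_left _ _ hy
      · refine Ideal.mul_mem_right _ _ (Ideal.mem_of_dvd _ (Finset.dvd_prod_of_mem _ (Finset.mem_erase.2 ⟨hP, Finset.mem_univ _⟩)) ?_)
        rw [dif_pos (hq P (Finset.mem_erase.2 ⟨hP, Finset.mem_univ _⟩))]
        exact (hq P (Finset.mem_erase.2 ⟨hP, Finset.mem_univ _⟩)).choose_spec.1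
    obtain ⟨c, i, hi, hci⟩ := P₀.isMaximal.exists_inv hq0
    -- `P₀ = (p) + P₀ ^ 2`, and `p * a ≡ z₀` modulo `P₀ ^ 2`
    have ha0 : (a : B) ∉ P₀.asIdeal := fun h => P₀.isMaximal.ne_top ((Ideal.eq_top_iff_one _).2 (by
      rw [show (1 : B) = (a : B) + (b : B) from (congrArg (fun s : S => (s : B)) hab).symm]
      exact add_mem h (Ideal.pow_le_self two_ne_zero hb2)))
    obtain ⟨a', j, hj, haj⟩ := P₀.isMaximal.exists_inv ha0
    have hmem : ∀ y ∈ P₀.asIdeal, ∃ t, y - t * z₀ ∈ P₀.asIdeal ^ 2 := fun y hy => by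
      obtain ⟨w, hw⟩ := Ideal.mem_span_singleton.1 (hqx y hy)
      refine ⟨c * w * a', ?_⟩
      have e : y - c * w * a' * z₀ = i * y + c * w * p * j - c * w * a' * (b : B) := by
        simp only [z₀]
        linear_combination (-y) * hci + c * hw + (-(c * w * p)) * haj
      rw [e, pow_two]
      refine sub_mem (add_mem (Ideal.mul_mem_mul hi hy) ?_) (Ideal.mul_mem_left _ _ (pow_two P₀.asIdeal ▸ hb2))
      rw [mul_assoc (c * w)]
      exact Ideal.mul_mem_left _ _ (Ideal.mul_mem_mul (hpP P₀) hj)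
    -- Nakayama at `P₀`
    have hnoeth : IsNoetherian A B := isNoetherian_of_isNoetherianRing_of_finite A B
    have : IsNoetherianRing B := isNoetherian_of_tower A hnoeth
    let J : Submodule B B := P₀.asIdeal
    have hle : J ≤ Ideal.span {z₀} ⊔ P₀.asIdeal • J := fun y hy => by
      obtain ⟨t, ht⟩ := hmem y hy
      rw [show y = t * z₀ + (y - t * z₀) by ring]
      refine Submodule.add_mem_sup (Ideal.mul_mem_left _ t (Ideal.mem_span_singleton_self z₀)) ?_
      rw [Ideal.smul_eq_mul, ← pow_two]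
      exact ht
    obtain ⟨r, hr1, hr⟩ := Submodule.exists_sub_one_mem_and_smul_eq_zero_of_fg_of_le_smul P₀.asIdeal
      (Submodule.map (Ideal.span {z₀} : Submodule B B).mkQ J) ((IsNoetherian.noetherian J).map _) (by
        rw [← Submodule.map_smul'']
        rintro _ ⟨y, hy, rfl⟩
        obtain ⟨y₁, hy₁, y₂, hy₂, rfl⟩ := Submodule.mem_sup.1 (hle hy)
        refine ⟨y₂, hy₂, ?_⟩
        rw [map_add, show (Submodule.mkQ (Ideal.span {z₀} : Submodule B B)) y₁ = 0 from (Submodule.Quotient.mk_eq_zero _).2 hy₁, zero_add])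
    have hr' : r * x ∈ Ideal.span {z₀} := (Submodule.Quotient.mk_eq_zero _).1 (hr _ ⟨x, hx, rfl⟩)
    have hcop : ∃ s t, s * r + t * z₀ = 1 := by
      by_contra hne
      push Not at hne
      have : Ideal.span {r, z₀} ≠ ⊤ := fun ht => by
        obtain ⟨s, t, hst⟩ := Ideal.mem_span_pair.1 ((Ideal.eq_top_iff_one _).1 ht)
        exact hne s t hst
      obtain ⟨M, hM, hMle⟩ := Ideal.exists_le_maximal _ this
      have hMP : (⟨M, hM⟩ : MaximalSpectrum B) = P₀ := by
        by_contra hne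
        exact hz₀other _ hne (hMle (Ideal.subset_span (Or.inr rfl)))
      have hrP : r ∈ P₀.asIdeal := hMP ▸ hMle (Ideal.subset_span (Or.inl rfl))
      exact P₀.isMaximal.ne_top ((Ideal.eq_top_iff_one _).2 (by simpa using sub_mem hrP hr1))
    obtain ⟨s, t, hst⟩ := hcop
    rw [show x = s * (r * x) + (t * x) * z₀ by linear_combination (-x) * hst]
    exact add_mem (Ideal.mul_mem_left _ _ hr') (Ideal.mul_mem_left _ _ (Ideal.mem_span_singleton_self _))
  have htrans : ∀ P : MaximalSpectrum B, ∃ g : G, P.asIdeal = g • P₀.asIdeal := fun P => by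
    have := P.isMaximal
    have := P₀.isMaximal
    exact Algebra.IsInvariant.exists_smul_of_under_eq A B G P₀.asIdeal P.asIdeal
      ((IsLocalRing.eq_maximalIdeal (Ideal.isMaximal_comap_of_isIntegral_of_isMaximal (R := A) P₀.asIdeal)).trans
        (IsLocalRing.eq_maximalIdeal (Ideal.isMaximal_comap_of_isIntegral_of_isMaximal (R := A) P.asIdeal)).symm)
  choose γ hγ using htrans
  let z : MaximalSpectrum B → B := fun P => γ P • z₀
  have hzspan : ∀ (g : G), Ideal.span {g • z₀} = g • P₀.asIdeal := fun g => by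
    rw [← hspan, Ideal.pointwise_smul_def, Ideal.map_span, Set.image_singleton]
    rfl
  have hz : ∀ P, Ideal.span {z P} = P.asIdeal := fun P => (hzspan _).trans (hγ P).symm
  have hperm : ∀ (g : G) P, ∃ P', z P' = g • z P := fun g P => by
    have hM : (Ideal.span {g • z P}).IsMaximal := by
      show (Ideal.span {g • γ P • z₀}).IsMaximal
      rw [← mul_smul, hzspan, Ideal.pointwise_smul_def]
      have := P₀.isMaximal
      exact Ideal.map_isMaximal_of_equiv (MulSemiringAction.toRingEquiv G B (g * γ P))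
    refine ⟨⟨_, hM⟩, ?_⟩
    set P' : MaximalSpectrum B := ⟨_, hM⟩
    have h : γ P' • P₀.asIdeal = (g * γ P) • P₀.asIdeal := by
      rw [← hγ, ← hzspan, mul_smul]
    have hd : (γ P')⁻¹ * (g * γ P) ∈ D := MulAction.mem_stabilizer_iff.2 (by rw [mul_smul, ← h, inv_smul_smul])
    have := hz₀D ⟨_, hd⟩
    show γ P' • z₀ = g • γ P • z₀
    conv_lhs => rw [← this]
    show γ P' • ((γ P')⁻¹ * (g * γ P)) • z₀ = _
    rw [← mul_smul, mul_inv_cancel_left, mul_smul]
  have hassoc : Ideal.span {∏ P, z P} = Ideal.span {p} := by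
    refine le_antisymm ((Ideal.span_le).2 (Set.singleton_subset_iff.2 (hinf _ fun P => ?_))) ?_
    · exact Ideal.mem_of_dvd _ (Finset.dvd_prod_of_mem _ (Finset.mem_univ P)) (hz P ▸ Ideal.mem_span_singleton_self _)
    · have h2 : (∏ P : MaximalSpectrum B, P.asIdeal) = ⨅ P ∈ (Finset.univ : Finset (MaximalSpectrum B)), P.asIdeal := by
        rw [Ideal.prod_eq_iInf_of_pairwise_isCoprime fun P _ P' _ hne => Ideal.isCoprime_iff_sup_eq.2
          (P.isMaximal.coprime_of_ne P'.isMaximal fun h => hne (MaximalSpectrum.ext h))]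
      rw [← Ideal.prod_span_singleton, Ideal.span_le, Set.singleton_subset_iff]
      simp_rw [hz]
      rw [h2]
      simp [hpP]
  obtain ⟨ε, hε⟩ := (Ideal.span_singleton_eq_span_singleton.1 hassoc)
  exact ⟨z, ε, hz, hperm, ‹_›, by rw [mul_comm]; exact hε.symm⟩

variable {B} (z : MaximalSpectrum B → B) (hz : ∀ P, Ideal.span {z P} = P.asIdeal)

include hϖ hinj in
theorem regular_uniformizer [Module.Flat A B] :
    (algebraMap A B ϖ ⊗ₜ[A] (1 : Ah)) ∈ nonZeroDivisors (B ⊗[A] Ah) := by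
  rw [mem_nonZeroDivisors_iff_right]
  intro x hx
  let μ : Ah →ₗ[A] Ah := LinearMap.mulLeft A (algebraMap A Ah ϖ)
  have hμ : Function.Injective μ := fun a b h => by
    refine mul_left_cancel₀ (fun h0 => hϖ.ne_zero ?_) h
    exact FaithfulSMul.algebraMap_injective A Ah (h0.trans (map_zero _).symm)
  have key : ∀ y : B ⊗[A] Ah, LinearMap.lTensor B μ y = y * (algebraMap A B ϖ ⊗ₜ[A] (1 : Ah)) := fun y => by
    induction y using TensorProduct.induction_on with
    | zero => simp
    | tmul c d =>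
      rw [LinearMap.lTensor_tmul, Algebra.TensorProduct.tmul_mul_tmul, mul_one, mul_comm c, ← Algebra.smul_def,
        TensorProduct.smul_tmul]
      congr 1
      show algebraMap A Ah ϖ * d = ϖ • d
      rw [Algebra.smul_def]
    | add a b ha hb => rw [map_add, ha, hb, add_mul]
  exact Module.Flat.lTensor_preserves_injective_linearMap μ hμ (((key x).trans hx).trans (map_zero _).symm)

include hϖ in
theorem exists_residue_hom : ∃ θ : Ah →ₐ[A] A ⧸ Ideal.span {ϖ}, True := by
  let I : Ideal Ah := Ideal.span {algebraMap A Ah ϖ}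
  have hm : (Ideal.span ({ϖ} : Set A)).IsMaximal := by rw [← hϖ.maximalIdeal_eq]; infer_instance
  let f : A ⧸ Ideal.span {ϖ} →ₐ[A] Ah ⧸ I :=
    Ideal.Quotient.liftₐ _ (Algebra.ofId A (Ah ⧸ I)) fun a ha => by
      obtain ⟨c, rfl⟩ := Ideal.mem_span_singleton.1 ha
      rw [map_mul]
      show (Ideal.Quotient.mk I (algebraMap A Ah ϖ)) * _ = 0
      rw [Ideal.Quotient.eq_zero_iff_mem.2 (Ideal.mem_span_singleton_self _), zero_mul]
  have : Nontrivial (Ah ⧸ I) := Ideal.Quotient.nontrivial_iff.2 fun h => not_isUnit_uniformizer A v hϖ (Ideal.span_singleton_eq_top.1 h)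
  let _ := Ideal.Quotient.field (Ideal.span ({ϖ} : Set A))
  have hf : Function.Bijective f := by
    refine ⟨f.toRingHom.injective, fun y => ?_⟩
    obtain ⟨x, rfl⟩ := Ideal.Quotient.mk_surjective y
    obtain ⟨r, w, rfl⟩ := exists_residue A v hϖ x
    refine ⟨Ideal.Quotient.mk _ r, ?_⟩
    rw [map_add, map_mul, Ideal.Quotient.eq_zero_iff_mem.2 (Ideal.mem_span_singleton_self (algebraMap A Ah ϖ)), zero_mul, add_zero]
    rfl
  exact ⟨((AlgEquiv.ofBijective f hf).symm : _ →ₐ[A] _).comp (Ideal.Quotient.mkₐ A I), trivial⟩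

include hϖ hz in
theorem span_tmul_isMaximal (P : MaximalSpectrum B) :
    (Ideal.span {z P ⊗ₜ[A] (1 : Ah)}).IsMaximal ∧
      ∀ P', z P' ⊗ₜ[A] (1 : Ah) ∈ Ideal.span {z P ⊗ₜ[A] (1 : Ah)} → P' = P := by
  let R := B ⊗[A] Ah
  let I : Ideal R := Ideal.span {z P ⊗ₜ[A] (1 : Ah)}
  obtain ⟨θ, -⟩ := exists_residue_hom A v hϖ
  have hPmax := P.isMaximal
  let ψ : A ⧸ Ideal.span {ϖ} →ₐ[A] B ⧸ P.asIdeal := Ideal.Quotient.liftₐ _ (Algebra.ofId A _) fun a ha => by
    obtain ⟨c, rfl⟩ := Ideal.mem_span_singleton.1 ha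
    rw [map_mul]
    show (Ideal.Quotient.mk P.asIdeal (algebraMap A B ϖ)) * _ = 0
    rw [Ideal.Quotient.eq_zero_iff_mem.2 (mem_of_isMaximal A hϖ B P.asIdeal), zero_mul]
  let Φ : R →ₐ[A] B ⧸ P.asIdeal :=
    Algebra.TensorProduct.lift (Ideal.Quotient.mkₐ A P.asIdeal) (ψ.comp θ) (fun _ _ => Commute.all _ _)
  have hΦB : ∀ b : B, Φ (b ⊗ₜ 1) = Ideal.Quotient.mk P.asIdeal b := fun b => by
    rw [show Φ (b ⊗ₜ 1) = Ideal.Quotient.mk P.asIdeal b * ψ (θ 1) from Algebra.TensorProduct.lift_tmul _ _ _ _ _, map_one, map_one, mul_one]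
  have hdiv : (algebraMap A B ϖ ⊗ₜ[A] (1 : Ah)) ∈ I := by
    obtain ⟨c, hc⟩ := Ideal.mem_span_singleton.1 ((hz P).symm ▸ mem_of_isMaximal A hϖ B P.asIdeal)
    rw [hc, show (z P * c) ⊗ₜ[A] (1 : Ah) = (z P ⊗ₜ[A] (1 : Ah)) * (c ⊗ₜ[A] (1 : Ah)) by simp]
    exact Ideal.mul_mem_right _ _ (Ideal.mem_span_singleton_self _)
  have hker : RingHom.ker Φ.toRingHom = I := by
    refine le_antisymm (fun x hx => ?_) ?_
    · have hred : ∀ y : R, ∃ b : B, y - b ⊗ₜ 1 ∈ I := fun y => by
        induction y using TensorProduct.induction_on with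
        | zero => exact ⟨0, by simp⟩
        | tmul c d =>
          obtain ⟨r, w, rfl⟩ := exists_residue A v hϖ d
          refine ⟨r • c, ?_⟩
          rw [TensorProduct.tmul_add, show algebraMap A Ah r = r • (1 : Ah) by rw [Algebra.smul_def, mul_one],
            TensorProduct.tmul_smul, TensorProduct.smul_tmul', add_sub_cancel_left,
            show c ⊗ₜ[A] (algebraMap A Ah ϖ * w) = (algebraMap A B ϖ ⊗ₜ[A] (1 : Ah)) * (c ⊗ₜ[A] w) by
              rw [Algebra.TensorProduct.tmul_mul_tmul, one_mul, ← Algebra.smul_def, ← Algebra.smul_def, TensorProduct.tmul_smul,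
                TensorProduct.smul_tmul']]
          exact Ideal.mul_mem_right _ _ hdiv
        | add a b ha hb =>
          obtain ⟨a', ha'⟩ := ha
          obtain ⟨b', hb'⟩ := hb
          refine ⟨a' + b', ?_⟩
          rw [TensorProduct.add_tmul, add_sub_add_comm]
          exact add_mem ha' hb'
      obtain ⟨b, hb⟩ := hred x
      have hΦz : Φ (z P ⊗ₜ 1) = 0 := by
        rw [hΦB, Ideal.Quotient.eq_zero_iff_mem, ← hz P]; exact Ideal.mem_span_singleton_self _
      obtain ⟨w, hw⟩ := Ideal.mem_span_singleton.1 hb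
      have hb0 : Φ (b ⊗ₜ 1) = 0 := by
        have h := congrArg Φ hw
        rw [map_sub, map_mul, hΦz, zero_mul, show Φ x = 0 from hx, zero_sub, neg_eq_zero] at h
        exact h
      rw [hΦB, Ideal.Quotient.eq_zero_iff_mem, ← hz P] at hb0
      obtain ⟨c, rfl⟩ := Ideal.mem_span_singleton.1 hb0
      rw [show x = (x - (z P * c) ⊗ₜ[A] (1 : Ah)) + (z P ⊗ₜ[A] (1 : Ah)) * (c ⊗ₜ[A] (1 : Ah)) by
        rw [Algebra.TensorProduct.tmul_mul_tmul, mul_one, sub_add_cancel]]
      exact add_mem hb (Ideal.mul_mem_right _ _ (Ideal.mem_span_singleton_self _))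
    · rw [Ideal.span_le, Set.singleton_subset_iff]
      show Φ (z P ⊗ₜ 1) = 0
      rw [hΦB, Ideal.Quotient.eq_zero_iff_mem, ← hz P]
      exact Ideal.mem_span_singleton_self _
  let _ := Ideal.Quotient.field P.asIdeal
  refine ⟨?_, fun P' h => ?_⟩
  · show I.IsMaximal
    rw [← hker]
    exact RingHom.ker_isMaximal_of_surjective _ fun y => by
      obtain ⟨b, rfl⟩ := Ideal.Quotient.mk_surjective y
      exact ⟨b ⊗ₜ 1, hΦB b⟩
  · have h' : z P' ∈ P.asIdeal := by
      have := (hker.ge h : z P' ⊗ₜ[A] (1 : Ah) ∈ RingHom.ker Φ.toRingHom)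
      rw [RingHom.mem_ker] at this
      exact Ideal.Quotient.eq_zero_iff_mem.1 ((hΦB _).symm.trans this)
    refine MaximalSpectrum.ext (P'.isMaximal.eq_of_le P.isMaximal.ne_top ?_)
    rw [← hz P', Ideal.span_le, Set.singleton_subset_iff]
    exact h'

include hϖ hz in
theorem exists_eq_span_tmul [Fintype (MaximalSpectrum B)] {ε : Bˣ} (hp : algebraMap A B ϖ = ε * ∏ P, z P)
    (M : Ideal (B ⊗[A] Ah)) [M.IsMaximal] : ∃ P, M = Ideal.span {z P ⊗ₜ[A] (1 : Ah)} := by
  let _ : Algebra Ah (B ⊗[A] Ah) := Algebra.TensorProduct.rightAlgebra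
  have hfin : Module.Finite Ah (B ⊗[A] Ah) :=
    Module.Finite.equiv (Algebra.TensorProduct.commRight A Ah B).toLinearEquiv
  have : Algebra.IsIntegral Ah (B ⊗[A] Ah) := Algebra.IsIntegral.of_finite _ _
  have hc := IsLocalRing.eq_maximalIdeal (Ideal.isMaximal_comap_of_isIntegral_of_isMaximal (R := Ah) M)
  have h1 : algebraMap A Ah ϖ ∈ M.comap (algebraMap Ah (B ⊗[A] Ah)) := by
    rw [hc]; exact not_isUnit_uniformizer A v hϖ
  have h2 : (ε : B) ⊗ₜ[A] (1 : Ah) * ∏ P, (z P ⊗ₜ[A] (1 : Ah)) ∈ M := by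
    have e : (ε : B) ⊗ₜ[A] (1 : Ah) * ∏ P, (z P ⊗ₜ[A] (1 : Ah)) = algebraMap Ah (B ⊗[A] Ah) (algebraMap A Ah ϖ) := by
      show _ = (1 : B) ⊗ₜ[A] algebraMap A Ah ϖ
      have hprod : ∏ P, (z P ⊗ₜ[A] (1 : Ah)) = (∏ P, z P) ⊗ₜ[A] (1 : Ah) :=
        (map_prod (Algebra.TensorProduct.includeLeft : B →ₐ[A] B ⊗[A] Ah) z Finset.univ).symm
      rw [hprod, Algebra.TensorProduct.tmul_mul_tmul, mul_one, ← hp, Algebra.algebraMap_eq_smul_one, Algebra.algebraMap_eq_smul_one,
        TensorProduct.smul_tmul]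
    rw [e]; exact h1
  rcases ‹M.IsMaximal›.isPrime.mem_or_mem h2 with h | h
  · exact absurd h fun h => ‹M.IsMaximal›.ne_top (Ideal.eq_top_of_isUnit_mem _ h
      (ε.isUnit.map (Algebra.TensorProduct.includeLeft : B →ₐ[A] B ⊗[A] Ah)))
  · obtain ⟨P, -, hP⟩ := ‹M.IsMaximal›.isPrime.prod_mem_iff.1 h
    refine ⟨P, ((span_tmul_isMaximal A v hϖ z hz P).1.eq_of_le ‹M.IsMaximal›.ne_top ?_).symm⟩
    rwa [Ideal.span_le, Set.singleton_subset_iff]

end model

end Groth.Agent.GalTori
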