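import Groth.Agent.GalTori.Units
import Groth.Agent.GalTori.Places
import Groth.Agent.MultTypeLib.Change
import Groth.Agent.TorusPts.Galois
import Mathlib.RingTheory.Flat.TorsionFree

/-! Points of a torus over the completion are integral points times rational points. -/

universe u

open TensorProduct IsDedekindDomain WithConv

namespace Groth.Agent.GalTori

open MultTypeLib

variable {A : Type u} [CommRing A] [IsDomain A] {B : Type u} [CommRing B] [Algebra A B]
  {G : Type u} [Group G] [Finite G] [MulSemiringAction G B] [SMulCommClass G A B]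

variable (A G) in
/-- The action on a base change. -/
noncomputable def gact (X : Type u) [CommRing X] [Algebra A X] (g : G) : B ⊗[A] X →ₐ[A] B ⊗[A] X :=
  Algebra.TensorProduct.map (MulSemiringAction.toAlgHom A B g) (AlgHom.id A X)

theorem gact_tmul (X : Type u) [CommRing X] [Algebra A X] (g : G) (b : B) (x : X) :
    gact A G X g (b ⊗ₜ x) = (g • b) ⊗ₜ x := rfl

theorem gact_natural {X Y : Type u} [CommRing X] [Algebra A X] [CommRing Y] [Algebra A Y] (φ : X →ₐ[A] Y) (g : G)
    (w : B ⊗[A] X) : gact A G Y g (Algebra.TensorProduct.map (AlgHom.id A B) φ w) =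
      Algebra.TensorProduct.map (AlgHom.id A B) φ (gact A G X g w) := by
  induction w using TensorProduct.induction_on with
  | zero => simp
  | tmul b x => rfl
  | add a b ha hb => simp only [map_add, ha, hb]

/-- Invariant elements of a flat base change come from below. -/
theorem exists_of_gact_fixed [Algebra.IsInvariant A B G] (hinj : Function.Injective (algebraMap A B))
    (X : Type u) [CommRing X] [Algebra A X] [Module.Flat A X] (w : B ⊗[A] X) (hw : ∀ g : G, gact A G X g w = w) :
    ∃ x : X, (1 : B) ⊗ₜ[A] x = w := by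
  classical
  have := Fintype.ofFinite G
  let d : B →ₗ[A] (G → B) := LinearMap.pi fun g => (MulSemiringAction.toAlgHom A B g).toLinearMap - LinearMap.id
  have hex : Function.Exact (Algebra.linearMap A B) d := fun b => by
    refine ⟨fun h => ?_, ?_⟩
    · obtain ⟨a, ha⟩ := Algebra.IsInvariant.isInvariant (A := A) (G := G) b fun g => sub_eq_zero.1 (congrFun h g)
      exact ⟨a, ha⟩
    · rintro ⟨a, rfl⟩
      exact funext fun g => by
        show g • algebraMap A B a - algebraMap A B a = 0
        rw [smul_algebraMap, sub_self]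
  have h0 : d.rTensor X w = 0 := by
    have hd : d = ∑ g, (LinearMap.single A (fun _ : G => B) g).comp
        ((MulSemiringAction.toAlgHom A B g).toLinearMap - LinearMap.id) := by
      refine LinearMap.ext fun b => funext fun i => ?_
      simp [d, LinearMap.sum_apply, Finset.sum_apply, Pi.single_apply]
    rw [hd, show ∀ s : (G → (B →ₗ[A] (G → B))), LinearMap.rTensor X (∑ g, s g) = ∑ g, LinearMap.rTensor X (s g) from
      fun s => map_sum (LinearMap.rTensorHom X) s Finset.univ, LinearMap.sum_apply]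
    refine Finset.sum_eq_zero fun g _ => ?_
    rw [LinearMap.rTensor_comp, LinearMap.comp_apply, LinearMap.rTensor_sub, LinearMap.sub_apply]
    have h1 : ∀ w' : B ⊗[A] X, LinearMap.rTensor X (MulSemiringAction.toAlgHom A B g).toLinearMap w' = gact A G X g w' := by
      intro w'
      induction w' using TensorProduct.induction_on with
      | zero => simp
      | tmul b x => rfl
      | add a b ha hb => simp only [map_add, ha, hb]
    rw [h1, hw g, LinearMap.rTensor_id, LinearMap.id_apply, sub_self, map_zero]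
  obtain ⟨t, ht⟩ := (Module.Flat.rTensor_exact X hex w).1 h0
  refine ⟨TensorProduct.lid A X t, ?_⟩
  rw [← ht]
  clear ht
  induction t using TensorProduct.induction_on with
  | zero => simp
  | tmul a x =>
    rw [TensorProduct.lid_tmul, LinearMap.rTensor_tmul, Algebra.linearMap_apply, Algebra.algebraMap_eq_smul_one,
      TensorProduct.smul_tmul]
  | add a b ha hb => simp only [map_add, TensorProduct.tmul_add, ha, hb]

end Groth.Agent.GalTori

namespace Groth.Agent.GalTori

open MultTypeLib

section hat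

variable {A : Type u} [CommRing A] {B : Type u} [CommRing B] [Algebra A B] {H : Type u} [CommRing H] [HopfAlgebra A H]
  {T : Type u} [CommRing T] [Algebra A T] [Algebra B T] [IsScalarTower A B T]

variable (B) in
/-- Extension of a point to the base change. -/
noncomputable def hat (p : H →ₐ[A] T) : B ⊗[A] H →ₐ[B] T :=
  Algebra.TensorProduct.lift (Algebra.ofId B T) p (fun _ _ => Commute.all _ _)

theorem hat_one_tmul (p : H →ₐ[A] T) (h : H) : hat B p ((1 : B) ⊗ₜ h) = p h := by
  simp [hat]

/-- The value of a product of points on a group-like element. -/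
theorem hat_mul (p q : H →ₐ[A] T) {w : B ⊗[A] H} (hw : IsGroupLikeElem B w) :
    hat B (toConv p * toConv q).ofConv w = hat B p w * hat B q w := by
  have h : hat B (toConv p * toConv q).ofConv = (toConv (hat B p) * toConv (hat B q)).ofConv := by
    refine Algebra.TensorProduct.ext' fun b h => ?_
    rw [show b ⊗ₜ[A] h = b • ((1 : B) ⊗ₜ[A] h) by rw [TensorProduct.smul_tmul', smul_eq_mul, mul_one], map_smul, map_smul]
    congr 1
    rw [hat_one_tmul, AlgHom.convMul_apply, AlgHom.convMul_apply,
      show ((1 : B) ⊗ₜ[A] h) = (SemiBialgHom.baseChange A B H).toAlgHom h from rfl,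
      (SemiBialgHom.baseChange A B H).comul_comp]
    generalize Coalgebra.comul (R := A) h = z
    induction z using TensorProduct.induction_on with
    | zero => simp
    | tmul x y =>
      rw [sq_tmul]
      simp [SemiBialgHom.baseChange, hat]
    | add a b ha hb => simp only [map_add, ha, hb]
  rw [h, AlgHom.convMul_apply, hw.comul_eq_tmul_self]
  simp

end hat

variable {A : Type u} [CommRing A] [IsDomain A] [IsDiscreteValuationRing A]
  (v : IsDedekindDomain.HeightOneSpectrum A)

local notation "Ah" => HeightOneSpectrum.adicCompletionIntegers (FractionRing A) v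
local notation "Kh" => HeightOneSpectrum.adicCompletion (FractionRing A) v

set_option maxHeartbeats 4000000 in
theorem exists_factor {H : Type u} [CommRing H] [HopfAlgebra A H]
    {B : Type u} [CommRing B] [IsDomain B] [Algebra A B] [Module.Finite A B] [Algebra.FormallyUnramified A B]
    {G : Type u} [Group G] [Finite G] [MulSemiringAction G B] [SMulCommClass G A B] [Algebra.IsInvariant A B G]
    (hinj : Function.Injective (algebraMap A B)) {r : ℕ}
    (e : B ⊗[A] H ≃ₐc[B] MonoidAlgebra B (TorusPts.Lat.{u} r)) (x : H →ₐ[A] Kh) :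
    ∃ (a : H →ₐ[A] Ah) (b : H →ₐ[A] FractionRing A),
      x = (toConv ((IsScalarTower.toAlgHom A Ah Kh).comp a) *
        toConv ((IsScalarTower.toAlgHom A (FractionRing A) Kh).comp b)).ofConv := by
  classical
  obtain ⟨ϖ, hϖ⟩ := IsDiscreteValuationRing.exists_irreducible A
  obtain ⟨z, ε, hz, hperm, _, hp⟩ := exists_prime_gen A hϖ B G hinj
  have : FaithfulSMul A B := (faithfulSMul_iff_algebraMap_injective A B).2 hinj
  have : Module.IsTorsionFree A B := inferInstance
  have : Module.Free A B := inferInstance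
  have : Module.Flat A B := inferInstance
  have : Module.Flat A Ah := inferInstance
  have : FaithfulSMul A Kh := (faithfulSMul_iff_algebraMap_injective A Kh).2
    ((algebraMap (FractionRing A) Kh).injective.comp (IsFractionRing.injective A (FractionRing A)))
  have : Module.IsTorsionFree A Kh := inferInstance
  have : Module.Flat A Kh := inferInstance
  have : Module.Flat A (FractionRing A) := IsLocalization.flat _ (nonZeroDivisors A)
  let K := FractionRing A
  let M := TorusPts.Lat.{u} r
  let R := B ⊗[A] Ah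
  let R' := B ⊗[A] Kh
  let jA : R →ₐ[B] R' := Algebra.TensorProduct.map (AlgHom.id B B) (IsScalarTower.toAlgHom A Ah Kh)
  let jK : B ⊗[A] K →ₐ[B] R' := Algebra.TensorProduct.map (AlgHom.id B B) (IsScalarTower.toAlgHom A K Kh)
  have hjA : Function.Injective jA :=
    Module.Flat.lTensor_preserves_injective_linearMap (IsScalarTower.toAlgHom A Ah Kh).toLinearMap
      (FaithfulSMul.algebraMap_injective Ah Kh)
  -- units
  have hϖK : IsUnit (algebraMap A K ϖ) :=
    isUnit_iff_ne_zero.2 fun h => hϖ.ne_zero (IsFractionRing.injective A K (h.trans (map_zero _).symm))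
  have hzK : ∀ P, IsUnit (z P ⊗ₜ[A] (1 : K)) := fun P => by
    have hu : IsUnit ((algebraMap A B ϖ) ⊗ₜ[A] (1 : K)) := by
      rw [Algebra.algebraMap_eq_smul_one, TensorProduct.smul_tmul, ← Algebra.algebraMap_eq_smul_one]
      exact hϖK.map (Algebra.TensorProduct.includeRight : K →ₐ[A] B ⊗[A] K)
    rw [hp, ← Finset.mul_prod_erase _ _ (Finset.mem_univ P)] at hu
    have e1 : ((ε : B) * (z P * ∏ i ∈ Finset.univ.erase P, z i)) ⊗ₜ[A] (1 : K) =
        (z P ⊗ₜ[A] (1 : K)) * (((ε : B) * ∏ i ∈ Finset.univ.erase P, z i) ⊗ₜ[A] (1 : K)) := by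
      rw [Algebra.TensorProduct.tmul_mul_tmul, mul_one]
      congr 1
      ring
    rw [e1] at hu
    exact isUnit_of_mul_isUnit_left hu
  let zK : MaximalSpectrum B → (B ⊗[A] K)ˣ := fun P => (hzK P).unit
  let zu : MaximalSpectrum B → R'ˣ := fun P => Units.map jK.toMonoidHom (zK P)
  let _ : Algebra R R' := jA.toRingHom.toAlgebra
  have hzu : ∀ P, (zu P : R') = algebraMap R R' (z P ⊗ₜ 1) := fun P => by
    show jK (z P ⊗ₜ[A] (1 : K)) = jA (z P ⊗ₜ[A] (1 : Ah))
    rw [Algebra.TensorProduct.map_tmul, Algebra.TensorProduct.map_tmul, map_one, map_one]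
  have hmax := fun P => (span_tmul_isMaximal A v hϖ z hz P).1
  have hidx : ∀ P P' : MaximalSpectrum B, z P ⊗ₜ[A] (1 : Ah) ∈ Ideal.span {z P' ⊗ₜ[A] (1 : Ah)} → P = P' :=
    fun P P' h => (span_tmul_isMaximal A v hϖ z hz P').2 P h
  have hall := fun (M' : Ideal R) (hM' : M'.IsMaximal) => exists_eq_span_tmul A v hϖ z hz hp M'
  let inB : B →ₐ[A] R := Algebra.TensorProduct.includeLeft
  have hreg : ∀ P, z P ⊗ₜ[A] (1 : Ah) ∈ nonZeroDivisors R := fun P => by
    have h := regular_uniformizer A v hϖ hinj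
    have e : algebraMap A B ϖ ⊗ₜ[A] (1 : Ah) = (z P ⊗ₜ[A] (1 : Ah)) * inB ((ε : B) * ∏ i ∈ Finset.univ.erase P, z i) := by
      rw [hp, ← Finset.mul_prod_erase _ _ (Finset.mem_univ P)]
      show _ = _ * (((ε : B) * ∏ i ∈ Finset.univ.erase P, z i) ⊗ₜ[A] (1 : Ah))
      rw [Algebra.TensorProduct.tmul_mul_tmul, mul_one]
      congr 1
      ring
    rw [e] at h
    exact (mul_mem_nonZeroDivisors.1 h).1
  let εR : Rˣ := Units.map inB.toMonoidHom ε
  have hπ : (algebraMap A B ϖ ⊗ₜ[A] (1 : Ah)) = (εR : R) * ∏ P, (z P ⊗ₜ[A] (1 : Ah)) ^ (1 : MaximalSpectrum B → ℕ) P := by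
    show inB (algebraMap A B ϖ) = inB (ε : B) * ∏ P, (inB (z P)) ^ 1
    simp_rw [pow_one]
    rw [hp, map_mul, map_prod]
  have hsurj : ∀ u : R', ∃ (N : ℕ) (w : R), u * algebraMap R R' (algebraMap A B ϖ ⊗ₜ[A] (1 : Ah)) ^ N = algebraMap R R' w := by
    intro u
    induction u using TensorProduct.induction_on with
    | zero => exact ⟨0, 0, by simp⟩
    | tmul b c =>
      obtain ⟨s, hs, hcs⟩ := HeightOneSpectrum.adicCompletion.mul_nonZeroDivisor_mem_adicCompletionIntegers v c
      obtain ⟨N, ε', hε'⟩ := IsDiscreteValuationRing.eq_unit_mul_pow_irreducible (nonZeroDivisors.ne_zero hs) hϖ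
      let y : Ah := ⟨c * algebraMap A Kh s, hcs⟩
      refine ⟨N, b ⊗ₜ[A] (y * algebraMap A Ah (↑ε'⁻¹ : A)), ?_⟩
      show (b ⊗ₜ[A] c) * (jA (algebraMap A B ϖ ⊗ₜ[A] (1 : Ah))) ^ N = jA (b ⊗ₜ[A] (y * algebraMap A Ah (↑ε'⁻¹ : A)))
      rw [Algebra.TensorProduct.map_tmul, Algebra.TensorProduct.map_tmul, map_one, map_mul, AlgHom.commutes, AlgHom.id_apply,
        AlgHom.id_apply, show (IsScalarTower.toAlgHom A Ah Kh) y = c * algebraMap A Kh s from rfl,
        Algebra.TensorProduct.tmul_pow, one_pow, Algebra.TensorProduct.tmul_mul_tmul, mul_one, ← map_pow, mul_comm b,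
        ← Algebra.smul_def, TensorProduct.smul_tmul]
      congr 1
      rw [Algebra.smul_def, mul_assoc, ← map_mul, hε', mul_comm (ε' : A), mul_assoc, Units.mul_inv, mul_one, mul_comm]
    | add a b ha hb =>
      obtain ⟨N, w, hw⟩ := ha
      obtain ⟨N', w', hw'⟩ := hb
      refine ⟨N + N', w * (algebraMap A B ϖ ⊗ₜ[A] (1 : Ah)) ^ N' + w' * (algebraMap A B ϖ ⊗ₜ[A] (1 : Ah)) ^ N, ?_⟩
      rw [map_add, map_mul, map_mul, map_pow, map_pow, ← hw, ← hw', pow_add]
      ring
  have hdec := fun u => existsUnique_exp hmax hidx hreg hall zu hzu hjA (1 : MaximalSpectrum B → ℕ) εR hπ hsurj u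
  -- values of `x` on characters
  let chHom : M →* B ⊗[A] H := ((e : B ⊗[A] H ≃ₐ[B] MonoidAlgebra B M).symm.toAlgHom : _ →* B ⊗[A] H).comp (MonoidAlgebra.of B M)
  have hch : ∀ m, IsGroupLikeElem B (chHom m) := fun m =>
    (isGroupLike_single m).map (e.symm : MonoidAlgebra B M →ₐc[B] B ⊗[A] H)
  let xh : B ⊗[A] H →ₐ[B] R' := hat B ((Algebra.TensorProduct.includeRight : Kh →ₐ[A] R').comp x)
  let uHom : M →* R'ˣ := ((xh : _ →* R').comp chHom).toHomUnits
  choose n hn hn' using fun m => hdec (uHom m)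
  choose η hη using hn
  have hnuniq : ∀ m n₀ η₀, uHom m = Units.map (algebraMap R R').toMonoidHom η₀ * ∏ P, zu P ^ n₀ P → n m = n₀ :=
    fun m n₀ η₀ h => (hn' m n₀ ⟨η₀, h⟩).symm
  have hmapinj : Function.Injective (Units.map (algebraMap R R').toMonoidHom) := Units.map_injective hjA
  have hmul : ∀ m m', n (m * m') = n m + n m' ∧ η (m * m') = η m * η m' := fun m m' => by
    have h : uHom (m * m') = Units.map (algebraMap R R').toMonoidHom (η m * η m') * ∏ P, zu P ^ (n m + n m') P := by
      simp only [map_mul, hη m, hη m', Pi.add_apply, zpow_add, Finset.prod_mul_distrib]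
      exact mul_mul_mul_comm _ _ _ _
    have hne := hnuniq _ _ _ h
    refine ⟨hne, hmapinj ?_⟩
    have := (hη (m * m')).symm.trans h
    rw [hne] at this
    exact mul_right_cancel this
  let χ : M →* (B ⊗[A] K)ˣ := MonoidHom.mk' (fun m => ∏ P, zK P ^ n m P) fun m m' => by
    simp only [(hmul m m').1, Pi.add_apply, zpow_add, Finset.prod_mul_distrib]
  let ηHom : M →* Rˣ := MonoidHom.mk' η fun m m' => (hmul m m').2
  let Φb : B ⊗[A] H →ₐ[B] B ⊗[A] K :=
    (MonoidAlgebra.lift B (B ⊗[A] K) M ((Units.coeHom _).comp χ)).comp (e : B ⊗[A] H ≃ₐ[B] MonoidAlgebra B M).toAlgHom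
  let Φa : B ⊗[A] H →ₐ[B] R :=
    (MonoidAlgebra.lift B R M ((Units.coeHom _).comp ηHom)).comp (e : B ⊗[A] H ≃ₐ[B] MonoidAlgebra B M).toAlgHom
  have hΦb : ∀ m, Φb (chHom m) = (χ m : B ⊗[A] K) := fun m => by
    show MonoidAlgebra.lift B (B ⊗[A] K) M _ (e (e.symm (MonoidAlgebra.of B M m))) = _
    rw [e.apply_symm_apply, MonoidAlgebra.lift_of]
    rfl
  have hΦa : ∀ m, Φa (chHom m) = (η m : R) := fun m => by
    show MonoidAlgebra.lift B R M _ (e (e.symm (MonoidAlgebra.of B M m))) = _
    rw [e.apply_symm_apply, MonoidAlgebra.lift_of]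
    rfl
  have hgen : ∀ w, w ∈ Submodule.span B (Set.range chHom) := fun w => by
    rw [← e.symm_apply_apply w]
    generalize e w = y
    induction y using MonoidAlgebra.induction_linear with
    | zero => rw [map_zero]; exact zero_mem _
    | add a b ha hb => rw [map_add]; exact add_mem ha hb
    | single m c =>
      rw [← mul_one c, ← MonoidAlgebra.smul_single', map_smul]
      exact Submodule.smul_mem _ _ (Submodule.subset_span ⟨m, rfl⟩)
  -- the action on characters
  have hσ : ∀ (g : G) m, ∃ m', chHom m' = gact A G H g (chHom m) := fun g m => by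
    obtain ⟨m', hm'⟩ := MonoidAlgebra.isGroupLikeElem_iff_mem_range_single_one.mp
      ((isGroupLike_mA (MulSemiringAction.toAlgHom A B g) (hch m)).map (e : B ⊗[A] H →ₐc[B] MonoidAlgebra B M))
    refine ⟨m', ?_⟩
    show e.symm (MonoidAlgebra.single m' 1) = _
    rw [show MonoidAlgebra.single m' 1 = e (gact A G H g (chHom m)) from hm']
    exact e.symm_apply_apply _
  choose σ hσ using hσ
  have hzinj : Function.Injective z := fun P P' h => MaximalSpectrum.ext (by rw [← hz P, h, hz])
  choose π hπperm using hperm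
  have hπbij : ∀ g, Function.Bijective (π g) := fun g => Finite.injective_iff_bijective.1 fun P P' h => hzinj (by
    have := congrArg z h
    rw [hπperm, hπperm] at this
    exact MulAction.injective g this)
  have hxg : ∀ g w, gact A G Kh g (xh w) = xh (gact A G H g w) := fun g w => by
    induction w using TensorProduct.induction_on with
    | zero => simp
    | tmul b h =>
      have hxh : ∀ c : B, xh (c ⊗ₜ[A] h) = c ⊗ₜ[A] x h := fun c => by
        show algebraMap B B c ⊗ₜ[A] (1 : Kh) * ((1 : B) ⊗ₜ[A] x h) = _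
        rw [Algebra.TensorProduct.tmul_mul_tmul, mul_one, one_mul, Algebra.algebraMap_self_apply]
      rw [hxh, gact_tmul, gact_tmul, hxh]
    | add a b ha hb => simp only [map_add, ha, hb]
  let gK : G → (B ⊗[A] K)ˣ →* (B ⊗[A] K)ˣ := fun g => Units.map (gact A G K g).toMonoidHom
  let gR : G → Rˣ →* Rˣ := fun g => Units.map (gact A G Ah g).toMonoidHom
  let gR' : G → R'ˣ →* R'ˣ := fun g => Units.map (gact A G Kh g).toMonoidHom
  have hzKg : ∀ g P, gK g (zK P) = zK (π g P) := fun g P => Units.ext (by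
    show gact A G K g (z P ⊗ₜ[A] (1 : K)) = z (π g P) ⊗ₜ[A] (1 : K)
    rw [gact_tmul, hπperm])
  have hzug : ∀ g P, gR' g (zu P) = zu (π g P) := fun g P => Units.ext (by
    show gact A G Kh g (jK (z P ⊗ₜ[A] (1 : K))) = jK (z (π g P) ⊗ₜ[A] (1 : K))
    rw [Algebra.TensorProduct.map_tmul, Algebra.TensorProduct.map_tmul, gact_tmul, hπperm]
    rfl)
  have hequiv : ∀ g m, n (σ g m) ∘ π g = n m ∧ η (σ g m) = gR g (η m) := fun g m => by
    have hu : uHom (σ g m) = gR' g (uHom m) := Units.ext (by
      show xh (chHom (σ g m)) = gact A G Kh g (xh (chHom m))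
      rw [hσ, hxg])
    let ρ := Equiv.ofBijective _ (hπbij g)
    have h : uHom (σ g m) = Units.map (algebraMap R R').toMonoidHom (gR g (η m)) * ∏ P, zu P ^ n m (ρ.symm P) := by
      rw [hu, hη m, map_mul, map_prod]
      congr 1
      · exact Units.ext (gact_natural (IsScalarTower.toAlgHom A Ah Kh) g (η m : R))
      · refine Fintype.prod_equiv ρ _ _ fun P => ?_
        rw [map_zpow, hzug, Equiv.symm_apply_apply]
        rfl
    have hne := hnuniq _ _ _ h
    refine ⟨funext fun P => ?_, hmapinj ?_⟩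
    · rw [Function.comp_apply, hne]
      exact congrArg (n m) (ρ.symm_apply_apply P)
    · have := (hη (σ g m)).symm.trans h
      rw [hne] at this
      exact mul_right_cancel this
  have hsemi : ∀ (X : Type u) [CommRing X] [Algebra A X] (Φ : B ⊗[A] H →ₐ[B] B ⊗[A] X) (g : G),
      (∀ m, gact A G X g (Φ (chHom m)) = Φ (gact A G H g (chHom m))) →
      ∀ w, gact A G X g (Φ w) = Φ (gact A G H g w) := by
    intro X _ _ Φ g h w
    induction hgen w using Submodule.span_induction with
    | mem y hy => obtain ⟨m, rfl⟩ := hy; exact h m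
    | zero => simp
    | add a b _ _ ha hb => simp only [map_add, ha, hb]
    | smul c y _ hy =>
      have hs : ∀ (Y : Type u) [CommRing Y] [Algebra A Y] (c : B) (y : B ⊗[A] Y),
          gact A G Y g (c • y) = (g • c) • gact A G Y g y := fun Y _ _ c y => by
        rw [Algebra.smul_def, Algebra.smul_def, map_mul]
        simp [Algebra.TensorProduct.algebraMap_apply, gact_tmul]
      rw [map_smul, hs, hy, hs, map_smul]
  have hb : ∀ h : H, ∃ k : K, (1 : B) ⊗ₜ[A] k = Φb ((1 : B) ⊗ₜ[A] h) := fun h =>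
    exists_of_gact_fixed hinj K _ fun g => by
      rw [hsemi K Φb g (fun m => ?_) _, gact_tmul, smul_one]
      rw [← hσ, hΦb, hΦb]
      show ((gK g (χ m) : (B ⊗[A] K)ˣ) : B ⊗[A] K) = (χ (σ g m) : B ⊗[A] K)
      congr 1
      show gK g (∏ P, zK P ^ n m P) = ∏ P, zK P ^ n (σ g m) P
      rw [map_prod]
      refine Fintype.prod_equiv (Equiv.ofBijective _ (hπbij g)) _ _ fun P => ?_
      rw [map_zpow, hzKg, Equiv.ofBijective_apply, ← (hequiv g m).1]
      rfl
  have ha : ∀ h : H, ∃ y : Ah, (1 : B) ⊗ₜ[A] y = Φa ((1 : B) ⊗ₜ[A] h) := fun h =>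
    exists_of_gact_fixed hinj Ah _ fun g => by
      rw [hsemi Ah Φa g (fun m => ?_) _, gact_tmul, smul_one]
      rw [← hσ, hΦa, hΦa, (hequiv g m).2]
      rfl
  let iK : K →ₐ[A] B ⊗[A] K := Algebra.TensorProduct.includeRight
  let iA : Ah →ₐ[A] R := Algebra.TensorProduct.includeRight
  have hiK : Function.Injective iK := Algebra.TensorProduct.includeRight_injective hinj
  have hiA : Function.Injective iA := Algebra.TensorProduct.includeRight_injective hinj
  let b' : H →ₐ[A] K := (AlgEquiv.ofInjective iK hiK).symm.toAlgHom.comp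
    (((Φb.restrictScalars A).comp Algebra.TensorProduct.includeRight).codRestrict iK.range fun h => hb h)
  let a' : H →ₐ[A] Ah := (AlgEquiv.ofInjective iA hiA).symm.toAlgHom.comp
    (((Φa.restrictScalars A).comp Algebra.TensorProduct.includeRight).codRestrict iA.range fun h => ha h)
  have hb' : ∀ h, iK (b' h) = Φb ((1 : B) ⊗ₜ[A] h) := fun h => by
    show ((AlgEquiv.ofInjective iK hiK) ((AlgEquiv.ofInjective iK hiK).symm _) : B ⊗[A] K) = _
    rw [AlgEquiv.apply_symm_apply]
    rfl
  have ha' : ∀ h, iA (a' h) = Φa ((1 : B) ⊗ₜ[A] h) := fun h => by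
    show ((AlgEquiv.ofInjective iA hiA) ((AlgEquiv.ofInjective iA hiA).symm _) : R) = _
    rw [AlgEquiv.apply_symm_apply]
    rfl
  refine ⟨a', b', ?_⟩
  let iR : Kh →ₐ[A] R' := Algebra.TensorProduct.includeRight
  let pa := iR.comp ((IsScalarTower.toAlgHom A Ah Kh).comp a')
  let pb := iR.comp ((IsScalarTower.toAlgHom A K Kh).comp b')
  have hpa : hat B pa = jA.comp Φa := Algebra.TensorProduct.ext' fun c h => by
    rw [show c ⊗ₜ[A] h = c • ((1 : B) ⊗ₜ[A] h) by rw [TensorProduct.smul_tmul', smul_eq_mul, mul_one], map_smul, map_smul,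
      hat_one_tmul]
    show _ = c • jA (Φa ((1 : B) ⊗ₜ[A] h))
    rw [← ha']
    rfl
  have hpb : hat B pb = jK.comp Φb := Algebra.TensorProduct.ext' fun c h => by
    rw [show c ⊗ₜ[A] h = c • ((1 : B) ⊗ₜ[A] h) by rw [TensorProduct.smul_tmul', smul_eq_mul, mul_one], map_smul, map_smul,
      hat_one_tmul]
    show _ = c • jK (Φb ((1 : B) ⊗ₜ[A] h))
    rw [← hb']
    rfl
  have heq : hat B (toConv pa * toConv pb).ofConv = xh := by
    refine AlgHom.toLinearMap_injective (LinearMap.ext_on_range (v := chHom) (top_unique fun w _ => hgen w) fun m => ?_)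
    show hat B (toConv pa * toConv pb).ofConv (chHom m) = xh (chHom m)
    rw [hat_mul _ _ (hch m), hpa, hpb]
    show jA (Φa (chHom m)) * jK (Φb (chHom m)) = _
    rw [hΦa, hΦb]
    have h := congrArg Units.val (hη m)
    rw [Units.val_mul] at h
    refine Eq.trans ?_ h.symm
    congr 1
    show (Units.map jK.toMonoidHom (χ m) : R'ˣ).1 = _
    congr 1
    show Units.map jK.toMonoidHom (∏ P, zK P ^ n m P) = ∏ P, zu P ^ n m P
    rw [map_prod]
    simp [zu, map_zpow]
  refine AlgHom.ext fun h => Algebra.TensorProduct.includeRight_injective (R := A) (A := B) (B := Kh) hinj ?_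
  have h1 := DFunLike.congr_fun heq ((1 : B) ⊗ₜ[A] h)
  rw [hat_one_tmul, hat_one_tmul] at h1
  refine (h1.symm.trans ?_)
  exact (DFunLike.congr_fun (AlgHom.comp_convMul_distrib iR (toConv ((IsScalarTower.toAlgHom A Ah Kh).comp a'))
    (toConv ((IsScalarTower.toAlgHom A K Kh).comp b'))) h).symm

end Groth.Agent.GalTori
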