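import Mathlib.RingTheory.HopfAlgebra.Convolution
import Mathlib.RingTheory.Localization.Away.Basic
import Mathlib.RingTheory.Localization.FractionRing
import Mathlib.Algebra.MvPolynomial.Funext
import Mathlib.Combinatorics.Nullstellensatz
import Mathlib.FieldTheory.LinearDisjoint
import Mathlib.FieldTheory.Finite.Extension
import Mathlib.FieldTheory.Galois.Basic
import Mathlib.RingTheory.LocalRing.ResidueField.Basic
import Mathlib.RingTheory.Ideal.GoingUp

/-! Lifting points of commutative Hopf algebras which are retract rational. -/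

universe u

open TensorProduct WithConv

namespace Groth.Agent.GalTori

variable {k : Type u} [Field k] {A : Type u} [CommRing A] [HopfAlgebra k A] [Coalgebra.IsCocomm k A] {n : ℕ}
  {f : A} {q : MvPolynomial (Fin n) k} (α : Localization.Away q →ₐ[k] Localization.Away f)
  (β : A →ₐ[k] Localization.Away q)
  (hαβ : α.comp β = IsScalarTower.toAlgHom k A (Localization.Away f))

/-- A point of a Hopf algebra as a unit of the convolution monoid. -/
noncomputable def uconv {B : Type u} [CommRing B] [Algebra k B] (x : A →ₐ[k] B) : (WithConv (A →ₐ[k] B))ˣ :=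
  Units.mkOfMulEqOne (toConv x) (toConv (x.comp (HopfAlgebra.antipodeAlgHom k A))) (by
    rw [mul_comm]
    refine ((congrArg toConv (AlgHom.comp_convMul_distrib x (toConv (HopfAlgebra.antipodeAlgHom k A))
      (toConv (AlgHom.id k A)))).symm.trans ?_)
    rw [AlgHom.antipode_id_cancel]
    exact WithConv.ext (AlgHom.ext fun a => x.commutes _))

@[simp] theorem val_uconv {B : Type u} [CommRing B] [Algebra k B] (x : A →ₐ[k] B) :
    ((uconv x : (WithConv (A →ₐ[k] B))ˣ) : WithConv (A →ₐ[k] B)) = toConv x := rfl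

/-- Maps out of a localised algebra. -/
noncomputable def awayLift {B C : Type u} [CommRing B] [CommRing C] [Algebra k B] [Algebra k C] (b : B)
    (g : B →ₐ[k] C) (h : IsUnit (g b)) : Localization.Away b →ₐ[k] C :=
  { IsLocalization.Away.lift b (g := g.toRingHom) h with
    commutes' := fun r => by
      show IsLocalization.Away.lift b (g := g.toRingHom) h (algebraMap k (Localization.Away b) r) = _
      rw [IsScalarTower.algebraMap_apply k B (Localization.Away b), IsLocalization.Away.lift_eq]
      exact g.commutes r }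

theorem awayLift_eq {B C : Type u} [CommRing B] [CommRing C] [Algebra k B] [Algebra k C] (b : B)
    (g : B →ₐ[k] C) (h : IsUnit (g b)) (x : B) : awayLift b g h (algebraMap B _ x) = g x :=
  IsLocalization.Away.lift_eq b h x

theorem away_hom_ext {B C : Type u} [CommRing B] [CommRing C] [Algebra k B] [Algebra k C] (b : B)
    {g₁ g₂ : Localization.Away b →ₐ[k] C} (h : ∀ x, g₁ (algebraMap B _ x) = g₂ (algebraMap B _ x)) : g₁ = g₂ :=
  AlgHom.coe_ringHom_injective (IsLocalization.ringHom_ext (Submonoid.powers b) (RingHom.ext h))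

section lift

variable {B C : Type u} [CommRing B] [CommRing C] [Algebra k B] [Algebra k C] (ρ : B →ₐ[k] C)
  (hρ : Function.Surjective ρ) (hunit : ∀ b, IsUnit (ρ b) → IsUnit b)

include hρ hunit in
theorem exists_lift_hom (ψ : Localization.Away q →ₐ[k] C) : ∃ Ψ : Localization.Away q →ₐ[k] B, ρ.comp Ψ = ψ := by
  choose z hz using fun i : Fin n => hρ (ψ (algebraMap (MvPolynomial (Fin n) k) _ (MvPolynomial.X i)))
  have hcomp : ρ.comp (MvPolynomial.aeval z) = ψ.comp (IsScalarTower.toAlgHom k _ _) :=
    MvPolynomial.algHom_ext fun i => by simp [hz]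
  have hu : IsUnit (MvPolynomial.aeval z q) := hunit _ (by
    have h := DFunLike.congr_fun hcomp q
    simp only [AlgHom.comp_apply] at h
    rw [h]
    exact ((IsLocalization.Away.algebraMap_isUnit q).map ψ))
  refine ⟨awayLift q _ hu, away_hom_ext q fun x => ?_⟩
  rw [AlgHom.comp_apply, awayLift_eq]
  exact DFunLike.congr_fun hcomp x

include hρ hunit hαβ in
theorem exists_lift_point (w : A →ₐ[k] C) (hw : IsUnit (w f)) : ∃ W : A →ₐ[k] B, ρ.comp W = w := by
  obtain ⟨Ψ, hΨ⟩ := exists_lift_hom ρ hρ hunit ((awayLift f w hw).comp α)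
  refine ⟨Ψ.comp β, ?_⟩
  rw [← AlgHom.comp_assoc, hΨ, AlgHom.comp_assoc, hαβ]
  exact AlgHom.ext fun a => awayLift_eq f w hw a

end lift

variable {κ : Type u} [Field κ] [Algebra k κ]

include hαβ in
/-- The bad parameters form a hypersurface. -/
theorem exists_good_poly [IsDomain (κ ⊗[k] A)] (hf : f ≠ 0) (x : A →ₐ[k] κ) :
    ∃ G : MvPolynomial (Fin n) κ, G ≠ 0 ∧ ∀ (F : Type u) [Field F] [Algebra k F] [Algebra κ F] [IsScalarTower k κ F]
      (z : Fin n → F), MvPolynomial.aeval z G ≠ 0 → ∃ v : A →ₐ[k] F, v f ≠ 0 ∧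
        (toConv ((IsScalarTower.toAlgHom k κ F).comp x) * toConv v) f ≠ 0 := by
  let R := κ ⊗[k] A
  let P : A →ₐ[k] R := Algebra.TensorProduct.includeRight
  let xR : A →ₐ[k] R := (IsScalarTower.toAlgHom k κ R).comp x
  let g : R := (toConv xR * toConv P) f
  have hP : P f ≠ 0 := fun h => hf (Algebra.TensorProduct.includeRight_injective (R := k) (A := κ)
    (algebraMap k κ).injective (h.trans (map_zero _).symm))
  have hg : g ≠ 0 := by
    intro hg
    let Φ : R →ₐ[κ] R := Algebra.TensorProduct.lift (Algebra.ofId κ R) ((↑(uconv xR)⁻¹ : WithConv (A →ₐ[k] R)) * toConv P).ofConv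
      (fun _ _ => Commute.all _ _)
    have h1 : (Φ.restrictScalars k).comp xR = xR := AlgHom.ext fun a => Φ.commutes (x a)
    have h2 : (Φ.restrictScalars k).comp P = ((↑(uconv xR)⁻¹ : WithConv (A →ₐ[k] R)) * toConv P).ofConv :=
      Algebra.TensorProduct.lift_comp_includeRight _ _ _
    have h3 := AlgHom.comp_convMul_distrib (Φ.restrictScalars k) (toConv xR) (toConv P)
    simp only [WithConv.ofConv_toConv, h1, h2, WithConv.toConv_ofConv] at h3
    rw [show toConv xR = (↑(uconv xR) : WithConv (A →ₐ[k] R)) from rfl, Units.mul_inv_cancel_left] at h3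
    exact hP ((DFunLike.congr_fun h3 f).symm.trans ((congrArg Φ hg).trans (map_zero Φ)))
  let Pκ := MvPolynomial (Fin n) κ
  let qκ : Pκ := MvPolynomial.map (algebraMap k κ) q
  let C := Localization.Away qκ
  let mapP : MvPolynomial (Fin n) k →ₐ[k] Pκ := MvPolynomial.mapAlgHom (Algebra.ofId k κ)
  have hmapq : mapP q = qκ := rfl
  let j : Localization.Away q →ₐ[k] C := awayLift q ((IsScalarTower.toAlgHom k Pκ C).comp mapP)
    (IsLocalization.Away.algebraMap_isUnit qκ)
  let βκ : R →ₐ[κ] C := Algebra.TensorProduct.lift (Algebra.ofId κ C) (j.comp β) (fun _ _ => Commute.all _ _)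
  let E := FractionRing R
  have hinjE : Function.Injective (algebraMap R E) := IsFractionRing.injective R E
  let γ : Localization.Away f →ₐ[k] E := awayLift f ((IsScalarTower.toAlgHom k R E).comp P)
    (isUnit_iff_ne_zero.2 fun h => hP (hinjE (h.trans (map_zero _).symm)))
  let y : Fin n → E := fun i => γ (α (algebraMap (MvPolynomial (Fin n) k) _ (MvPolynomial.X i)))
  have hy : ((MvPolynomial.aeval y : Pκ →ₐ[κ] E).restrictScalars k).comp mapP =
      (γ.comp α).comp (IsScalarTower.toAlgHom k _ _) :=
    MvPolynomial.algHom_ext fun i => by simp [mapP, y]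
  have hqu : IsUnit (MvPolynomial.aeval y qκ) := by
    have h := DFunLike.congr_fun hy q
    simp only [AlgHom.comp_apply, AlgHom.restrictScalars_apply] at h
    rw [← hmapq, h]
    exact ((IsLocalization.Away.algebraMap_isUnit q).map α).map γ
  let αE : C →+* E := IsLocalization.Away.lift qκ (g := (MvPolynomial.aeval y).toRingHom) hqu
  have hαE : ∀ b, αE (algebraMap Pκ C b) = MvPolynomial.aeval y b := IsLocalization.Away.lift_eq qκ hqu
  have hαj : ∀ b, αE (j b) = γ (α b) := by
    intro b
    refine RingHom.congr_fun (IsLocalization.ringHom_ext (Submonoid.powers q)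
      (j := αE.comp j.toRingHom) (k := (γ.comp α).toRingHom) (RingHom.ext fun p => ?_)) b
    show αE (j (algebraMap _ _ p)) = γ (α (algebraMap _ _ p))
    refine (congrArg αE (awayLift_eq q _ _ p)).trans ?_
    show αE (algebraMap Pκ C (mapP p)) = _
    rw [hαE]
    exact DFunLike.congr_fun hy p
  have hid : ∀ r, αE (βκ r) = algebraMap R E r := by
    intro r
    induction r using TensorProduct.induction_on with
    | zero => simp
    | tmul c a =>
      show αE (algebraMap κ C c * j (β a)) = _
      rw [map_mul, hαj, IsScalarTower.algebraMap_apply κ Pκ C, hαE, AlgHom.commutes,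
        show α (β a) = algebraMap A _ a from DFunLike.congr_fun hαβ a,
        show γ (algebraMap A _ a) = algebraMap R E (P a) from awayLift_eq f _ _ a,
        IsScalarTower.algebraMap_apply κ R E, ← map_mul]
      congr 1
      show (algebraMap κ R c) * ((1 : κ) ⊗ₜ[k] a) = c ⊗ₜ[k] a
      rw [Algebra.TensorProduct.algebraMap_apply, Algebra.TensorProduct.tmul_mul_tmul, Algebra.algebraMap_self_apply, mul_one, one_mul]
    | add a b ha hb => simp only [map_add, ha, hb]
  obtain ⟨⟨N, ⟨_, m, rfl⟩⟩, hN⟩ := IsLocalization.surj (Submonoid.powers qκ) (βκ (g * P f))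
  have hN0 : N ≠ 0 := by
    intro h
    rw [h, map_zero] at hN
    have h' := congrArg αE hN
    rw [map_mul, hid, map_zero, map_pow, map_pow, hαE] at h'
    exact mul_ne_zero (fun e => mul_ne_zero hg hP (hinjE (e.trans (map_zero _).symm))) (pow_ne_zero _ hqu.ne_zero) h'
  have hq0 : qκ ≠ 0 := fun h => hqu.ne_zero (by rw [h, map_zero])
  refine ⟨N * qκ, mul_ne_zero hN0 hq0, fun F _ _ _ _ z hz => ?_⟩
  rw [map_mul] at hz
  have hzq : IsUnit (MvPolynomial.aeval z qκ) := isUnit_iff_ne_zero.2 (right_ne_zero_of_mul hz)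
  let ev : C →ₐ[κ] F :=
    { IsLocalization.Away.lift qκ (g := (MvPolynomial.aeval z).toRingHom) hzq with
      commutes' := fun c => by
        show IsLocalization.Away.lift qκ (g := (MvPolynomial.aeval z).toRingHom) hzq (algebraMap κ C c) = _
        rw [IsScalarTower.algebraMap_apply κ Pκ C, IsLocalization.Away.lift_eq]
        exact AlgHom.commutes _ c }
  let Φ : R →ₐ[κ] F := ev.comp βκ
  have hne : Φ (g * P f) ≠ 0 := fun h => by
    have h' := congrArg ev hN
    rw [map_mul, show ev (βκ (g * P f)) = 0 from h, zero_mul,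
      show ev (algebraMap Pκ C N) = MvPolynomial.aeval z N from IsLocalization.Away.lift_eq qκ hzq N] at h'
    exact left_ne_zero_of_mul hz h'.symm
  rw [map_mul] at hne
  refine ⟨(Φ.restrictScalars k).comp P, right_ne_zero_of_mul hne, ?_⟩
  have h1 : (Φ.restrictScalars k).comp xR = (IsScalarTower.toAlgHom k κ F).comp x :=
    AlgHom.ext fun a => Φ.commutes (x a)
  have h3 := AlgHom.comp_convMul_distrib (Φ.restrictScalars k) (toConv xR) (toConv P)
  simp only [WithConv.ofConv_toConv, h1] at h3
  rw [← h3]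
  exact left_ne_zero_of_mul hne

theorem exists_eval_ne_zero {F : Type u} [Field F] [Algebra κ F] (G : MvPolynomial (Fin n) κ) (hG : G ≠ 0)
    (h : Infinite F ∨ G.totalDegree < Nat.card F) : ∃ z : Fin n → F, MvPolynomial.aeval z G ≠ 0 := by
  by_contra hc
  push Not at hc
  have hG' : MvPolynomial.map (algebraMap κ F) G ≠ 0 := fun h0 =>
    hG (MvPolynomial.map_injective _ (algebraMap κ F).injective (h0.trans (map_zero _).symm))
  have hev : ∀ z, MvPolynomial.eval z (MvPolynomial.map (algebraMap κ F) G) = 0 := fun z => by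
    rw [MvPolynomial.eval_map, ← MvPolynomial.aeval_def]
    exact hc z
  rcases finite_or_infinite F with hfin | hinf
  · have := Fintype.ofFinite F
    replace h := h.resolve_left (fun hi => not_finite F)
    refine hG' (MvPolynomial.eq_zero_of_eval_zero_at_prod_finset _ (fun _ => Finset.univ) (fun i => ?_)
      fun z _ => hev z)
    rw [Finset.card_univ, ← Nat.card_eq_fintype_card]
    exact lt_of_le_of_lt ((MvPolynomial.degreeOf_le_totalDegree _ i).trans (Finset.sup_mono (MvPolynomial.support_map_subset _ _))) h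
  · exact hG' (MvPolynomial.funext fun z => (hev z).trans (map_zero _).symm)

/-- Elements fixed by the Galois group come from the base. -/
theorem exists_of_fixed {D : Type u} {L : Type*} [CommRing D] [Algebra k D] [Field L] [Algebra k L] [FiniteDimensional k L]
    [IsGalois k L] (z : D ⊗[k] L)
    (hz : ∀ σ : L ≃ₐ[k] L, Algebra.TensorProduct.map (AlgHom.id k D) (σ : L →ₐ[k] L) z = z) :
    ∃ d : D, d ⊗ₜ[k] (1 : L) = z := by
  classical
  let b := Module.Basis.ofVectorSpace k D
  let e := TensorProduct.equivFinsuppOfBasisLeft (N := L) b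
  have hnat : ∀ (σ : L ≃ₐ[k] L) (w : D ⊗[k] L) i,
      e (Algebra.TensorProduct.map (AlgHom.id k D) (σ : L →ₐ[k] L) w) i = σ (e w i) := by
    intro σ w i
    induction w using TensorProduct.induction_on with
    | zero => simp
    | tmul d l => simp [e, map_smul]
    | add a c ha hc => simp only [map_add, Finsupp.add_apply, ha, hc]
  have hfix : ∀ i, ∃ c : k, algebraMap k L c = e z i := fun i =>
    IntermediateField.mem_bot.mp ((IsGalois.mem_bot_iff_fixed _).mpr fun σ => by rw [← hnat, hz])
  choose c hc using hfix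
  refine ⟨∑ i ∈ (e z).support, c i • b i, ?_⟩
  conv_rhs => rw [← e.symm_apply_apply z, ← Finsupp.sum_single (e z)]
  rw [Finsupp.sum, map_sum, TensorProduct.sum_tmul]
  refine Finset.sum_congr rfl fun i _ => ?_
  rw [TensorProduct.equivFinsuppOfBasisLeft_symm_apply, Finsupp.sum_single_index (by simp), ← hc,
    TensorProduct.smul_tmul, Algebra.algebraMap_eq_smul_one]

variable {D : Type u} [CommRing D] [IsLocalRing D] [Algebra k D]

/-- The norm of a lift over a finite Galois extension. -/
theorem exists_lift_pow {L : Type}  [Field L] [Algebra k L] [FiniteDimensional k L] [IsGalois k L]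
    (x : A →ₐ[k] IsLocalRing.ResidueField D) (X : A →ₐ[k] D ⊗[k] L)
    (hX : (Algebra.TensorProduct.map (IsScalarTower.toAlgHom k D (IsLocalRing.ResidueField D)) (AlgHom.id k L)).comp X =
      (Algebra.TensorProduct.includeLeft : IsLocalRing.ResidueField D →ₐ[k] _).comp x) :
    ∃ Y : A →ₐ[k] D, (IsScalarTower.toAlgHom k D (IsLocalRing.ResidueField D)).comp Y =
      (toConv x ^ Module.finrank k L).ofConv := by
  let κ := IsLocalRing.ResidueField D
  let g : (L ≃ₐ[k] L) → (D ⊗[k] L →ₐ[k] D ⊗[k] L) := fun σ =>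
    Algebra.TensorProduct.map (AlgHom.id k D) (σ : L →ₐ[k] L)
  let push : ∀ {B C : Type u} [CommRing B] [CommRing C] [Algebra k B] [Algebra k C],
      (B →ₐ[k] C) → (WithConv (A →ₐ[k] B) →* WithConv (A →ₐ[k] C)) := fun h =>
    { toFun := fun p => toConv (h.comp p.ofConv)
      map_one' := by
        apply WithConv.ext
        exact AlgHom.ext fun a => by simp [AlgHom.convOne_def]
      map_mul' := fun p q => by
        apply WithConv.ext
        exact AlgHom.comp_convMul_distrib h p q }
  let N : WithConv (A →ₐ[k] D ⊗[k] L) := ∏ σ, push (g σ) (toConv X)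
  have hN : ∀ τ, push (g τ) N = N := fun τ => by
    rw [map_prod]
    refine Fintype.prod_equiv (Equiv.mulLeft τ) _ _ fun σ => ?_
    apply WithConv.ext
    show (g τ).comp ((g σ).comp X) = (g (τ * σ)).comp X
    rw [← AlgHom.comp_assoc, ← Algebra.TensorProduct.map_comp]
    rfl
  have hfix : ∀ a, ∃ d : D, d ⊗ₜ[k] (1 : L) = N a := fun a =>
    exists_of_fixed _ fun τ => DFunLike.congr_fun (congrArg WithConv.ofConv (hN τ)) a
  let i : D →ₐ[k] D ⊗[k] L := Algebra.TensorProduct.includeLeft
  have hi : Function.Injective i := Algebra.TensorProduct.includeLeft_injective (S := k) (algebraMap k L).injective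
  let Y : A →ₐ[k] D := ((AlgEquiv.ofInjective i hi).symm : _ →ₐ[k] _).comp
    (N.ofConv.codRestrict i.range fun a => hfix a)
  have hY : i.comp Y = N.ofConv := AlgHom.ext fun a => by
    show ((AlgEquiv.ofInjective i hi) ((AlgEquiv.ofInjective i hi).symm _) : D ⊗[k] L) = _
    rw [AlgEquiv.apply_symm_apply]
    rfl
  refine ⟨Y, ?_⟩
  let ρ := IsScalarTower.toAlgHom k D κ
  let ρL := Algebra.TensorProduct.map ρ (AlgHom.id k L)
  let iκ : κ →ₐ[k] κ ⊗[k] L := Algebra.TensorProduct.includeLeft
  have hiκ : Function.Injective iκ := Algebra.TensorProduct.includeLeft_injective (S := k) (algebraMap k L).injective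
  have h1 : toConv (ρL.comp N.ofConv) = push iκ (toConv x ^ Module.finrank k L) := by
    rw [show toConv (ρL.comp N.ofConv) = push ρL N from rfl, map_prod, map_pow]
    rw [← IsGalois.card_aut_eq_finrank k L, Nat.card_eq_fintype_card, ← Finset.card_univ, ← Finset.prod_const]
    refine Finset.prod_congr rfl fun σ _ => ?_
    apply WithConv.ext
    show ρL.comp ((g σ).comp X) = iκ.comp x
    have : ρL.comp (g σ) = (Algebra.TensorProduct.map (AlgHom.id k κ) (σ : L →ₐ[k] L)).comp ρL := by
      rw [← Algebra.TensorProduct.map_comp, ← Algebra.TensorProduct.map_comp]; rfl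
    rw [← AlgHom.comp_assoc, this, AlgHom.comp_assoc, hX, ← AlgHom.comp_assoc]
    congr 1
    refine AlgHom.ext fun c => ?_
    show c ⊗ₜ[k] (σ (1 : L)) = c ⊗ₜ[k] (1 : L)
    rw [map_one]
  refine AlgHom.ext fun a => hiκ ?_
  have h2 := DFunLike.congr_fun (congrArg WithConv.ofConv h1) a
  rw [← hY] at h2
  simp [iκ, i, ρL, ρ, push] at h2 ⊢
  exact h2

/-- Composition with an algebra map on points. -/
noncomputable def pushPt {B C : Type u} [CommRing B] [CommRing C] [Algebra k B] [Algebra k C] (h : B →ₐ[k] C) :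
    WithConv (A →ₐ[k] B) →* WithConv (A →ₐ[k] C) where
  toFun p := toConv (h.comp p.ofConv)
  map_one' := WithConv.ext (AlgHom.ext fun _ => h.commutes _)
  map_mul' p q := WithConv.ext (AlgHom.comp_convMul_distrib h p q)

include hαβ in
/-- Lifting a large prime power over a finite residue field. -/
theorem exists_lift_prime_pow [Finite k] (p : ℕ) [Fact p.Prime] [CharP k p]
    [Finite (IsLocalRing.ResidueField D)] (x : A →ₐ[k] IsLocalRing.ResidueField D)
    (G : MvPolynomial (Fin n) (IsLocalRing.ResidueField D)) (hG : G ≠ 0)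
    (hgood : ∀ (F : Type u) [Field F] [Algebra k F] [Algebra (IsLocalRing.ResidueField D) F]
      [IsScalarTower k (IsLocalRing.ResidueField D) F]
      (z : Fin n → F), MvPolynomial.aeval z G ≠ 0 → ∃ v : A →ₐ[k] F, v f ≠ 0 ∧
        (toConv ((IsScalarTower.toAlgHom k (IsLocalRing.ResidueField D) F).comp x) * toConv v) f ≠ 0)
    (m : ℕ) (hm : m.Prime) (hmlt : max G.totalDegree (Module.finrank k (IsLocalRing.ResidueField D)) < m) :
    uconv x ^ m ∈ (Units.map (pushPt (A := A) (IsScalarTower.toAlgHom k D (IsLocalRing.ResidueField D)))).range := by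
  let κ := IsLocalRing.ResidueField D
  let ρ := IsScalarTower.toAlgHom k D κ
  have hρ : Function.Surjective ρ := IsLocalRing.residue_surjective
  have : Module.Finite k κ := Module.Finite.of_finite
  have : NeZero m := ⟨hm.ne_zero⟩
  let L := FiniteField.Extension k p m
  have hcop : (Module.finrank k κ).Coprime (Module.finrank k L) := by
    rw [FiniteField.finrank_extension]
    exact (Nat.Coprime.symm ((Nat.Prime.coprime_iff_not_dvd hm).2 (Nat.not_dvd_of_pos_of_lt Module.finrank_pos
      ((le_max_right _ _).trans_lt hmlt))))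
  have hfield : IsField (κ ⊗[k] L) := by
    let E := AlgebraicClosure κ
    let fb : L →ₐ[k] E := IsAlgClosed.lift
    let fa : κ →ₐ[k] E := IsScalarTower.toAlgHom k κ E
    refine IntermediateField.LinearDisjoint.isField_of_isAlgebraic' (fa := fa) (fb := fb) ?_
      (Or.inl inferInstance)
    refine IntermediateField.LinearDisjoint.of_finrank_coprime ?_
    rwa [show Module.finrank k fa.fieldRange = Module.finrank k κ from
        (AlgEquiv.ofInjectiveField fa).toLinearEquiv.finrank_eq.symm,
      show Module.finrank k fb.fieldRange = Module.finrank k L from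
        (AlgEquiv.ofInjectiveField fb).toLinearEquiv.finrank_eq.symm]
  let _ := hfield.toField
  let F := κ ⊗[k] L
  have : Finite F := Module.finite_of_finite k
  obtain ⟨z, hz⟩ := exists_eval_ne_zero (F := F) G hG (Or.inr (by
    refine ((le_max_left _ _).trans_lt hmlt).trans_le ?_
    rw [Module.natCard_eq_pow_finrank (K := k) (V := F), Module.finrank_tensorProduct, FiniteField.finrank_extension]
    exact (Nat.lt_pow_self (Finite.one_lt_card (α := k))).le.trans
      (Nat.pow_le_pow_right Nat.card_pos (Nat.le_mul_of_pos_left m Module.finrank_pos))))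
  obtain ⟨v, hv, hxv⟩ := hgood F z hz
  let ρL : D ⊗[k] L →ₐ[k] F := Algebra.TensorProduct.map ρ (AlgHom.id k L)
  have hρL : Function.Surjective ρL := TensorProduct.map_surjective hρ Function.surjective_id
  have hunit : ∀ b, IsUnit (ρL b) → IsUnit b := fun b hb => by
    by_contra hnb
    obtain ⟨M, hM, hbM⟩ := exists_max_ideal_of_mem_nonunits hnb
    have hker : RingHom.ker ρL.toRingHom ≤ M := by
      have hk := Algebra.TensorProduct.rTensor_ker (R := k) (C := L) ρ hρ
      show RingHom.ker (Algebra.TensorProduct.map ρ (AlgHom.id k L)) ≤ M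
      rw [hk, Ideal.map_le_iff_le_comap]
      have h1 : (M.comap (algebraMap D (D ⊗[k] L))).IsMaximal := Ideal.isMaximal_comap_of_isIntegral_of_isMaximal M
      intro d hd
      have : d ∈ M.comap (algebraMap D (D ⊗[k] L)) := by
        rw [IsLocalRing.eq_maximalIdeal h1]
        exact (IsLocalRing.residue_eq_zero_iff d).1 hd
      exact this
    have : (M.map ρL.toRingHom) ≠ ⊤ := fun ht => hM.ne_top (by
      have := congrArg (Ideal.comap ρL.toRingHom) ht
      rwa [Ideal.comap_map_of_surjective ρL.toRingHom hρL, Ideal.comap_top, ← RingHom.ker_eq_comap_bot, sup_eq_left.2 hker] at this)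
    exact this (Ideal.eq_top_of_isUnit_mem _ (Ideal.mem_map_of_mem _ hbM) hb)
  let iκ : κ →ₐ[k] F := IsScalarTower.toAlgHom k κ F
  obtain ⟨V, hV⟩ := exists_lift_point α β hαβ ρL hρL hunit v (isUnit_iff_ne_zero.2 hv)
  obtain ⟨W, hW⟩ := exists_lift_point α β hαβ ρL hρL hunit (toConv (iκ.comp x) * toConv v).ofConv
    (isUnit_iff_ne_zero.2 hxv)
  let pL := pushPt (A := A) ρL
  have hX : ρL.comp (toConv W * ↑(uconv V)⁻¹ : WithConv (A →ₐ[k] D ⊗[k] L)).ofConv = iκ.comp x := by
    have : pL (toConv W * ↑(uconv V)⁻¹) = toConv (iκ.comp x) := by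
      rw [map_mul, show pL (toConv W) = toConv (iκ.comp x) * toConv v from congrArg toConv hW, mul_assoc,
        show toConv v = pL ↑(uconv V) from (congrArg toConv hV).symm, ← map_mul, Units.mul_inv, map_one, mul_one]
    exact congrArg WithConv.ofConv this
  obtain ⟨Y, hY⟩ := exists_lift_pow x _ (hX.trans (by rfl))
  rw [FiniteField.finrank_extension] at hY
  exact ⟨uconv Y, Units.ext (congrArg toConv hY)⟩

include hαβ in
/-- The main lifting statement. -/
theorem exists_lift
    (hdom : ∀ (K : Type u) [Field K] [Algebra k K], IsDomain (K ⊗[k] A))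
    (hf : f ≠ 0) (x : A →ₐ[k] IsLocalRing.ResidueField D) :
    ∃ X : A →ₐ[k] D, (IsScalarTower.toAlgHom k D (IsLocalRing.ResidueField D)).comp X = x := by
  let κ := IsLocalRing.ResidueField D
  let ρ := IsScalarTower.toAlgHom k D κ
  have := hdom κ
  have hρ : Function.Surjective ρ := IsLocalRing.residue_surjective
  let pushρ := pushPt (A := A) ρ
  suffices h : uconv x ∈ (Units.map pushρ).range by
    obtain ⟨X, hX⟩ := h
    exact ⟨(X : WithConv (A →ₐ[k] D)).ofConv, congrArg WithConv.ofConv (congrArg Units.val hX)⟩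
  obtain ⟨G, hG, hgood⟩ := exists_good_poly α β hαβ hf x
  rcases finite_or_infinite κ with hfin | hinf
  · have : Finite k := Finite.of_injective _ (algebraMap k κ).injective
    obtain ⟨p, hp⟩ := CharP.exists k
    have : Fact p.Prime := ⟨CharP.char_is_prime k p⟩
    have : Module.Finite k κ := Module.Finite.of_finite
    obtain ⟨m₁, hm₁, hp₁⟩ := Nat.exists_infinite_primes (max G.totalDegree (Module.finrank k κ) + 1)
    obtain ⟨m₂, hm₂, hp₂⟩ := Nat.exists_infinite_primes (m₁ + 1)
    have h1 := exists_lift_prime_pow α β hαβ p x G hG hgood m₁ hp₁ (Nat.lt_of_succ_le hm₁)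
    have h2 := exists_lift_prime_pow α β hαβ p x G hG hgood m₂ hp₂ ((Nat.lt_of_succ_le hm₁).trans (Nat.lt_of_succ_le hm₂))
    have hc : Nat.gcd m₁ m₂ = 1 := (Nat.coprime_primes hp₁ hp₂).2 (by omega)
    have hbez := Nat.gcd_eq_gcd_ab m₁ m₂
    rw [hc, Nat.cast_one] at hbez
    rw [← zpow_one (uconv x), hbez, zpow_add, zpow_mul, zpow_mul, zpow_natCast, zpow_natCast]
    exact mul_mem (zpow_mem h1 _) (zpow_mem h2 _)
  · obtain ⟨z, hz⟩ := exists_eval_ne_zero (F := κ) G hG (Or.inl hinf)
    obtain ⟨v, hv, hxv⟩ := hgood κ z hz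
    have hunit : ∀ b, IsUnit (ρ b) → IsUnit b := fun b hb =>
      IsLocalRing.residue_ne_zero_iff_isUnit b |>.1 hb.ne_zero
    obtain ⟨V, hV⟩ := exists_lift_point α β hαβ ρ hρ hunit v (isUnit_iff_ne_zero.2 hv)
    obtain ⟨W, hW⟩ := exists_lift_point α β hαβ ρ hρ hunit (toConv ((IsScalarTower.toAlgHom k κ κ).comp x) * toConv v).ofConv
      (isUnit_iff_ne_zero.2 hxv)
    refine ⟨uconv W * (uconv V)⁻¹, ?_⟩
    rw [map_mul, map_inv, mul_inv_eq_iff_eq_mul]
    exact Units.ext ((congrArg toConv hW).trans (congrArg₂ (· * ·) rfl (congrArg toConv hV).symm))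

end Groth.Agent.GalTori
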