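import Groth.Agent.GalTori.Twisted
import Groth.Agent.GalTori.IntegralPoint
import Mathlib.RingTheory.AlgebraicIndependent.Adjoin
import Mathlib.RingTheory.TensorProduct.MvPolynomial

/-! Invariant rational functions on tori. -/

universe u

open TensorProduct

namespace Groth.Agent.GalTori

variable {k : Type u} [Field k] {L : Type u} [Field L] [Algebra k L]

/-- The permutation lattice on a set. -/
abbrev PermLat (S : Type u) : Type u := Multiplicative (S → ℤ)

/-- A basis vector of a permutation lattice. -/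
noncomputable def gen {S : Type u} (s : S) : PermLat S := by
  classical exact Multiplicative.ofAdd (Pi.single s 1)

/-- The homomorphism with given values on the basis of a permutation lattice. -/
noncomputable def pw {S : Type u} [Fintype S] {X : Type*} [CommGroup X] (w : S → X) : PermLat S →* X where
  toFun v := ∏ s, w s ^ (Multiplicative.toAdd v s)
  map_one' := by simp
  map_mul' a b := by simp [zpow_add, Finset.prod_mul_distrib]

theorem pw_gen {S : Type u} [Fintype S] {X : Type*} [CommGroup X] (w : S → X) (s : S) : pw w (gen s) = w s := by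
  classical
  show ∏ t, w t ^ ((Pi.single s 1 : S → ℤ) t) = w s
  rw [Finset.prod_eq_single s (fun t _ ht => by simp [ht]) (by simp)]
  simp

theorem pw_gen_id {S : Type u} [Fintype S] (v : PermLat S) : pw gen v = v := by
  classical
  apply Multiplicative.toAdd.injective
  funext t
  show Multiplicative.toAdd (∏ s, gen s ^ Multiplicative.toAdd v s) t = _
  rw [toAdd_prod, Finset.sum_apply, Finset.sum_eq_single t (fun s _ hs => by simp [gen, Ne.symm hs]) (by simp)]
  simp [gen]

/-- The action on a permutation lattice. -/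
noncomputable def permθ {G : Type u} [Group G] {S : Type u} [Fintype S] (π : G →* Equiv.Perm S) :
    G →* MulAut (PermLat S) where
  toFun g := AddEquiv.toMultiplicative
    { toFun := fun v s => v ((π g).symm s)
      invFun := fun v s => v (π g s)
      left_inv := fun v => funext fun s => by simp
      right_inv := fun v => funext fun s => by simp
      map_add' := fun a b => rfl }
  map_one' := by ext v; simp [Equiv.Perm.one_def]
  map_mul' g h := by ext v; simp [Equiv.Perm.mul_def]

theorem permθ_gen {G : Type u} [Group G] {S : Type u} [Fintype S] (π : G →* Equiv.Perm S) (g : G) (s : S) :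
    permθ π g (gen s) = gen (π g s) := by
  classical
  apply Multiplicative.toAdd.injective
  funext t
  show (Pi.single s 1 : S → ℤ) ((π g).symm t) = (Pi.single (π g s) 1 : S → ℤ) t
  simp [Pi.single_apply, Equiv.symm_apply_eq]

variable (L) in
/-- The function field of a split torus. -/
abbrev Fn (W : Type u) [CommGroup W] := FractionRing (MonoidAlgebra L W)

variable (L) in
/-- A character as a rational function. -/
noncomputable def chr {W : Type u} [CommGroup W] [IsDomain (MonoidAlgebra L W)] : W →* (Fn L W)ˣ :=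
  MonoidHom.toHomUnits ((algebraMap (MonoidAlgebra L W) (Fn L W)).toMonoidHom.comp (MonoidAlgebra.of L W))

theorem chr_val {W : Type u} [CommGroup W] [IsDomain (MonoidAlgebra L W)] (w : W) :
    (chr L w : Fn L W) = algebraMap (MonoidAlgebra L W) (Fn L W) (MonoidAlgebra.single w 1) := rfl

theorem linearIndependent_chr {W : Type u} [CommGroup W] [IsDomain (MonoidAlgebra L W)] :
    LinearIndependent L fun w : W => (chr L w : Fn L W) := by
  rw [linearIndependent_iff]
  intro c hc
  have hlin : ∀ c : W →₀ L, (IsScalarTower.toAlgHom L (MonoidAlgebra L W) (Fn L W)) (MonoidAlgebra.ofCoeff c) =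
      Finsupp.linearCombination L (fun w => (chr L w : Fn L W)) c := fun c => by
    induction c using Finsupp.induction_linear with
    | zero => simp
    | add a b ha hb => rw [MonoidAlgebra.ofCoeff_add, map_add, map_add, ha, hb]
    | single w a =>
      rw [Finsupp.linearCombination_single, MonoidAlgebra.ofCoeff_single,
        show MonoidAlgebra.single w a = a • MonoidAlgebra.single w (1 : L) by simp [MonoidAlgebra.smul_single], map_smul]
      rfl
  have h := (hlin c).trans hc
  have := IsFractionRing.injective (MonoidAlgebra L W) (Fn L W) (h.trans (map_zero _).symm)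
  simpa using congrArg MonoidAlgebra.coeff this

section act

variable {W : Type u} [CommGroup W] [IsDomain (MonoidAlgebra L W)] (θ : (L ≃ₐ[k] L) →* MulAut W)

theorem tw_injective (σ : L ≃ₐ[k] L) : Function.Injective (tw θ σ) := fun x y h => by
  have := congrArg (tw θ σ⁻¹) h
  rwa [← tw_mul, ← tw_mul, inv_mul_cancel, tw_one, tw_one] at this

/-- The Galois action on rational functions. -/
noncomputable def fAct (σ : L ≃ₐ[k] L) : Fn L W →ₐ[k] Fn L W :=
  IsFractionRing.liftAlgHom (R := k) (g := (IsScalarTower.toAlgHom k (MonoidAlgebra L W) (Fn L W)).comp (tw θ σ))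
    ((IsFractionRing.injective (MonoidAlgebra L W) (Fn L W)).comp (tw_injective θ σ))

theorem fAct_algebraMap (σ : L ≃ₐ[k] L) (x : MonoidAlgebra L W) :
    fAct θ σ (algebraMap (MonoidAlgebra L W) (Fn L W) x) = algebraMap (MonoidAlgebra L W) (Fn L W) (tw θ σ x) :=
  IsLocalization.lift_eq _ x

theorem fAct_chr (σ : L ≃ₐ[k] L) (w : W) : fAct θ σ (chr L w : Fn L W) = (chr L (θ σ w) : Fn L W) := by
  rw [chr_val, fAct_algebraMap, tw_single, map_one, ← chr_val]

theorem fAct_scalar (σ : L ≃ₐ[k] L) (a : L) : fAct θ σ (algebraMap L (Fn L W) a) = algebraMap L (Fn L W) (σ a) := by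
  rw [IsScalarTower.algebraMap_apply L (MonoidAlgebra L W) (Fn L W) a, fAct_algebraMap,
    IsScalarTower.algebraMap_apply L (MonoidAlgebra L W) (Fn L W) (σ a)]
  congr 1
  show tw θ σ (MonoidAlgebra.single 1 a) = MonoidAlgebra.single 1 (σ a)
  rw [tw_single, map_one]

theorem fAct_mul (σ τ : L ≃ₐ[k] L) (x : Fn L W) : fAct θ (σ * τ) x = fAct θ σ (fAct θ τ x) := by
  obtain ⟨a, b, -, rfl⟩ := IsFractionRing.div_surjective (A := MonoidAlgebra L W) x
  simp only [map_div₀, fAct_algebraMap, tw_mul]

theorem fAct_one (x : Fn L W) : fAct θ 1 x = x := by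
  obtain ⟨a, b, -, rfl⟩ := IsFractionRing.div_surjective (A := MonoidAlgebra L W) x
  simp only [map_div₀, fAct_algebraMap, tw_one]

end act

section fixed

variable [FiniteDimensional k L] [IsGalois k L] {W : Type u} [CommGroup W] [IsDomain (MonoidAlgebra L W)]
  (θ : (L ≃ₐ[k] L) →* MulAut W)

/-- Invariant rational functions are fractions of invariant functions. -/
theorem exists_frac_of_fixed {A : Type u} [CommRing A] [Algebra k A] (j : A →ₐ[k] Fn L W)
    (hfix : ∀ σ a, fAct θ σ (j a) = j a)
    (hinj : Function.Injective (Algebra.TensorProduct.lift (Algebra.ofId L (Fn L W)) j (fun _ _ => Commute.all _ _)))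
    (hgen : ∀ x : Fn L W, ∃ w w' : L ⊗[k] A,
      Algebra.TensorProduct.lift (Algebra.ofId L (Fn L W)) j (fun _ _ => Commute.all _ _) w' ≠ 0 ∧
      x * Algebra.TensorProduct.lift (Algebra.ofId L (Fn L W)) j (fun _ _ => Commute.all _ _) w' =
        Algebra.TensorProduct.lift (Algebra.ofId L (Fn L W)) j (fun _ _ => Commute.all _ _) w)
    (x : Fn L W) (hx : ∀ σ, fAct θ σ x = x) : ∃ a b : A, j b ≠ 0 ∧ x * j b = j a := by
  classical
  set Φ := Algebra.TensorProduct.lift (Algebra.ofId L (Fn L W)) j (fun _ _ => Commute.all _ _)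
  have heq : ∀ σ z, Φ (gact k (L ≃ₐ[k] L) A σ z) = fAct θ σ (Φ z) := fun σ z => by
    induction z using TensorProduct.induction_on with
    | zero => simp
    | tmul a b =>
      rw [gact_tmul, Algebra.TensorProduct.lift_tmul, Algebra.TensorProduct.lift_tmul, map_mul, Algebra.ofId_apply,
        Algebra.ofId_apply, fAct_scalar, hfix]
      rfl
    | add a b ha hb => simp only [map_add, ha, hb]
  obtain ⟨w, w', hw', hw⟩ := hgen x
  let P := ∏ σ : L ≃ₐ[k] L, gact k (L ≃ₐ[k] L) A σ w'
  let R := ∏ σ ∈ Finset.univ.erase (1 : L ≃ₐ[k] L), gact k (L ≃ₐ[k] L) A σ w'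
  have hg : ∀ (σ τ : L ≃ₐ[k] L) (z : L ⊗[k] A), gact k (L ≃ₐ[k] L) A (σ * τ) z =
      gact k (L ≃ₐ[k] L) A σ (gact k (L ≃ₐ[k] L) A τ z) := fun σ τ z => by
    induction z using TensorProduct.induction_on with
    | zero => simp
    | tmul a b => rw [gact_tmul, gact_tmul, gact_tmul, mul_smul]
    | add a b ha hb => simp only [map_add, ha, hb]
  have hPfix : ∀ σ, gact k (L ≃ₐ[k] L) A σ P = P := fun σ => by
    show gact k (L ≃ₐ[k] L) A σ (∏ τ, _) = ∏ τ, _
    rw [map_prod]
    exact Fintype.prod_equiv (Equiv.mulLeft σ) _ _ fun τ => (hg σ τ w').symm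
  have hg1 : gact k (L ≃ₐ[k] L) A 1 w' = w' := by
    induction w' using TensorProduct.induction_on with
    | zero => simp
    | tmul a b => rw [gact_tmul, one_smul]
    | add a b ha hb =>
      simp only [map_add]
      have hone : ∀ z : L ⊗[k] A, gact k (L ≃ₐ[k] L) A 1 z = z := fun z => by
        induction z using TensorProduct.induction_on with
        | zero => simp
        | tmul a b => rw [gact_tmul, one_smul]
        | add a b ha hb => simp only [map_add, ha, hb]
      rw [hone, hone]
  have hP : P = w' * R := by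
    show ∏ σ, _ = _
    rw [← Finset.mul_prod_erase _ _ (Finset.mem_univ (1 : L ≃ₐ[k] L)), hg1]
  have hxP : x * Φ P = Φ (w * R) := by rw [hP, map_mul, map_mul, ← hw, mul_assoc]
  have hwR : ∀ σ, gact k (L ≃ₐ[k] L) A σ (w * R) = w * R := fun σ => hinj (by
    rw [heq, ← hxP, map_mul, hx, ← heq, hPfix])
  have hinjkL : Function.Injective (algebraMap k L) := (algebraMap k L).injective
  obtain ⟨b, hb⟩ := exists_of_gact_fixed hinjkL A P hPfix
  obtain ⟨a, ha⟩ := exists_of_gact_fixed hinjkL A (w * R) hwR
  have hΦ1 : ∀ c : A, Φ ((1 : L) ⊗ₜ[k] c) = j c := fun c => by simp [Φ]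
  refine ⟨a, b, ?_, by rw [← hΦ1, ← hΦ1, hb, ha, hxP]⟩
  rw [← hΦ1, hb]
  show Φ (∏ σ, _) ≠ 0
  rw [map_prod, Finset.prod_ne_zero_iff]
  intro σ _
  rw [heq]
  exact fun h => hw' ((fAct θ σ).toRingHom.injective (h.trans (map_zero _).symm))

end fixed

section quasitrivial

variable [FiniteDimensional k L] [IsGalois k L] {S : Type u} [Fintype S] [IsDomain (MonoidAlgebra L (PermLat S))]
  (π : (L ≃ₐ[k] L) →* Equiv.Perm S)

/-- Invariant coordinates on a quasitrivial torus. -/
theorem exists_coordinates :
    ∃ y : S → Fn L (PermLat S), (∀ σ s, fAct (permθ π) σ (y s) = y s) ∧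
      AlgebraicIndependent L y ∧ IntermediateField.adjoin L (Set.range y) = ⊤ := by
  classical
  let F := Fn L (PermLat S)
  let x : S → F := fun s => (chr L (gen s) : F)
  have hxσ : ∀ σ s, fAct (permθ π) σ (x s) = x (π σ s) := fun σ s => by
    show fAct _ σ (chr L (gen s) : F) = _
    rw [fAct_chr, permθ_gen]
  have hxadj : IntermediateField.adjoin L (Set.range x) = ⊤ := by
    refine eq_top_iff.2 fun f _ => ?_
    have hch : ∀ v : PermLat S, (chr L v : F) ∈ IntermediateField.adjoin L (Set.range x) := fun v => by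
      rw [← pw_gen_id v]
      show ((chr L (∏ s, gen s ^ Multiplicative.toAdd v s) : Fˣ) : F) ∈ _
      rw [map_prod, Units.coe_prod]
      refine prod_mem fun s _ => ?_
      rw [map_zpow, Units.val_zpow_eq_zpow_val]
      exact zpow_mem (IntermediateField.subset_adjoin L (Set.range x) ⟨s, rfl⟩) _
    have hpol : ∀ p : MonoidAlgebra L (PermLat S), algebraMap _ F p ∈ IntermediateField.adjoin L (Set.range x) := fun p => by
      induction p using MonoidAlgebra.induction_linear with
      | zero => rw [map_zero]; exact zero_mem _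
      | add a b ha hb => rw [map_add]; exact add_mem ha hb
      | single v a =>
        rw [show MonoidAlgebra.single v a = a • MonoidAlgebra.single v (1 : L) by simp [MonoidAlgebra.smul_single],
          Algebra.smul_def, map_mul, ← IsScalarTower.algebraMap_apply]
        exact mul_mem (IntermediateField.algebraMap_mem _ a) (hch v)
    obtain ⟨a, b, -, rfl⟩ := IsFractionRing.div_surjective (A := MonoidAlgebra L (PermLat S)) f
    exact div_mem (hpol a) (hpol b)
  -- monomials are independent
  have hxind : AlgebraicIndependent L x := by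
    rw [algebraicIndependent_iff_injective_aeval]
    intro p p' hpp
    let e : (S →₀ ℕ) → PermLat S := fun d => Multiplicative.ofAdd fun s => (d s : ℤ)
    have he : Function.Injective e := fun d d' h => Finsupp.ext fun s => by
      exact_mod_cast congrFun (Multiplicative.ofAdd.injective h) s
    have hmon : ∀ d, MvPolynomial.aeval x (MvPolynomial.monomial d (1 : L)) = (chr L (e d) : F) := fun d => by
      rw [MvPolynomial.aeval_monomial, map_one, one_mul, ← pw_gen_id (e d)]
      show _ = ((chr L (∏ s, gen s ^ ((d s : ℤ))) : Fˣ) : F)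
      rw [map_prod, Units.coe_prod, Finsupp.prod_fintype _ _ (fun s => pow_zero _)]
      simp [x]
    refine sub_eq_zero.1 ?_
    have h0 : MvPolynomial.aeval x (p - p') = 0 := by rw [map_sub, hpp, sub_self]
    ext d
    rw [(p - p').as_sum, map_sum] at h0
    by_cases hd : d ∈ (p - p').support
    · have := linearIndependent_iff'.1 ((linearIndependent_chr (L := L)).comp e he) (p - p').support
        (fun d => MvPolynomial.coeff d (p - p')) (by
          rw [← h0]
          refine Finset.sum_congr rfl fun d' _ => ?_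
          show _ • (chr L (e d') : F) = _
          rw [← hmon, ← map_smul, MvPolynomial.smul_monomial, smul_eq_mul, mul_one]) d hd
      simpa using this
    · simpa using MvPolynomial.notMem_support_iff.1 hd
  -- invariant linear forms
  let V : Submodule L F := Submodule.span L (Set.range x)
  let Y₀ : Set F := {y | y ∈ V ∧ ∀ σ, fAct (permθ π) σ y = y}
  have hfix : ∀ (l : L) s, (∑ σ : L ≃ₐ[k] L, σ l • x (π σ s)) ∈ Y₀ := fun l s => by
    refine ⟨Submodule.sum_mem _ fun σ _ => Submodule.smul_mem _ _ (Submodule.subset_span ⟨_, rfl⟩), fun τ => ?_⟩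
    rw [map_sum]
    refine Fintype.sum_equiv (Equiv.mulLeft τ) _ _ fun σ => ?_
    rw [Algebra.smul_def, map_mul, fAct_scalar, hxσ, ← Algebra.smul_def, Equiv.coe_mulLeft, map_mul]
    rfl
  have hspan : Submodule.span L Y₀ = V := by
    refine le_antisymm (Submodule.span_le.2 fun y hy => hy.1) (Submodule.span_le.2 ?_)
    rintro _ ⟨s, rfl⟩
    let T : Submodule L ((L ≃ₐ[k] L) → L) :=
      { carrier := {a | ∑ σ, a σ • x (π σ s) ∈ Submodule.span L Y₀}
        add_mem' := fun {a b} ha hb => by simpa [add_smul, Finset.sum_add_distrib] using add_mem ha hb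
        zero_mem' := by simp
        smul_mem' := fun c a (ha : ∑ σ, a σ • x (π σ s) ∈ Submodule.span L Y₀) => by
          simpa [mul_smul, Finset.smul_sum] using Submodule.smul_mem _ c ha }
    have hT : T = ⊤ := by
      rw [eq_top_iff, ← GalDescX.span_conjugates k L, Submodule.span_le]
      rintro _ ⟨l, rfl⟩
      exact Submodule.subset_span (hfix l s)
    have h1 : Pi.single (1 : L ≃ₐ[k] L) (1 : L) ∈ T := by rw [hT]; trivial
    have h2 : ∑ σ : L ≃ₐ[k] L, (Pi.single (1 : L ≃ₐ[k] L) (1 : L) : _ → L) σ • x (π σ s) ∈ Submodule.span L Y₀ := h1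
    rw [Finset.sum_eq_single (1 : L ≃ₐ[k] L) (fun b _ hb => by simp [hb]) (by simp)] at h2
    simpa using h2
  obtain ⟨b, hbY, hbspan, hbli⟩ := exists_linearIndependent L Y₀
  have hxli : LinearIndependent L x :=
    (linearIndependent_chr (L := L)).comp gen fun s t h => by
      by_contra hne
      simpa [gen, hne] using congrFun (Multiplicative.ofAdd.injective h) s
  let bB : Module.Basis b L V :=
    (Module.Basis.span hbli).map (LinearEquiv.ofEq _ _ (by rw [Subtype.range_coe]; exact hbspan.trans hspan))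
  let eb : b ≃ S := bB.indexEquiv (Module.Basis.span hxli)
  let y : S → F := fun s => (eb.symm s : F)
  have hy : ∀ s, y s ∈ Y₀ := fun s => hbY (eb.symm s).2
  have hyli : LinearIndependent L y := hbli.comp _ eb.symm.injective
  have hyrange : Set.range y = b := by
    ext f; exact ⟨fun ⟨s, hs⟩ => hs ▸ (eb.symm s).2, fun hf => ⟨eb ⟨f, hf⟩, by simp [y]⟩⟩
  have hxy : ∀ s, x s ∈ Submodule.span L (Set.range y) := fun s => by
    rw [hyrange, hbspan, hspan]; exact Submodule.subset_span ⟨s, rfl⟩
  choose c hc using fun s => (Submodule.mem_span_range_iff_exists_fun L).1 (hxy s)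
  choose d hd using fun s => (Submodule.mem_span_range_iff_exists_fun L).1 (hy s).1
  refine ⟨y, fun σ s => (hy s).2 σ, ?_, ?_⟩
  · rw [algebraicIndependent_iff_injective_aeval] at hxind ⊢
    let P : MvPolynomial S L →ₐ[L] MvPolynomial S L := MvPolynomial.aeval fun s => ∑ t, c s t • MvPolynomial.X t
    let P' : MvPolynomial S L →ₐ[L] MvPolynomial S L := MvPolynomial.aeval fun s => ∑ t, d s t • MvPolynomial.X t
    have h1 : (MvPolynomial.aeval x).comp P' = MvPolynomial.aeval y :=
      MvPolynomial.algHom_ext fun s => by simp [P', hd]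
    have h2 : (MvPolynomial.aeval y).comp P = MvPolynomial.aeval x :=
      MvPolynomial.algHom_ext fun s => by simp [P, hc]
    have h3 : P.comp P' = AlgHom.id L _ := MvPolynomial.algHom_ext fun s => by
      have hlin : P (P' (MvPolynomial.X s)) = ∑ t, (∑ u, d s u * c u t) • MvPolynomial.X t := by
        simp only [P, P', MvPolynomial.aeval_X, map_sum, map_smul, Finset.smul_sum, smul_smul, Finset.sum_smul]
        exact Finset.sum_comm
      show P (P' (MvPolynomial.X s)) = MvPolynomial.X s
      rw [hlin]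
      have hco : ∀ t, (∑ u, d s u * c u t) = if t = s then 1 else 0 := by
        have e : ∑ t, (∑ u, d s u * c u t - if t = s then 1 else 0) • y t = 0 := by
          simp only [sub_smul, Finset.sum_sub_distrib, ite_smul, one_smul, zero_smul, Finset.sum_ite_eq', Finset.mem_univ,
            if_true, sub_eq_zero, Finset.sum_smul, mul_smul]
          rw [Finset.sum_comm]
          simp only [← Finset.smul_sum, hc, hd]
        intro t
        exact sub_eq_zero.1 (Fintype.linearIndependent_iff.1 hyli _ e t)
      simp [hco]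
    have hP' : Function.Injective P' := fun p q h => by
      have := congrArg P h
      rwa [← AlgHom.comp_apply, ← AlgHom.comp_apply, h3] at this
    rw [← h1]
    exact hxind.comp hP'
  · refine eq_top_iff.2 (hxadj ▸ IntermediateField.adjoin_le_iff.2 ?_)
    rintro _ ⟨s, rfl⟩
    rw [← hc s]
    exact sum_mem fun t _ => IntermediateField.smul_mem _ (IntermediateField.subset_adjoin L (Set.range y) ⟨t, rfl⟩)

end quasitrivial

section extension

variable {N P : Type u} [CommGroup N] [CommGroup P] {S : Type u} [Fintype S]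
  [IsDomain (MonoidAlgebra L N)] [IsDomain (MonoidAlgebra L P)] [IsDomain (MonoidAlgebra L (N × PermLat S))]
  (θN : (L ≃ₐ[k] L) →* MulAut N) (θP : (L ≃ₐ[k] L) →* MulAut P) (π : (L ≃ₐ[k] L) →* Equiv.Perm S)
  (θW : (L ≃ₐ[k] L) →* MulAut (N × PermLat S))

set_option maxHeartbeats 1000000 in
/-- An extension of a permutation lattice does not change the field of rational functions. -/
theorem exists_fieldEquiv [FiniteDimensional k L] (hθW : ∀ σ w, θW σ w = (θN σ w.1, permθ π σ w.2))
    (ι : N →* P) (hι : Function.Injective ι) (hιθ : ∀ σ n, ι (θN σ n) = θP σ (ι n))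
    (q : P →* PermLat S) (hq : Function.Surjective q) (hqθ : ∀ σ p, q (θP σ p) = permθ π σ (q p))
    (hexact : ∀ p, q p = 1 ↔ p ∈ ι.range) :
    ∃ Ψ : Fn L (N × PermLat S) →ₐ[k] Fn L P, Function.Bijective Ψ ∧
      (∀ a, Ψ (algebraMap L _ a) = algebraMap L _ a) ∧ ∀ σ x, Ψ (fAct θW σ x) = fAct θP σ (Ψ x) := by
  classical
  let G := L ≃ₐ[k] L
  -- the inclusion of function fields
  let ι₀ : MonoidAlgebra L N →ₐ[L] MonoidAlgebra L P := MonoidAlgebra.mapDomainAlgHom L L ι
  have hι₀ : Function.Injective ι₀ := MonoidAlgebra.mapDomain_injective hι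
  let ιF : (Fn L N) →ₐ[L] (Fn L P) := IsFractionRing.liftAlgHom (R := L)
    (g := (IsScalarTower.toAlgHom L (MonoidAlgebra L P) (Fn L P)).comp ι₀)
    ((IsFractionRing.injective (MonoidAlgebra L P) (Fn L P)).comp hι₀)
  have hιFa : ∀ x, ιF (algebraMap (MonoidAlgebra L N) (Fn L N) x) = algebraMap (MonoidAlgebra L P) (Fn L P) (ι₀ x) :=
    fun x => IsLocalization.lift_eq _ x
  have hιFc : ∀ n, ιF (chr L n : (Fn L N)) = (chr L (ι n) : (Fn L P)) := fun n => by
    rw [chr_val, hιFa, chr_val]
    simp [ι₀]
  have hιFσ : ∀ σ x, ιF (fAct θN σ x) = fAct θP σ (ιF x) := fun σ x => by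
    obtain ⟨a, b, -, rfl⟩ := IsFractionRing.div_surjective (A := MonoidAlgebra L N) x
    have h : ∀ c, ι₀ (tw θN σ c) = tw θP σ (ι₀ c) := fun c => by
      induction c using MonoidAlgebra.induction_linear with
      | zero => simp
      | add c d hc hd => simp only [map_add, hc, hd]
      | single n r => simp [ι₀, tw_single, hιθ]
    simp only [map_div₀, fAct_algebraMap, hιFa, h]
  -- invariant lifts of the basis vectors
  have hw0 : ∀ s, ∃ (l : P) (f : (Fn L N)), f ≠ 0 ∧ q l = gen s ∧
      ∀ σ : G, π σ s = s → fAct θP σ ((chr L l : (Fn L P)) * ιF f) = (chr L l : (Fn L P)) * ιF f := fun s => by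
    obtain ⟨l, hl⟩ := hq (gen s)
    let D := {σ : G // π σ s = s}
    have hn : ∀ d : D, ∃ n, ι n = θP d.1 l * l⁻¹ := fun d => (hexact _).1 (by
      rw [map_mul, map_inv, hqθ, hl, permθ_gen, d.2, mul_inv_cancel])
    choose n hn using hn
    have hcoc : ∀ (τ d : D) (e : D), e.1 = τ.1 * d.1 → n e = θN τ.1 (n d) * n τ := fun τ d e he => hι (by
      rw [map_mul ι, hιθ, hn, hn, hn, he, map_mul θP, MulAut.mul_apply, map_mul, map_inv]
      group)
    have hlin : LinearIndependent (Fn L N) fun d : D =>
        (((algebraMap L (Fn L N)).toMonoidHom.comp (d.1 : L →* L)) : L → (Fn L N)) :=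
      (linearIndependent_monoidHom L (Fn L N)).comp
        (fun d : D => (algebraMap L (Fn L N)).toMonoidHom.comp (d.1 : L →* L)) fun d d' h =>
        Subtype.ext (AlgEquiv.ext fun a => (algebraMap L (Fn L N)).injective (DFunLike.congr_fun h a))
    obtain ⟨a, ha⟩ : ∃ a : L, ∑ d : D, (chr L (n d) : (Fn L N)) * algebraMap L (Fn L N) (d.1 a) ≠ 0 := by
      by_contra hne
      push Not at hne
      have := Fintype.linearIndependent_iff.1 hlin (fun d => (chr L (n d) : (Fn L N))) (funext fun a => by
        simpa using hne a) ⟨1, by simp⟩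
      exact Units.ne_zero _ this
    refine ⟨l, ∑ d : D, (chr L (n d) : (Fn L N)) * algebraMap L (Fn L N) (d.1 a), ha, hl, fun σ hσ => ?_⟩
    let τ : D := ⟨σ, hσ⟩
    have hτ : ∀ d : D, π (σ * d.1) s = s := fun d => by rw [map_mul, Equiv.Perm.mul_apply, d.2, hσ]
    have hsum : (chr L (n τ) : (Fn L N)) * fAct θN σ (∑ d : D, (chr L (n d) : (Fn L N)) * algebraMap L (Fn L N) (d.1 a)) =
        ∑ d : D, (chr L (n d) : (Fn L N)) * algebraMap L (Fn L N) (d.1 a) := by
      rw [map_sum, Finset.mul_sum]
      let ρ : D ≃ D :=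
        { toFun := fun d => ⟨σ * d.1, hτ d⟩
          invFun := fun d => ⟨σ⁻¹ * d.1, by
            rw [map_mul, Equiv.Perm.mul_apply, d.2, map_inv, Equiv.Perm.inv_eq_iff_eq, hσ]⟩
          left_inv := fun d => Subtype.ext (inv_mul_cancel_left _ _)
          right_inv := fun d => Subtype.ext (mul_inv_cancel_left _ _) }
      refine Fintype.sum_equiv ρ _ _ fun d => ?_
      rw [map_mul, fAct_chr, fAct_scalar, ← mul_assoc, ← Units.val_mul, ← map_mul, mul_comm (n τ),
        ← hcoc τ d (ρ d) rfl]
      rfl
    have hθl : θP σ l = ι (n τ) * l := by rw [hn τ]; simp [τ]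
    rw [map_mul, fAct_chr, ← hιFσ, hθl, map_mul, Units.val_mul, ← hιFc, mul_comm (ιF _) (chr L l : (Fn L P)), mul_assoc,
      ← map_mul, hsum]
  choose l₀ f₀ hf₀ hl₀ hfix₀ using hw0
  let _ : MulAction G S := MulAction.compHom S π
  let rep : S → S := fun s => (Quotient.mk (MulAction.orbitRel G S) s).out
  have hrep : ∀ (g : G) s, rep (π g s) = rep s := fun g s =>
    congrArg Quotient.out (Quotient.sound (show (MulAction.orbitRel G S).r (π g s) s from ⟨g, rfl⟩))
  have hmv : ∀ s, ∃ g : G, π g (rep s) = s := fun s => by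
    have h : (MulAction.orbitRel G S).r (rep s) s := Quotient.exact (Quotient.out_eq _)
    obtain ⟨g, hg⟩ := h
    refine ⟨g⁻¹, ?_⟩
    rw [← hg]
    show (π g⁻¹) (π g s) = s
    simp
  choose mv hmv using hmv
  let w₀ : S → (Fn L P) := fun s => (chr L (l₀ s) : (Fn L P)) * ιF (f₀ s)
  let l : S → P := fun s => θP (mv s) (l₀ (rep s))
  let f : S → (Fn L N) := fun s => fAct θN (mv s) (f₀ (rep s))
  have hf : ∀ s, f s ≠ 0 := fun s h => hf₀ (rep s) ((fAct θN (mv s)).toRingHom.injective (h.trans (map_zero _).symm))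
  have hl : ∀ s, q (l s) = gen s := fun s => by rw [hqθ, hl₀, permθ_gen, hmv]
  let w : S → (Fn L P) := fun s => fAct θP (mv s) (w₀ (rep s))
  have hw : ∀ s, w s = (chr L (l s) : (Fn L P)) * ιF (f s) := fun s => by
    show fAct θP (mv s) (_ * _) = _
    rw [map_mul, fAct_chr, hιFσ]
  have hwσ : ∀ σ s, fAct θP σ (w s) = w (π σ s) := fun σ s => by
    have hd : π ((mv (π σ s))⁻¹ * (σ * mv s)) (rep s) = rep s := by
      rw [map_mul, map_mul, Equiv.Perm.mul_apply, Equiv.Perm.mul_apply, hmv, map_inv, Equiv.Perm.inv_eq_iff_eq]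
      conv_rhs => rw [← hrep σ s, hmv]
    show fAct θP σ (fAct θP (mv s) (w₀ (rep s))) = fAct θP (mv (π σ s)) (w₀ (rep (π σ s)))
    rw [hrep, ← fAct_mul, show σ * mv s = mv (π σ s) * ((mv (π σ s))⁻¹ * (σ * mv s)) by rw [mul_inv_cancel_left],
      fAct_mul, hfix₀ (rep s) _ hd]
  have hw0' : ∀ s, w s ≠ 0 := fun s => by
    rw [hw]; exact mul_ne_zero (Units.ne_zero _) (fun h => hf s (ιF.toRingHom.injective (h.trans (map_zero _).symm)))
  let wu : S → (Fn L P)ˣ := fun s => Units.mk0 (w s) (hw0' s)
  let fu : S → (Fn L N)ˣ := fun s => Units.mk0 (f s) (hf s)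
  have hwu : ∀ v, ((pw wu v : (Fn L P)ˣ) : (Fn L P)) = ιF ((pw fu v : (Fn L N)ˣ) : (Fn L N)) * (chr L (pw l v) : (Fn L P)) := fun v => by
    have : wu = fun s => Units.map ιF.toMonoidHom (fu s) * chr L (l s) := funext fun s => Units.ext (by
      show w s = ιF (f s) * (chr L (l s) : (Fn L P))
      rw [hw, mul_comm])
    rw [this]
    show ((∏ s, (Units.map ιF.toMonoidHom (fu s) * chr L (l s)) ^ Multiplicative.toAdd v s : (Fn L P)ˣ) : (Fn L P)) = _
    simp only [mul_zpow, Finset.prod_mul_distrib, ← map_zpow, ← map_prod, Units.val_mul]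
    rfl
  have hql : ∀ v, q (pw l v) = v := fun v => by
    show q (∏ s, l s ^ Multiplicative.toAdd v s) = v
    simp only [map_prod, map_zpow, hl]
    exact pw_gen_id v
  let χ : N × PermLat S →* (Fn L P)ˣ := MonoidHom.coprod ((chr L).comp ι) (pw wu)
  let Ψ₀ : MonoidAlgebra L (N × PermLat S) →ₐ[L] (Fn L P) :=
    MonoidAlgebra.lift L (Fn L P) (N × PermLat S) ((Units.coeHom (Fn L P)).comp χ)
  have hΨ₀s : ∀ nv a, Ψ₀ (MonoidAlgebra.single nv a) = a • ((χ nv : (Fn L P)ˣ) : (Fn L P)) := fun nv a =>
    MonoidAlgebra.lift_single _ _ _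
  let _ : Algebra (Fn L N) (Fn L P) := ιF.toRingHom.toAlgebra
  have : IsScalarTower L (Fn L N) (Fn L P) := .of_algebraMap_eq fun a => (ιF.commutes a).symm
  let _ : Algebra (MonoidAlgebra L N) (Fn L P) := ((algebraMap (Fn L N) (Fn L P)).comp (algebraMap (MonoidAlgebra L N) (Fn L N))).toAlgebra
  have : IsScalarTower (MonoidAlgebra L N) (Fn L N) (Fn L P) := .of_algebraMap_eq fun _ => rfl
  have hind : LinearIndependent (Fn L N) fun v => (chr L (pw l v) : (Fn L P)) := by
    rw [← LinearIndependent.iff_fractionRing (MonoidAlgebra L N) (Fn L N)]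
    rw [linearIndependent_iff']
    intro t g hg v hv
    have h0 : ∑ v ∈ t, ι₀ (g v) * MonoidAlgebra.single (pw l v) 1 = 0 := by
      apply IsFractionRing.injective (MonoidAlgebra L P) (Fn L P)
      rw [map_zero, map_sum, ← hg]
      refine Finset.sum_congr rfl fun v _ => ?_
      rw [map_mul, ← hιFa, Algebra.smul_def]
      rfl
    ext n
    have hmd : ∀ (c : MonoidAlgebra L N) (p : P),
        ι₀ c * MonoidAlgebra.single p 1 = MonoidAlgebra.mapDomain (fun n => ι n * p) c := fun c p => by
      induction c using MonoidAlgebra.induction_linear with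
      | zero => simp
      | add a b ha hb => simp only [map_add, add_mul, MonoidAlgebra.mapDomain_add, ha, hb]
      | single m r => simp [ι₀]
    have h1 := congrArg (fun z => z.coeff (ι n * pw l v)) h0
    simp only [hmd, MonoidAlgebra.coeff_sum, Finsupp.finsetSum_apply, MonoidAlgebra.coeff_zero, Finsupp.zero_apply,
      MonoidAlgebra.coeff_mapDomain] at h1
    rw [Finset.sum_eq_single v] at h1
    · rw [Finsupp.mapDomain_apply (f := fun n => ι n * pw l v) (fun a b h => hι (mul_right_cancel h))] at h1
      simpa using h1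
    · intro v' _ hne
      refine Finsupp.mapDomain_of_notMem_range _ _ fun ⟨n', hn'⟩ => hne ?_
      have := congrArg q hn'
      rw [map_mul, map_mul, (hexact _).2 ⟨n', rfl⟩, (hexact _).2 ⟨n, rfl⟩, one_mul, one_mul, hql, hql] at this
      exact this
    · exact fun h => absurd hv h
  have hind' : LinearIndependent (Fn L N) fun v => ((pw wu v : (Fn L P)ˣ) : (Fn L P)) := by
    have := hind.units_smul fun v => pw fu v
    convert this using 1
    funext v
    rw [hwu]
    exact (Algebra.smul_def ((pw fu v : (Fn L N)ˣ) : (Fn L N)) _).symm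
  have hindL : LinearIndependent L fun nv : N × PermLat S => ((χ nv : (Fn L P)ˣ) : (Fn L P)) := by
    have := linearIndependent_smul (linearIndependent_chr (L := L) (W := N)) hind'
    convert this using 1
    funext nv
    show ((χ nv : (Fn L P)ˣ) : (Fn L P)) = (chr L nv.1 : (Fn L N)) • ((pw wu nv.2 : (Fn L P)ˣ) : (Fn L P))
    rw [Algebra.smul_def]
    show _ = ιF (chr L nv.1 : (Fn L N)) * _
    rw [hιFc]
    rfl
  have hΨ₀ : Function.Injective Ψ₀ := (injective_iff_map_eq_zero _).2 fun x hx => by
    have e : ∀ x, Ψ₀ x = Finsupp.linearCombination L (fun nv => ((χ nv : (Fn L P)ˣ) : (Fn L P))) x.coeff := fun x => by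
      induction x using MonoidAlgebra.induction_linear with
      | zero => simp
      | add a b ha hb => simp only [map_add, MonoidAlgebra.coeff_add, ha, hb]
      | single m a => simp [hΨ₀s]
    rw [e] at hx
    exact MonoidAlgebra.coeff_injective ((linearIndependent_iff.1 hindL _ hx).trans MonoidAlgebra.coeff_zero.symm)
  let Ψ : Fn L (N × PermLat S) →ₐ[L] (Fn L P) := IsFractionRing.liftAlgHom (R := L) (g := Ψ₀) hΨ₀
  have hΨa : ∀ x, Ψ (algebraMap (MonoidAlgebra L (N × PermLat S)) _ x) = Ψ₀ x :=
    fun x => IsLocalization.lift_eq _ x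
  have hΨc : ∀ nv, Ψ (chr L nv : Fn L (N × PermLat S)) = (χ nv : (Fn L P)ˣ) := fun nv => by
    rw [chr_val, hΨa, hΨ₀s, one_smul]
  refine ⟨Ψ.restrictScalars k, ⟨Ψ.toRingHom.injective, ?_⟩, fun a => Ψ.commutes a, fun σ x => ?_⟩
  · have hcN : ∀ n, (chr L (ι n) : (Fn L P)) ∈ Ψ.fieldRange := fun n => ⟨(chr L ((n, 1) : N × PermLat S) : Fn L _), by
      show Ψ _ = _
      rw [hΨc]; simp [χ]⟩
    have hFN : ∀ z, ιF z ∈ Ψ.fieldRange := fun z => by
      obtain ⟨a, b, -, rfl⟩ := IsFractionRing.div_surjective (A := MonoidAlgebra L N) z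
      have h : ∀ c, ιF (algebraMap (MonoidAlgebra L N) (Fn L N) c) ∈ Ψ.fieldRange := fun c => by
        induction c using MonoidAlgebra.induction_linear with
        | zero => simp
        | add c d hc hd => simp only [map_add]; exact add_mem hc hd
        | single n r =>
          rw [show MonoidAlgebra.single n r = r • MonoidAlgebra.single n (1 : L) by simp [MonoidAlgebra.smul_single],
            Algebra.smul_def, map_mul, map_mul, ← IsScalarTower.algebraMap_apply, AlgHom.commutes, ← chr_val, hιFc]
          exact mul_mem (IntermediateField.algebraMap_mem _ r) (hcN n)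
      rw [map_div₀]
      exact div_mem (h a) (h b)
    have hcl : ∀ v, (chr L (pw l v) : (Fn L P)) ∈ Ψ.fieldRange := fun v => by
      have hw' : ((pw wu v : (Fn L P)ˣ) : (Fn L P)) ∈ Ψ.fieldRange := ⟨(chr L ((1, v) : N × PermLat S) : Fn L _), by
        show Ψ _ = _
        rw [hΨc]; simp [χ]⟩
      have e : (chr L (pw l v) : (Fn L P)) = ((pw wu v : (Fn L P)ˣ) : (Fn L P)) / ιF ((pw fu v : (Fn L N)ˣ) : (Fn L N)) := by
        rw [hwu, mul_div_cancel_left₀]
        exact fun h => Units.ne_zero _ (ιF.toRingHom.injective (h.trans (map_zero _).symm))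
      rw [e]
      exact div_mem hw' (hFN _)
    have hcP : ∀ p : P, ((chr L p : (Fn L P)ˣ) : (Fn L P)) ∈ Ψ.fieldRange := fun p => by
      obtain ⟨n, hn⟩ := (hexact (p * (pw l (q p))⁻¹)).1 (by rw [map_mul, map_inv, hql, mul_inv_cancel])
      have hp := inv_mul_cancel_right p (pw l (q p))
      rw [← hn] at hp
      rw [← hp, map_mul, Units.val_mul]
      exact mul_mem (hcN n) (hcl _)
    intro z
    obtain ⟨a, b, -, rfl⟩ := IsFractionRing.div_surjective (A := MonoidAlgebra L P) z
    have h : ∀ c, algebraMap (MonoidAlgebra L P) (Fn L P) c ∈ Ψ.fieldRange := fun c => by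
      induction c using MonoidAlgebra.induction_linear with
      | zero => simp
      | add c d hc hd => simp only [map_add]; exact add_mem hc hd
      | single n r =>
        rw [show MonoidAlgebra.single n r = r • MonoidAlgebra.single n (1 : L) by simp [MonoidAlgebra.smul_single],
          Algebra.smul_def, map_mul, ← IsScalarTower.algebraMap_apply]
        exact mul_mem (IntermediateField.algebraMap_mem _ r) (hcP n)
    obtain ⟨z', hz'⟩ := div_mem (h a) (h b)
    exact ⟨z', hz'⟩
  · obtain ⟨a, b, -, rfl⟩ := IsFractionRing.div_surjective (A := MonoidAlgebra L (N × PermLat S)) x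
    have hwv : ∀ v, fAct θP σ ((pw wu v : (Fn L P)ˣ) : (Fn L P)) = ((pw wu (permθ π σ v) : (Fn L P)ˣ) : (Fn L P)) := fun v => by
      have : (Units.map (fAct θP σ).toMonoidHom).comp (pw wu) = (pw wu).comp (permθ π σ).toMonoidHom := by
        refine MonoidHom.ext fun v => ?_
        simp only [MonoidHom.comp_apply, MulEquiv.coe_toMonoidHom]
        have hv : v = ∏ s, gen s ^ Multiplicative.toAdd v s := (pw_gen_id v).symm
        rw [hv]
        simp only [map_prod, map_zpow, pw_gen, permθ_gen]
        exact Finset.prod_congr rfl fun s _ => congrArg (· ^ _) (Units.ext (hwσ σ s))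
      exact congrArg Units.val (DFunLike.congr_fun this v)
    have h : ∀ c, Ψ₀ (tw θW σ c) = fAct θP σ (Ψ₀ c) := fun c => by
      induction c using MonoidAlgebra.induction_linear with
      | zero => simp
      | add c d hc hd => simp only [map_add, hc, hd]
      | single nv r =>
        rw [tw_single, hΨ₀s, hΨ₀s, Algebra.smul_def, Algebra.smul_def, map_mul, fAct_scalar]
        congr 1
        show ((χ (θW σ nv) : (Fn L P)ˣ) : (Fn L P)) = fAct θP σ ((χ nv : (Fn L P)ˣ) : (Fn L P))
        rw [hθW]
        simp only [χ, MonoidHom.coprod_apply, MonoidHom.comp_apply, Units.val_mul, map_mul, fAct_chr, hιθ, hwv]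
    show Ψ (fAct θW σ _) = fAct θP σ (Ψ _)
    simp only [map_div₀, fAct_algebraMap, hΨa, h]

end extension

end Groth.Agent.GalTori
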