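import Groth.Agent.GalTori.Coords
import Groth.Agent.GalTori.LiftAlg

/-! Retract rational tori: points lift from the residue field of a local algebra. -/

universe u

open CategoryTheory CategoryTheory.Limits AlgebraicGeometry TensorProduct

namespace Groth.Agent.GalTori

variable {k : Type u} [Field k]

theorem exists_algHom {B C : Type u} [CommRing B] [CommRing C] [Algebra k B] [Algebra k C]
    (g : Spec (CommRingCat.of C) ⟶ Spec (CommRingCat.of B))
    (h : g ≫ Spec.map (CommRingCat.ofHom (algebraMap k B)) = Spec.map (CommRingCat.ofHom (algebraMap k C))) :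
    ∃ φ : B →ₐ[k] C, Spec.map (CommRingCat.ofHom φ.toRingHom) = g := by
  have hw : CommRingCat.ofHom (algebraMap k B) ≫ Spec.preimage g = CommRingCat.ofHom (algebraMap k C) := by
    apply Spec.map_injective
    rw [Spec.map_comp, Spec.map_preimage]
    exact h
  exact ⟨{ (Spec.preimage g).hom with
    commutes' := fun r => congrArg (fun g : CommRingCat.of k ⟶ CommRingCat.of C => g.hom r) hw }, Spec.map_preimage g⟩

theorem exists_data {A : Type u} [CommRing A] [Algebra k A] {T : Over (Spec (CommRingCat.of k))}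
    (e : Spec (CommRingCat.of A) ≅ T.left)
    (he : e.hom ≫ T.hom = Spec.map (CommRingCat.ofHom (algebraMap k A)))
    (U : T.left.Opens) {n : ℕ} (Y : (Spec (CommRingCat.of (MvPolynomial (Fin n) k))).Opens)
    (a : (U : Scheme.{u}) ⟶ (Y : Scheme.{u})) (b : (Y : Scheme.{u}) ⟶ (U : Scheme.{u}))
    (hU : (U : Set T.left).Nonempty) (hab : a ≫ b = 𝟙 (U : Scheme.{u}))
    (ha : a ≫ Y.ι ≫ Spec.map (CommRingCat.ofHom (algebraMap k (MvPolynomial (Fin n) k))) = U.ι ≫ T.hom)
    (hb : b ≫ U.ι ≫ T.hom = Y.ι ≫ Spec.map (CommRingCat.ofHom (algebraMap k (MvPolynomial (Fin n) k)))) :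
    ∃ (f : A) (q : MvPolynomial (Fin n) k) (α : Localization.Away q →ₐ[k] Localization.Away f)
      (β : A →ₐ[k] Localization.Away q),
      f ≠ 0 ∧ α.comp β = IsScalarTower.toAlgHom k A (Localization.Away f) := by
  obtain ⟨t, ht⟩ := hU
  have he' : e.inv ≫ Spec.map (CommRingCat.ofHom (algebraMap k A)) = T.hom := by
    rw [← he, Iso.inv_hom_id_assoc]
  let P := MvPolynomial (Fin n) k
  let y : Spec (CommRingCat.of P) := Y.ι (a ⟨t, ht⟩)
  obtain ⟨_, ⟨q, rfl⟩, hyq, hqY⟩ := PrimeSpectrum.isTopologicalBasis_basic_opens.exists_subset_of_mem_open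
    (show y ∈ (Y : Set _) from (a ⟨t, ht⟩).2) Y.2
  let lq : Spec (CommRingCat.of (Localization.Away q)) ⟶ Spec (CommRingCat.of P) :=
    Spec.map (CommRingCat.ofHom (algebraMap P (Localization.Away q)))
  have : IsOpenImmersion lq := IsOpenImmersion.of_isLocalization q
  have hlq : Set.range lq.base = (PrimeSpectrum.basicOpen q : Set (PrimeSpectrum P)) :=
    PrimeSpectrum.localization_away_comap_range _ q
  let lY : Spec (CommRingCat.of (Localization.Away q)) ⟶ (Y : Scheme.{u}) :=
    IsOpenImmersion.lift Y.ι lq (by rw [Scheme.Opens.range_ι, hlq]; exact hqY)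
  have hlY : lY ≫ Y.ι = lq := IsOpenImmersion.lift_fac _ _ _
  let O : Set (PrimeSpectrum A) := e.hom.base ⁻¹' (U.ι.base '' (a.base ⁻¹' (Y.ι.base ⁻¹' (PrimeSpectrum.basicOpen q : Set (PrimeSpectrum P)))))
  have hO : IsOpen O :=
    (U.ι.isOpenEmbedding.isOpenMap _ (((PrimeSpectrum.basicOpen q).isOpen.preimage Y.ι.continuous).preimage a.continuous)).preimage
      e.hom.continuous
  have htO : e.inv t ∈ O := by
    refine ⟨⟨t, ht⟩, hyq, ?_⟩
    show t = e.hom (e.inv t)
    rw [← Scheme.Hom.comp_apply, e.inv_hom_id]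
    rfl
  obtain ⟨_, ⟨f, rfl⟩, htf, hfO⟩ := PrimeSpectrum.isTopologicalBasis_basic_opens.exists_subset_of_mem_open htO hO
  let lf : Spec (CommRingCat.of (Localization.Away f)) ⟶ Spec (CommRingCat.of A) :=
    Spec.map (CommRingCat.ofHom (algebraMap A (Localization.Away f)))
  have hlf : Set.range lf.base = (PrimeSpectrum.basicOpen f : Set (PrimeSpectrum A)) :=
    PrimeSpectrum.localization_away_comap_range _ f
  let lU : Spec (CommRingCat.of (Localization.Away f)) ⟶ (U : Scheme.{u}) :=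
    IsOpenImmersion.lift U.ι (lf ≫ e.hom) (by
      rintro _ ⟨p, rfl⟩
      obtain ⟨w, -, hw⟩ := hfO (hlf ▸ Set.mem_range_self p : lf p ∈ (PrimeSpectrum.basicOpen f : Set (PrimeSpectrum A)))
      exact ⟨w, hw⟩)
  have hlU : lU ≫ U.ι = lf ≫ e.hom := IsOpenImmersion.lift_fac _ _ _
  let αs : Spec (CommRingCat.of (Localization.Away f)) ⟶ Spec (CommRingCat.of (Localization.Away q)) :=
    IsOpenImmersion.lift lq (lU ≫ a ≫ Y.ι) (by
      rintro _ ⟨p, rfl⟩
      rw [hlq]
      obtain ⟨w, hw, hw'⟩ := hfO (hlf ▸ Set.mem_range_self p : lf p ∈ (PrimeSpectrum.basicOpen f : Set (PrimeSpectrum A)))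
      have : lU p = w := U.ι.isOpenEmbedding.injective (by
        rw [← Scheme.Hom.comp_apply, hlU]
        exact hw'.symm)
      show Y.ι (a (lU p)) ∈ _
      rw [this]
      exact hw)
  have hαs : αs ≫ lY = lU ≫ a := by
    rw [← cancel_mono Y.ι, Category.assoc, hlY, Category.assoc]
    exact IsOpenImmersion.lift_fac _ _ _
  obtain ⟨β, hβ⟩ := exists_algHom (k := k) (B := A) (C := Localization.Away q) (lY ≫ b ≫ U.ι ≫ e.inv) (by
    simp only [Category.assoc]
    rw [he', hb, reassoc_of% hlY, ← Spec.map_comp, ← CommRingCat.ofHom_comp, ← IsScalarTower.algebraMap_eq])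
  obtain ⟨α, hα⟩ := exists_algHom (k := k) (B := Localization.Away q) (C := Localization.Away f) αs (by
    rw [show Spec.map (CommRingCat.ofHom (algebraMap k (Localization.Away q))) =
        lY ≫ Y.ι ≫ Spec.map (CommRingCat.ofHom (algebraMap k P)) by
      rw [reassoc_of% hlY, ← Spec.map_comp, ← CommRingCat.ofHom_comp, ← IsScalarTower.algebraMap_eq]]
    rw [reassoc_of% hαs, ha, reassoc_of% hlU, he, ← Spec.map_comp, ← CommRingCat.ofHom_comp, ← IsScalarTower.algebraMap_eq])
  refine ⟨f, q, α, β, fun h => ?_, ?_⟩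
  · exact htf (h ▸ zero_mem _)
  · apply AlgHom.coe_ringHom_injective
    have h : Spec.map (CommRingCat.ofHom (α.toRingHom.comp β.toRingHom)) = lf := by
      rw [CommRingCat.ofHom_comp, Spec.map_comp, hα, hβ, reassoc_of% hαs, reassoc_of% hab, reassoc_of% hlU,
        e.hom_inv_id, Category.comp_id]
    exact congrArg CommRingCat.Hom.hom (Spec.map_injective h)

theorem section_lifts (T : Over (Spec (CommRingCat.of k))) [GrpObj T] (hT : Red.IsTorus T)
    (U : T.left.Opens) {n : ℕ} (Y : (Spec (CommRingCat.of (MvPolynomial (Fin n) k))).Opens)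
    (a : (U : Scheme.{u}) ⟶ (Y : Scheme.{u})) (b : (Y : Scheme.{u}) ⟶ (U : Scheme.{u}))
    (hU : (U : Set T.left).Nonempty) (hab : a ≫ b = 𝟙 (U : Scheme.{u}))
    (ha : a ≫ Y.ι ≫ Spec.map (CommRingCat.ofHom (algebraMap k (MvPolynomial (Fin n) k))) = U.ι ≫ T.hom)
    (hb : b ≫ U.ι ≫ T.hom = Y.ι ≫ Spec.map (CommRingCat.ofHom (algebraMap k (MvPolynomial (Fin n) k))))
    (D : Type u) [CommRing D] [IsLocalRing D] [Algebra k D]
    (u : Spec (CommRingCat.of (IsLocalRing.ResidueField D)) ⟶ T.left)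
    (hu : u ≫ T.hom = Spec.map (CommRingCat.ofHom ((IsLocalRing.residue D).comp (algebraMap k D)))) :
    ∃ s : Spec (CommRingCat.of D) ⟶ T.left, s ≫ T.hom = Spec.map (CommRingCat.ofHom (algebraMap k D)) ∧
      Spec.map (CommRingCat.ofHom (IsLocalRing.residue D)) ≫ s = u := by
  obtain ⟨A, _, _, _, ⟨t⟩, hdom⟩ := exists_coords T hT
  let j := (Grp.forget _).mapIso t
  let e : Spec (CommRingCat.of A) ≅ T.left := (Over.forget _).mapIso j
  have he : e.hom ≫ T.hom = Spec.map (CommRingCat.ofHom (algebraMap k A)) := Over.w j.hom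
  obtain ⟨f, q, α, β, hf, hαβ⟩ := exists_data e he U Y a b hU hab ha hb
  obtain ⟨x, hx⟩ := exists_algHom (k := k) (u ≫ e.inv) (by
    rw [Category.assoc, show e.inv ≫ Spec.map (CommRingCat.ofHom (algebraMap k A)) = T.hom by
      rw [← he, Iso.inv_hom_id_assoc], hu]
    rfl)
  obtain ⟨X, hX⟩ := exists_lift α β hαβ hdom hf x
  refine ⟨Spec.map (CommRingCat.ofHom X.toRingHom) ≫ e.hom, ?_, ?_⟩
  · rw [Category.assoc, he, ← Spec.map_comp, ← CommRingCat.ofHom_comp]
    exact congrArg (fun g => Spec.map (CommRingCat.ofHom g)) X.comp_algebraMap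
  · rw [← Category.assoc, ← Spec.map_comp, ← CommRingCat.ofHom_comp,
      show (IsLocalRing.residue D).comp X.toRingHom = x.toRingHom from congrArg AlgHom.toRingHom hX, hx,
      Category.assoc, e.inv_hom_id, Category.comp_id]

end Groth.Agent.GalTori
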