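import Groth.Agent.GalTori.Exponents
import Groth.Agent.GalTori.Birat
import Groth.Agent.GalTori.GalModel
import Groth.Agent.TorusPts.Char
import Mathlib.LinearAlgebra.TensorProduct.Tower
import Mathlib.RingTheory.TensorProduct.Free

/-! A complement making a retract rational torus rational. -/

universe u

open TensorProduct CategoryTheory AlgebraicGeometry

namespace Groth.Agent.GalTori

variable {k : Type u} [Field k]

/-- The product of two coordinate maps is a coordinate map of the product lattice. -/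
theorem prodCoords_bijective {L : Type u} [Field L] [Algebra k L] {H₁ H₂ : Type u} [CommRing H₁] [Algebra k H₁]
    [CommRing H₂] [Algebra k H₂] {W₁ W₂ : Type u} [CommGroup W₁] [CommGroup W₂]
    (φ₁ : H₁ →ₐ[k] MonoidAlgebra L W₁) (φ₂ : H₂ →ₐ[k] MonoidAlgebra L W₂)
    (h₁ : Function.Bijective (Algebra.TensorProduct.lift (Algebra.ofId L _) φ₁ (fun _ _ => Commute.all _ _)))
    (h₂ : Function.Bijective (Algebra.TensorProduct.lift (Algebra.ofId L _) φ₂ (fun _ _ => Commute.all _ _))) :
    Function.Bijective (Algebra.TensorProduct.lift (Algebra.ofId L (MonoidAlgebra L (W₁ × W₂)))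
      (Algebra.TensorProduct.lift
        (((MonoidAlgebra.mapDomainAlgHom L L (MonoidHom.inl W₁ W₂)).restrictScalars k).comp φ₁)
        (((MonoidAlgebra.mapDomainAlgHom L L (MonoidHom.inr W₁ W₂)).restrictScalars k).comp φ₂)
        (fun _ _ => Commute.all _ _)) (fun _ _ => Commute.all _ _)) := by
  classical
  set i₁ := MonoidAlgebra.mapDomainAlgHom L L (MonoidHom.inl W₁ W₂)
  set i₂ := MonoidAlgebra.mapDomainAlgHom L L (MonoidHom.inr W₁ W₂)
  let E₁ := LinearEquiv.ofBijective (Algebra.TensorProduct.lift (Algebra.ofId L (MonoidAlgebra L W₁)) φ₁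
    (fun _ _ => Commute.all _ _)).toLinearMap h₁
  let E₂ := LinearEquiv.ofBijective (Algebra.TensorProduct.lift (Algebra.ofId L (MonoidAlgebra L W₂)) φ₂
    (fun _ _ => Commute.all _ _)).toLinearMap h₂
  let m : MonoidAlgebra L W₁ ⊗[L] MonoidAlgebra L W₂ →ₗ[L] MonoidAlgebra L (W₁ × W₂) :=
    (Algebra.TensorProduct.lift i₁ i₂ (fun _ _ => Commute.all _ _)).toLinearMap
  have hm : Function.Bijective m := by
    let b₁ : Module.Basis W₁ L (MonoidAlgebra L W₁) := Finsupp.basisSingleOne.map (MonoidAlgebra.coeffLinearEquiv L).symm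
    let b₂ : Module.Basis W₂ L (MonoidAlgebra L W₂) := Finsupp.basisSingleOne.map (MonoidAlgebra.coeffLinearEquiv L).symm
    let b : Module.Basis (W₁ × W₂) L (MonoidAlgebra L (W₁ × W₂)) :=
      Finsupp.basisSingleOne.map (MonoidAlgebra.coeffLinearEquiv L).symm
    have e : m = ((b₁.tensorProduct b₂).equiv b (Equiv.refl _)).toLinearMap := by
      refine (b₁.tensorProduct b₂).ext fun ⟨a, c⟩ => ?_
      rw [LinearEquiv.coe_coe, Module.Basis.equiv_apply, Module.Basis.tensorProduct_apply]
      simp [m, i₁, i₂, b, b₁, b₂, MonoidAlgebra.single_mul_single]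
    rw [e]
    exact LinearEquiv.bijective _
  let d := (AlgebraTensorModule.distribBaseChange k L H₁ H₂).trans (TensorProduct.congr E₁ E₂)
  have key : ∀ w, Algebra.TensorProduct.lift (Algebra.ofId L (MonoidAlgebra L (W₁ × W₂)))
      (Algebra.TensorProduct.lift ((i₁.restrictScalars k).comp φ₁) ((i₂.restrictScalars k).comp φ₂)
        (fun _ _ => Commute.all _ _)) (fun _ _ => Commute.all _ _) w = m (d w) := fun w => by
    induction w using TensorProduct.induction_on with
    | zero => simp
    | add a b ha hb => simp only [map_add, ha, hb]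
    | tmul l h =>
      induction h using TensorProduct.induction_on with
      | zero => simp
      | add a b ha hb => rw [TensorProduct.tmul_add]; simp only [map_add] at *; rw [ha, hb]
      | tmul a b =>
        show algebraMap L (MonoidAlgebra L (W₁ × W₂)) l * (i₁ (φ₁ a) * i₂ (φ₂ b)) =
          i₁ (algebraMap L (MonoidAlgebra L W₁) l * φ₁ a) * i₂ (algebraMap L (MonoidAlgebra L W₂) 1 * φ₂ b)
        rw [map_mul i₁, map_mul i₂, AlgHom.commutes, AlgHom.commutes, map_one, one_mul, mul_assoc]
  exact (funext key) ▸ hm.comp d.bijective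

set_option maxHeartbeats 4000000 in
/-- A retract rational torus has a complement with a rational product. -/
theorem exists_complement (H : Type u) [CommRing H] [IsDomain H] [HopfAlgebra k H] [Algebra.FiniteType k H]
    (L : Type u) [Field L] [Algebra k L] [FiniteDimensional k L] [IsGalois k L] {r : ℕ}
    (e : L ⊗[k] H ≃ₐc[L] MonoidAlgebra L (TorusPts.Lat.{u} r))
    {n : ℕ} {Q : MvPolynomial (Fin n) k} {c : H} (α : Localization.Away Q →ₐ[k] Localization.Away c)
    (β : Localization.Away c →ₐ[k] Localization.Away Q) (hc : c ≠ 0) (hαβ : α.comp β = AlgHom.id k _) :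
    ∃ (H₁ : Type u) (_ : CommRing H₁) (_ : HopfAlgebra k H₁) (_ : IsDomain (H ⊗[k] H₁)) (r₁ : ℕ) (S : Type u)
      (f : H ⊗[k] H₁) (g : MvPolynomial S k),
      TwC.Locally (Spec (CommRingCat.of k)) .finiteEtale
        (fun S' g => Red.IsSplitTorusWith (Fin r₁ → ℤ) (Red.bc g (GrpSchLib.AffineHopf.sp k H₁))) ∧
      f ≠ 0 ∧ g ≠ 0 ∧ Nonempty (Localization.Away f ≃ₐ[k] Localization.Away g) := by
  classical
  let G := L ≃ₐ[k] L
  let M := TorusPts.Lat.{u} r
  let θ : G →* MulAut M := TorusPts.theta e
  let ea : L ⊗[k] H ≃ₐ[L] MonoidAlgebra L M := e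
  let φ : H →ₐ[k] MonoidAlgebra L M :=
    (ea.toAlgHom.restrictScalars k).comp (Algebra.TensorProduct.includeRight : H →ₐ[k] L ⊗[k] H)
  have hliftφ : Algebra.TensorProduct.lift (Algebra.ofId L (MonoidAlgebra L M)) φ (fun _ _ => Commute.all _ _) =
      ea.toAlgHom := Algebra.TensorProduct.ext' fun l h => by
    show algebraMap L _ l * ea ((1 : L) ⊗ₜ[k] h) = ea (l ⊗ₜ[k] h)
    rw [← Algebra.smul_def, ← map_smul, TensorProduct.smul_tmul', smul_eq_mul, mul_one]
  have hφfix : ∀ σ h, tw θ σ (φ h) = φ h := fun σ h => by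
    have := TorusPts.e_mA e σ ((1 : L) ⊗ₜ[k] h)
    rw [show MultTypeLib.mA H (σ : L →ₐ[k] L) ((1 : L) ⊗ₜ[k] h) = (1 : L) ⊗ₜ[k] h by
      show (σ (1 : L)) ⊗ₜ[k] h = _; rw [map_one]] at this
    exact this.symm
  have hφinj : Function.Injective φ :=
    ea.injective.comp (Algebra.TensorProduct.includeRight_injective (algebraMap k L).injective)
  have : IsDomain (MonoidAlgebra L M) := isDomain_of_lat L (MulEquiv.refl M)
  have : UniqueFactorizationMonoid (MonoidAlgebra L M) := uniqueFactorizationMonoid_lat L r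
  -- the two localizations
  let RP := MvPolynomial (Fin n) L
  let RH := MonoidAlgebra L M
  let mapP : MvPolynomial (Fin n) k →ₐ[k] RP :=
    MvPolynomial.mapAlgHom (Algebra.ofId k L)
  have hQ0 : Q ≠ 0 := fun h => by
    have : IsDomain (Localization.Away c) :=
      IsLocalization.isDomain_localization (powers_le_nonZeroDivisors_of_noZeroDivisors hc)
    have hu : IsUnit (algebraMap (MvPolynomial (Fin n) k) (Localization.Away Q) Q) :=
      IsLocalization.map_units _ ⟨Q, Submonoid.mem_powers Q⟩
    exact (hu.map α).ne_zero (((congrArg α ((congrArg (algebraMap _ (Localization.Away Q)) h).trans (map_zero _)))).trans (map_zero α))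
  let Q' : RP := mapP Q
  let c' : RH := φ c
  have hQ' : Q' ≠ 0 := (map_ne_zero_iff _ (MvPolynomial.map_injective _ (algebraMap k L).injective)).2 hQ0
  have hc' : c' ≠ 0 := (map_ne_zero_iff _ hφinj).2 hc
  let AP := Localization.Away Q'
  let AH := Localization.Away c'
  have hQu : IsUnit (algebraMap RP AP Q') := IsLocalization.map_units AP ⟨Q', Submonoid.mem_powers Q'⟩
  have hcu : IsUnit (algebraMap RH AH c') := IsLocalization.map_units AH ⟨c', Submonoid.mem_powers c'⟩
  let ιP : Localization.Away Q →ₐ[k] AP := IsLocalization.liftAlgHom (M := Submonoid.powers Q)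
    (f := (IsScalarTower.toAlgHom k RP AP).comp mapP) fun y => by
      obtain ⟨N, hN⟩ := y.2
      rw [← hN]
      show IsUnit (((IsScalarTower.toAlgHom k RP AP).comp mapP) (Q ^ N))
      rw [map_pow]
      exact hQu.pow N
  let ιH : Localization.Away c →ₐ[k] AH := IsLocalization.liftAlgHom (M := Submonoid.powers c)
    (f := (IsScalarTower.toAlgHom k RH AH).comp φ) fun y => by
      obtain ⟨N, hN⟩ := y.2
      rw [← hN]
      show IsUnit (((IsScalarTower.toAlgHom k RH AH).comp φ) (c ^ N))
      rw [map_pow]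
      exact hcu.pow N
  have hιP : ∀ p, ιP (algebraMap _ _ p) = algebraMap RP AP (mapP p) := fun p => IsLocalization.lift_eq _ p
  have hιH : ∀ h, ιH (algebraMap _ _ h) = algebraMap RH AH (φ h) := fun h => IsLocalization.lift_eq _ h
  let α₀ : RP →ₐ[L] AH := MvPolynomial.aeval fun i =>
    ιH (α (algebraMap (MvPolynomial (Fin n) k) (Localization.Away Q) (MvPolynomial.X i)))
  have hα₀ : ∀ p, α₀ (mapP p) = ιH (α (algebraMap _ _ p)) := fun p => by
    have : (α₀.restrictScalars k).comp mapP =
        (ιH.comp α).comp (IsScalarTower.toAlgHom k (MvPolynomial (Fin n) k) (Localization.Away Q)) :=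
      MvPolynomial.algHom_ext fun i => by
        show α₀ (MvPolynomial.map (algebraMap k L) (MvPolynomial.X i)) = _
        rw [MvPolynomial.map_X, show α₀ (MvPolynomial.X i) = _ from MvPolynomial.aeval_X _ _]
        rfl
    exact DFunLike.congr_fun this p
  let αL : AP →ₐ[L] AH := IsLocalization.liftAlgHom (M := Submonoid.powers Q') (f := α₀) fun y => by
    obtain ⟨N, hN⟩ := y.2
    rw [← hN]
    show IsUnit (α₀ (Q' ^ N))
    rw [map_pow, hα₀]
    exact (((IsLocalization.map_units (Localization.Away Q) ⟨Q, Submonoid.mem_powers Q⟩).map α).map ιH).pow N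
  have hαLa : ∀ p, αL (algebraMap RP AP p) = α₀ p := fun p => IsLocalization.lift_eq _ p
  have hαι : ∀ x, αL (ιP x) = ιH (α x) := fun x => by
    have : (αL.restrictScalars k).comp ιP = ιH.comp α :=
      IsLocalization.algHom_ext (Submonoid.powers Q) (AlgHom.ext fun p => by
        show αL (ιP (algebraMap _ _ p)) = ιH (α (algebraMap _ _ p))
        rw [hιP, hαLa, hα₀])
    exact DFunLike.congr_fun this x
  let β₀ : RH →ₐ[L] AP :=
    (Algebra.TensorProduct.lift (Algebra.ofId L AP)
      ((ιP.comp β).comp (IsScalarTower.toAlgHom k H (Localization.Away c))) (fun _ _ => Commute.all _ _)).comp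
      ea.symm.toAlgHom
  have hβ₀ : ∀ h, β₀ (φ h) = ιP (β (algebraMap _ _ h)) := fun h => by
    show Algebra.TensorProduct.lift (Algebra.ofId L AP)
      ((ιP.comp β).comp (IsScalarTower.toAlgHom k H (Localization.Away c))) (fun _ _ => Commute.all _ _)
      (ea.symm (ea ((1 : L) ⊗ₜ[k] h))) = _
    rw [ea.symm_apply_apply, Algebra.TensorProduct.lift_tmul, map_one, one_mul]
    rfl
  let βL : AH →ₐ[L] AP := IsLocalization.liftAlgHom (M := Submonoid.powers c') (f := β₀) fun y => by
    obtain ⟨N, hN⟩ := y.2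
    rw [← hN]
    show IsUnit (β₀ (c' ^ N))
    rw [map_pow, hβ₀]
    exact (((IsLocalization.map_units (Localization.Away c) ⟨c, Submonoid.mem_powers c⟩).map β).map ιP).pow N
  have hβLa : ∀ p, βL (algebraMap RH AH p) = β₀ p := fun p => IsLocalization.lift_eq _ p
  have hgenH : ∀ z : RH, z ∈ Submodule.span L (Set.range φ) := fun z => by
    rw [← ea.apply_symm_apply z]
    generalize ea.symm z = w
    induction w using TensorProduct.induction_on with
    | zero => rw [map_zero]; exact zero_mem _
    | add a b ha hb => rw [map_add]; exact add_mem ha hb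
    | tmul l h =>
      rw [show l ⊗ₜ[k] h = l • ((1 : L) ⊗ₜ[k] h) by rw [TensorProduct.smul_tmul', smul_eq_mul, mul_one], map_smul]
      exact Submodule.smul_mem _ _ (Submodule.subset_span ⟨h, rfl⟩)
  have hαβL : ∀ x, αL (βL x) = x := fun x => by
    have : αL.comp βL = AlgHom.id L AH := IsLocalization.algHom_ext (Submonoid.powers c') (AlgHom.ext fun z => by
      show αL (βL (algebraMap RH AH z)) = algebraMap RH AH z
      rw [hβLa]
      induction hgenH z using Submodule.span_induction with
      | mem y hy =>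
        obtain ⟨h, rfl⟩ := hy
        rw [hβ₀, hαι, show α (β (algebraMap _ _ h)) = algebraMap _ _ h from DFunLike.congr_fun hαβ _, hιH]
      | zero => simp
      | add a b _ _ ha hb => simp only [map_add, ha, hb]
      | smul l y _ hy =>
        rw [map_smul, map_smul, hy, Algebra.smul_def, Algebra.smul_def, map_mul, ← IsScalarTower.algebraMap_apply])
    exact DFunLike.congr_fun this x
  -- the actions
  let actP : G →* (RP ≃+* RP) :=
    { toFun := fun σ => MvPolynomial.mapEquiv (Fin n) (σ : L ≃+* L)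
      map_one' := RingEquiv.ext fun p => MvPolynomial.map_id p
      map_mul' := fun σ τ => RingEquiv.ext fun p =>
        (MvPolynomial.map_map (τ : L →+* L) (σ : L →+* L) p).symm }
  let actH : G →* (RH ≃+* RH) :=
    { toFun := fun σ => RingEquiv.ofBijective (tw θ σ).toRingHom ⟨tw_injective θ σ,
        fun x => ⟨tw θ σ⁻¹ x, by
          show tw θ σ (tw θ σ⁻¹ x) = x
          rw [← tw_mul, mul_inv_cancel, tw_one]⟩⟩
      map_one' := RingEquiv.ext fun x => tw_one θ x
      map_mul' := fun σ τ => RingEquiv.ext fun x => tw_mul θ σ τ x }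
  have hactPQ : ∀ σ, actP σ Q' = Q' := fun σ => by
    show MvPolynomial.map (σ : L →+* L) (MvPolynomial.map (algebraMap k L) Q) = MvPolynomial.map (algebraMap k L) Q
    rw [MvPolynomial.map_map, show (σ : L →+* L).comp (algebraMap k L) = algebraMap k L from σ.toAlgHom.comp_algebraMap]
  obtain ⟨SP, _, πP, evP, secP, hevsecP, hevRP, hkerP, hevactP⟩ := exists_exponents actP hQ' hactPQ
  obtain ⟨SH, _, πH, evH, secH, hevsecH, hevRH, hkerH, hevactH⟩ := exists_exponents actH hc' (fun σ => hφfix σ c)
  let aP : G → AP →+* AP := fun σ => IsLocalization.lift (M := Submonoid.powers Q')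
    (g := (algebraMap RP AP).comp (actP σ).toRingHom) fun y => by
      obtain ⟨N, hN⟩ := y.2
      rw [← hN]
      show IsUnit (algebraMap RP AP (actP σ (Q' ^ N)))
      rw [map_pow, map_pow, hactPQ]
      exact hQu.pow N
  let aH : G → AH →+* AH := fun σ => IsLocalization.lift (M := Submonoid.powers c')
    (g := (algebraMap RH AH).comp (actH σ).toRingHom) fun y => by
      obtain ⟨N, hN⟩ := y.2
      rw [← hN]
      show IsUnit (algebraMap RH AH (tw θ σ (c' ^ N)))
      rw [map_pow, map_pow, hφfix]
      exact hcu.pow N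
  have haP : ∀ σ x, aP σ (algebraMap RP AP x) = algebraMap RP AP (actP σ x) := fun σ x => IsLocalization.lift_eq _ x
  have haH : ∀ σ x, aH σ (algebraMap RH AH x) = algebraMap RH AH (tw θ σ x) := fun σ x => IsLocalization.lift_eq _ x
  have haPι : ∀ σ x, aP σ (ιP x) = ιP x := fun σ x => by
    have : (aP σ).comp ιP.toRingHom = ιP.toRingHom := IsLocalization.ringHom_ext (Submonoid.powers Q) (RingHom.ext fun p => by
      show aP σ (ιP (algebraMap _ _ p)) = ιP (algebraMap _ _ p)
      rw [hιP, haP]
      congr 1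
      show MvPolynomial.map (σ : L →+* L) (MvPolynomial.map (algebraMap k L) p) = MvPolynomial.map (algebraMap k L) p
      rw [MvPolynomial.map_map, show (σ : L →+* L).comp (algebraMap k L) = algebraMap k L from σ.toAlgHom.comp_algebraMap])
    exact DFunLike.congr_fun this x
  have haHι : ∀ σ x, aH σ (ιH x) = ιH x := fun σ x => by
    have : (aH σ).comp ιH.toRingHom = ιH.toRingHom := IsLocalization.ringHom_ext (Submonoid.powers c) (RingHom.ext fun p => by
      show aH σ (ιH (algebraMap _ _ p)) = ιH (algebraMap _ _ p)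
      rw [hιH, haH, hφfix])
    exact DFunLike.congr_fun this x
  have haHL : ∀ σ (l : L), aH σ (algebraMap L AH l) = algebraMap L AH (σ l) := fun σ l => by
    rw [IsScalarTower.algebraMap_apply L RH AH, haH, IsScalarTower.algebraMap_apply L RH AH]
    congr 1
    show tw θ σ (MonoidAlgebra.single 1 l) = MonoidAlgebra.single 1 (σ l)
    rw [tw_single, map_one]
  have haPL : ∀ σ (l : L), aP σ (algebraMap L AP l) = algebraMap L AP (σ l) := fun σ l => by
    rw [IsScalarTower.algebraMap_apply L RP AP, haP, IsScalarTower.algebraMap_apply L RP AP]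
    congr 1
    exact MvPolynomial.map_C _ _
  have hαeq : ∀ σ x, αL (aP σ x) = aH σ (αL x) := fun σ x => by
    have : αL.toRingHom.comp (aP σ) = (aH σ).comp αL.toRingHom :=
      IsLocalization.ringHom_ext (Submonoid.powers Q') (MvPolynomial.ringHom_ext (fun l => by
        show αL (aP σ (algebraMap L AP l)) = aH σ (αL (algebraMap L AP l))
        rw [haPL, AlgHom.commutes, AlgHom.commutes, haHL]) fun i => by
        show αL (aP σ (algebraMap RP AP (MvPolynomial.X i))) = aH σ (αL (algebraMap RP AP (MvPolynomial.X i)))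
        rw [haP, show actP σ (MvPolynomial.X i) = MvPolynomial.X i from MvPolynomial.map_X _ _, hαLa,
          show α₀ (MvPolynomial.X i) = ιH (α (algebraMap _ _ (MvPolynomial.X i))) from MvPolynomial.aeval_X _ _, haHι])
    exact DFunLike.congr_fun this x
  have hβeq : ∀ σ x, βL (aH σ x) = aP σ (βL x) := fun σ x => by
    have : βL.toRingHom.comp (aH σ) = (aP σ).comp βL.toRingHom :=
      IsLocalization.ringHom_ext (Submonoid.powers c') (RingHom.ext fun z => by
        show βL (aH σ (algebraMap RH AH z)) = aP σ (βL (algebraMap RH AH z))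
        rw [haH, hβLa, hβLa]
        induction hgenH z using Submodule.span_induction with
        | mem y hy => obtain ⟨h, rfl⟩ := hy; rw [hφfix, hβ₀, haPι]
        | zero => simp
        | add a b _ _ ha hb => simp only [map_add, ha, hb]
        | smul l y _ hy =>
          rw [tw_smul, map_smul, hy, map_smul, Algebra.smul_def, Algebra.smul_def, map_mul, haPL])
    exact DFunLike.congr_fun this x
  -- the lattices
  let αU : APˣ →* AHˣ := Units.map αL.toMonoidHom
  let βU : AHˣ →* APˣ := Units.map βL.toMonoidHom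
  let ιRH : RHˣ →* AHˣ := Units.map (algebraMap RH AH).toMonoidHom
  let ιRP : RPˣ →* APˣ := Units.map (algebraMap RP AP).toMonoidHom
  have hRP : ∀ ε : RPˣ, ∃ δ : RHˣ, αU (ιRP ε) = ιRH δ ∧ ∃ l : L, (δ : RH) = MonoidAlgebra.single 1 l := fun ε => by
    obtain ⟨l, hl, he⟩ := MvPolynomial.isUnit_iff_eq_C_of_isReduced.1 ε.isUnit
    refine ⟨Units.map (MonoidAlgebra.singleOneRingHom : L →+* RH).toMonoidHom hl.unit, Units.ext ?_, l, rfl⟩
    show αL (algebraMap RP AP (ε : RP)) = algebraMap RH AH (MonoidAlgebra.single 1 l)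
    rw [he, show MvPolynomial.C l = algebraMap L RP l from rfl, ← IsScalarTower.algebraMap_apply, AlgHom.commutes,
      IsScalarTower.algebraMap_apply L RH AH]
    rfl
  have hevαR : ∀ ε : RPˣ, evH (αU (ιRP ε)) = 1 := fun ε => by
    obtain ⟨δ, hδ, -⟩ := hRP ε
    rw [hδ, hevRH]
  have hdec : ∀ w : APˣ, ∃ ε : RPˣ, w = ιRP ε * secP (evP w) := fun w => by
    obtain ⟨ε, hε⟩ := hkerP (w * (secP (evP w))⁻¹) (by rw [map_mul, map_inv, hevsecP, mul_inv_cancel])
    exact ⟨ε, by rw [← hε, inv_mul_cancel_right]⟩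
  let q : PermLat SP →* PermLat SH := (evH.comp αU).comp secP
  have hqev : ∀ w : APˣ, q (evP w) = evH (αU w) := fun w => by
    obtain ⟨ε, hε⟩ := hdec w
    conv_rhs => rw [hε, map_mul, map_mul, hevαR, one_mul]
    rfl
  have hαβU : ∀ u, αU (βU u) = u := fun u => Units.ext (hαβL u)
  have hqsurj : Function.Surjective q := fun v => ⟨evP (βU (secH v)), by rw [hqev, hαβU, hevsecH]⟩
  have hqeq : ∀ σ v, q (permθ πP σ v) = permθ πH σ (q v) := fun σ v => by
    have h1 : permθ πP σ v = evP (Units.map (aP σ).toMonoidHom (secP v)) := by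
      rw [hevactP σ (aP σ) (haP σ), hevsecP]
    rw [h1, hqev, show αU (Units.map (aP σ).toMonoidHom (secP v)) = Units.map (aH σ).toMonoidHom (αU (secP v)) from
      Units.ext (hαeq σ _), hevactH σ (aH σ) (haH σ)]
    rfl
  -- monomial exponents
  have : UniqueProds M := UniqueProds.of_injective_mulHom
    (MulEquiv.ulift : M ≃* Multiplicative (Fin r → ℤ)).toMulHom (MulEquiv.injective _) inferInstance
  have : TwoUniqueProds M := UniqueProds.toTwoUniqueProds_of_group
  choose la mo hla hmo using fun ε : RHˣ => exists_single_of_isUnit ε.isUnit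
  have hmo' : ∀ (ε : RHˣ) a m, a ≠ 0 → (ε : RH) = MonoidAlgebra.single m a → mo ε = m := fun ε a m ha h => by
    have h2 := (MonoidAlgebra.coeff_single (R := L) _ _).symm.trans
      ((congrArg MonoidAlgebra.coeff ((hmo ε).symm.trans h)).trans (MonoidAlgebra.coeff_single _ _))
    exact ((Finsupp.single_eq_single_iff _ _ _ _).1 h2).elim (fun x => x.1) (fun x => absurd x.2 ha)
  let moH : RHˣ →* M := MonoidHom.mk' mo fun a b => hmo' _ (la a * la b) _ (mul_ne_zero (hla a) (hla b)) (by
    rw [Units.val_mul]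
    conv_lhs => rw [hmo a, hmo b, MonoidAlgebra.single_mul_single])
  let chM : M →* RHˣ := MonoidHom.toHomUnits (MonoidAlgebra.of L M)
  have hmoch : ∀ m, moH (chM m) = m := fun m => hmo' _ 1 m one_ne_zero rfl
  have hιRH : Function.Injective ιRH := Units.map_injective
    (IsLocalization.injective AH (powers_le_nonZeroDivisors_of_noZeroDivisors hc'))
  let N : Subgroup (PermLat SP) := q.ker
  have hNε : ∀ v : N, ∃ ε : RHˣ, αU (secP (v : PermLat SP)) = ιRH ε := fun v => hkerH _ v.2
  choose εN hεN using hNε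
  let rN : N →* M := MonoidHom.mk' (fun v => moH (εN v)) fun v w => by
    rw [← map_mul]
    congr 1
    apply hιRH
    rw [← hεN, map_mul ιRH, ← hεN, ← hεN, Subgroup.coe_mul, map_mul, map_mul]
  let jM : M →* N := (((evP.comp βU).comp ιRH).comp chM).codRestrict N fun m => by
    show q _ = 1
    simp only [MonoidHom.comp_apply]
    rw [hqev, hαβU, hevRH]
  have hrj : ∀ m, rN (jM m) = m := fun m => by
    obtain ⟨ε, hε⟩ := hdec (βU (ιRH (chM m)))
    obtain ⟨δ, hδ, l, hl⟩ := hRP ε
    have h1 : δ * εN (jM m) = chM m := hιRH (by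
      rw [map_mul, ← hδ, ← hεN, ← map_mul,
        show ιRP ε * secP ((jM m : N) : PermLat SP) = βU (ιRH (chM m)) from hε.symm, hαβU])
    show moH (εN (jM m)) = m
    have h2 := congrArg moH h1
    rw [map_mul, hmoch] at h2
    have h3 : moH δ = 1 := by
      refine hmo' δ l 1 (fun h0 => δ.ne_zero ?_) hl
      rw [hl, h0, MonoidAlgebra.single_zero]
    rwa [h3, one_mul] at h2
  have hNmem : ∀ σ (v : PermLat SP), v ∈ N → permθ πP σ v ∈ N := fun σ v hv => by
    show q _ = 1
    rw [hqeq, show q v = 1 from hv, map_one]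
  have hrθ : ∀ σ (v : N), rN ⟨permθ πP σ v, hNmem σ v v.2⟩ = θ σ (rN v) := fun σ v => by
    obtain ⟨ε, hε⟩ := hdec (Units.map (aP σ).toMonoidHom (secP (v : PermLat SP)))
    rw [hevactP σ (aP σ) (haP σ), hevsecP] at hε
    obtain ⟨δ, hδ, l, hl⟩ := hRP ε
    let ε' : RHˣ := Units.map (tw θ σ).toRingHom.toMonoidHom (εN v)
    have h1 : δ * εN ⟨permθ πP σ v, hNmem σ v v.2⟩ = ε' := hιRH (by
      rw [map_mul, ← hδ, ← hεN, ← map_mul, ← hε]
      refine Units.ext ?_
      show αL (aP σ _) = algebraMap RH AH (tw θ σ (εN v : RH))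
      rw [hαeq, ← haH]
      exact congrArg (aH σ) (congrArg Units.val (hεN v)))
    have h2 := congrArg moH h1
    have h3 : moH δ = 1 := by
      refine hmo' δ l 1 (fun h0 => δ.ne_zero ?_) hl
      rw [hl, h0, MonoidAlgebra.single_zero]
    rw [map_mul, h3, one_mul] at h2
    refine h2.trans (hmo' ε' (σ (la (εN v))) _ (by simpa using hla (εN v)) ?_)
    show tw θ σ (εN v : RH) = _
    rw [hmo (εN v), tw_single]
    rfl
  have hjθ : ∀ σ m, (jM (θ σ m) : PermLat SP) = permθ πP σ (jM m : PermLat SP) := fun σ m => by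
    show evP (βU (ιRH (chM (θ σ m)))) = permθ πP σ (evP (βU (ιRH (chM m))))
    rw [← hevactP σ (aP σ) (haP σ)]
    congr 1
    refine Units.ext ?_
    show βL (algebraMap RH AH (MonoidAlgebra.single (θ σ m) 1)) =
      aP σ (βL (algebraMap RH AH (MonoidAlgebra.single m 1)))
    rw [← hβeq, haH, tw_single, map_one]
  let θN : G →* MulAut N :=
    { toFun := fun σ =>
        { toFun := fun v => ⟨permθ πP σ v, hNmem σ v v.2⟩
          invFun := fun v => ⟨permθ πP σ⁻¹ v, hNmem σ⁻¹ v v.2⟩
          left_inv := fun v => Subtype.ext (by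
            show permθ πP σ⁻¹ (permθ πP σ (v : PermLat SP)) = v
            rw [← MulAut.mul_apply, ← map_mul, inv_mul_cancel, map_one, MulAut.one_apply])
          right_inv := fun v => Subtype.ext (by
            show permθ πP σ (permθ πP σ⁻¹ (v : PermLat SP)) = v
            rw [← MulAut.mul_apply, ← map_mul, mul_inv_cancel, map_one, MulAut.one_apply])
          map_mul' := fun a b => Subtype.ext (map_mul (permθ πP σ) (a : PermLat SP) b) }
      map_one' := MulEquiv.ext fun v => Subtype.ext (by
        show permθ πP 1 (v : PermLat SP) = v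
        rw [map_one, MulAut.one_apply])
      map_mul' := fun σ τ => MulEquiv.ext fun v => Subtype.ext (by
        show permθ πP (σ * τ) (v : PermLat SP) = permθ πP σ (permθ πP τ (v : PermLat SP))
        rw [map_mul, MulAut.mul_apply]) }
  -- the complement
  let K0 : Subgroup N := rN.ker
  have hK0 : ∀ σ (v : N), v ∈ K0 → θN σ v ∈ K0 := fun σ v hv => by
    show rN _ = 1
    exact (hrθ σ v).trans (by rw [show rN v = 1 from hv, map_one])
  let M₁ := K0 × PermLat SH
  let act₁ : G → M₁ → M₁ := fun σ w => (⟨θN σ w.1, hK0 σ w.1 w.1.2⟩, permθ πH σ w.2)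
  have hact1 : ∀ w, act₁ 1 w = w := fun w =>
    Prod.ext (Subtype.ext (by simp [act₁])) (by simp [act₁])
  have hactm : ∀ σ τ w, act₁ (σ * τ) w = act₁ σ (act₁ τ w) := fun σ τ w =>
    Prod.ext (Subtype.ext (by simp [act₁])) (by simp [act₁])
  let θ₁ : G →* MulAut M₁ :=
    { toFun := fun σ =>
        { toFun := act₁ σ
          invFun := act₁ σ⁻¹
          left_inv := fun w => by rw [← hactm, inv_mul_cancel, hact1]
          right_inv := fun w => by rw [← hactm, mul_inv_cancel, hact1]
          map_mul' := fun a b => Prod.ext (Subtype.ext (map_mul (θN σ) (a.1 : N) b.1)) (map_mul (permθ πH σ) a.2 b.2) }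
      map_one' := MulEquiv.ext hact1
      map_mul' := fun σ τ => MulEquiv.ext (hactm σ τ) }
  obtain ⟨r₁, ⟨eM₁⟩⟩ := exists_lat_of_injective (S := SP ⊕ SH)
    ({ toFun := fun w => Multiplicative.ofAdd (Sum.elim (Multiplicative.toAdd ((w.1 : N) : PermLat SP))
          (Multiplicative.toAdd w.2))
       map_one' := Multiplicative.toAdd.injective (funext fun s => by rcases s with s | s <;> rfl)
       map_mul' := fun a b => Multiplicative.toAdd.injective (funext fun s => by rcases s with s | s <;> rfl) } :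
      M₁ →* PermLat (SP ⊕ SH))
    (fun a b h => Prod.ext (Subtype.ext (Subtype.ext (Multiplicative.toAdd.injective (funext fun s =>
      congrFun (Multiplicative.ofAdd.injective h) (Sum.inl s))))) (Multiplicative.toAdd.injective (funext fun s =>
      congrFun (Multiplicative.ofAdd.injective h) (Sum.inr s))))
  obtain ⟨H₁, _, _, φ₁, hφ₁bij, hφ₁fix, hsplit⟩ := exists_torus θ₁ eM₁
  -- rational functions
  let NN := M × K0
  let θNN : G →* MulAut NN :=
    { toFun := fun σ =>
        { toFun := fun w => (θ σ w.1, ⟨θN σ w.2, hK0 σ w.2 w.2.2⟩)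
          invFun := fun w => (θ σ⁻¹ w.1, ⟨θN σ⁻¹ w.2, hK0 σ⁻¹ w.2 w.2.2⟩)
          left_inv := fun w => Prod.ext
            (show θ σ⁻¹ (θ σ w.1) = w.1 by rw [map_inv]; exact (θ σ).symm_apply_apply _)
            (Subtype.ext (show θN σ⁻¹ (θN σ (w.2 : N)) = w.2 by rw [map_inv]; exact (θN σ).symm_apply_apply _))
          right_inv := fun w => Prod.ext
            (show θ σ (θ σ⁻¹ w.1) = w.1 by rw [map_inv]; exact (θ σ).apply_symm_apply _)
            (Subtype.ext (show θN σ (θN σ⁻¹ (w.2 : N)) = w.2 by rw [map_inv]; exact (θN σ).apply_symm_apply _))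
          map_mul' := fun a b => Prod.ext (map_mul (θ σ) a.1 b.1) (Subtype.ext (map_mul (θN σ) (a.2 : N) b.2)) }
      map_one' := MulEquiv.ext fun w => Prod.ext (by simp) (Subtype.ext (by simp))
      map_mul' := fun σ τ => MulEquiv.ext fun w => Prod.ext (by simp) (Subtype.ext (by simp)) }
  let W := NN × PermLat SH
  let θW : G →* MulAut W :=
    { toFun := fun σ => MulEquiv.prodCongr (θNN σ) (permθ πH σ)
      map_one' := MulEquiv.ext fun w => Prod.ext
        (show θNN 1 w.1 = w.1 by rw [map_one]; rfl) (show permθ πH 1 w.2 = w.2 by rw [map_one]; rfl)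
      map_mul' := fun σ τ => MulEquiv.ext fun w => Prod.ext
        (show θNN (σ * τ) w.1 = θNN σ (θNN τ w.1) by rw [map_mul]; rfl)
        (show permθ πH (σ * τ) w.2 = permθ πH σ (permθ πH τ w.2) by rw [map_mul]; rfl) }
  let ι : NN →* PermLat SP := N.subtype.comp (MonoidHom.coprod jM K0.subtype)
  have hιinj : Function.Injective ι := (injective_iff_map_eq_one _).2 fun w hw => by
    have h0 : jM w.1 * (w.2 : N) = 1 := Subtype.ext hw
    have h1 := congrArg rN h0
    rw [map_mul, map_one, hrj, show rN (w.2 : N) = 1 from w.2.2, mul_one] at h1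
    rw [h1, map_one, one_mul] at h0
    exact Prod.ext h1 (Subtype.ext h0)
  have hexact : ∀ p, q p = 1 ↔ p ∈ ι.range := fun p => by
    constructor
    · intro hp
      let v : N := ⟨p, hp⟩
      refine ⟨(rN v, ⟨(jM (rN v))⁻¹ * v, by
        show rN _ = 1
        rw [map_mul, map_inv, hrj, inv_mul_cancel]⟩), ?_⟩
      show ((jM (rN v) * ((jM (rN v))⁻¹ * v) : N) : PermLat SP) = p
      rw [mul_inv_cancel_left]
    · rintro ⟨w, rfl⟩
      exact (jM w.1 * (w.2 : N)).2
  obtain ⟨rNN, ⟨eNN⟩⟩ := exists_lat_of_injective ι hιinj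
  obtain ⟨rP, ⟨eP⟩⟩ := exists_lat_of_injective (MonoidHom.id (PermLat SP)) Function.injective_id
  obtain ⟨rW, ⟨eW⟩⟩ := exists_lat_of_injective (S := SP ⊕ SH)
    ({ toFun := fun w => Multiplicative.ofAdd (Sum.elim (Multiplicative.toAdd (ι w.1)) (Multiplicative.toAdd w.2))
       map_one' := Multiplicative.toAdd.injective (funext fun s => by rcases s with s | s <;> simp)
       map_mul' := fun a b => Multiplicative.toAdd.injective (funext fun s => by
         rcases s with s | s
         · exact congrArg (fun v : PermLat SP => Multiplicative.toAdd v s) (map_mul ι a.1 b.1)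
         · rfl) } :
      W →* PermLat (SP ⊕ SH))
    (fun a b h => Prod.ext (hιinj (Multiplicative.toAdd.injective (funext fun s =>
      congrFun (Multiplicative.ofAdd.injective h) (Sum.inl s)))) (Multiplicative.toAdd.injective (funext fun s =>
      congrFun (Multiplicative.ofAdd.injective h) (Sum.inr s))))
  have := isDomain_of_lat L eNN
  have := isDomain_of_lat L eP
  have : IsDomain (MonoidAlgebra L (NN × PermLat SH)) := isDomain_of_lat L eW
  obtain ⟨Ψ, hΨ, hΨL, hΨθ⟩ := exists_fieldEquiv (L := L) θNN (permθ πP) πH θW (fun σ w => rfl) ι hιinj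
    (fun σ w => by
      show ((jM (θ σ w.1) * _ : N) : PermLat SP) = permθ πP σ ((jM w.1 * (w.2 : N) : N) : PermLat SP)
      rw [Subgroup.coe_mul, Subgroup.coe_mul, map_mul, hjθ]
      rfl) q hqsurj hqeq hexact
  -- coordinates on the product
  let σW : M × M₁ ≃* W := MulEquiv.prodAssoc.symm
  let φP : H ⊗[k] H₁ →ₐ[k] MonoidAlgebra L (M × M₁) := Algebra.TensorProduct.lift
    (((MonoidAlgebra.mapDomainAlgHom L L (MonoidHom.inl M M₁)).restrictScalars k).comp φ)
    (((MonoidAlgebra.mapDomainAlgHom L L (MonoidHom.inr M M₁)).restrictScalars k).comp φ₁) (fun _ _ => Commute.all _ _)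
  have hφPbij := prodCoords_bijective φ φ₁ (by rw [hliftφ]; exact ea.bijective) hφ₁bij
  let toW : MonoidAlgebra L (M × M₁) ≃ₐ[L] MonoidAlgebra L W := MonoidAlgebra.domCongr L L σW
  let FW := Fn L W
  let FP := Fn L (PermLat SP)
  let φW : H ⊗[k] H₁ →ₐ[k] MonoidAlgebra L W := (toW.toAlgHom.restrictScalars k).comp φP
  let jW : H ⊗[k] H₁ →ₐ[k] FW := (IsScalarTower.toAlgHom k (MonoidAlgebra L W) FW).comp φW
  have hlift : ∀ z, Algebra.TensorProduct.lift (Algebra.ofId L FW) jW (fun _ _ => Commute.all _ _) z =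
      algebraMap (MonoidAlgebra L W) FW
        (toW (Algebra.TensorProduct.lift (Algebra.ofId L _) φP (fun _ _ => Commute.all _ _) z)) := fun z => by
    induction z using TensorProduct.induction_on with
    | zero => simp
    | tmul l a =>
      rw [Algebra.TensorProduct.lift_tmul, Algebra.TensorProduct.lift_tmul, map_mul, map_mul, Algebra.ofId_apply,
        Algebra.ofId_apply, AlgEquiv.commutes, ← IsScalarTower.algebraMap_apply]
      rfl
    | add a b ha hb => simp only [map_add, ha, hb]
  have htoW : ∀ σ (w : M × M₁) (a : L), tw θW σ (toW (MonoidAlgebra.single w a)) =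
      toW (MonoidAlgebra.single (θ σ w.1, θ₁ σ w.2) (σ a)) := fun σ w a => by
    rw [MonoidAlgebra.domCongr_single, MonoidAlgebra.domCongr_single, tw_single]
    rfl
  have hWfix : ∀ σ a, fAct θW σ (jW a) = jW a := fun σ a => by
    show fAct θW σ (algebraMap _ FW (φW a)) = algebraMap _ FW (φW a)
    rw [fAct_algebraMap]
    congr 1
    induction a using TensorProduct.induction_on with
    | zero => simp
    | add a b ha hb => simp only [map_add, ha, hb]
    | tmul h h₁ =>
      have e1 : ∀ z : MonoidAlgebra L M,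
          tw θW σ (toW (MonoidAlgebra.mapDomainAlgHom L L (MonoidHom.inl M M₁) z)) =
          toW (MonoidAlgebra.mapDomainAlgHom L L (MonoidHom.inl M M₁) (tw θ σ z)) := fun z => by
        induction z using MonoidAlgebra.induction_linear with
        | zero => simp
        | add a b ha hb => simp only [map_add, ha, hb]
        | single m a => simp [htoW, tw_single]
      have e2 : ∀ z : MonoidAlgebra L M₁,
          tw θW σ (toW (MonoidAlgebra.mapDomainAlgHom L L (MonoidHom.inr M M₁) z)) =
          toW (MonoidAlgebra.mapDomainAlgHom L L (MonoidHom.inr M M₁) (tw θ₁ σ z)) := fun z => by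
        induction z using MonoidAlgebra.induction_linear with
        | zero => simp
        | add a b ha hb => simp only [map_add, ha, hb]
        | single m a => simp [htoW, tw_single]
      show tw θW σ (toW (φP (h ⊗ₜ h₁))) = toW (φP (h ⊗ₜ h₁))
      rw [show φP (h ⊗ₜ h₁) = MonoidAlgebra.mapDomainAlgHom L L (MonoidHom.inl M M₁) (φ h) *
        MonoidAlgebra.mapDomainAlgHom L L (MonoidHom.inr M M₁) (φ₁ h₁) from Algebra.TensorProduct.lift_tmul _ _ _ _ _,
        map_mul, map_mul, e1, e2, hφfix, hφ₁fix]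
  have hWinj : Function.Injective (Algebra.TensorProduct.lift (Algebra.ofId L FW) jW (fun _ _ => Commute.all _ _)) := by
    intro a b h
    rw [hlift, hlift] at h
    exact hφPbij.1 (toW.injective (IsFractionRing.injective _ FW h))
  have hWgen : ∀ x : FW, ∃ w w' : L ⊗[k] (H ⊗[k] H₁),
      Algebra.TensorProduct.lift (Algebra.ofId L FW) jW (fun _ _ => Commute.all _ _) w' ≠ 0 ∧
      x * Algebra.TensorProduct.lift (Algebra.ofId L FW) jW (fun _ _ => Commute.all _ _) w' =
        Algebra.TensorProduct.lift (Algebra.ofId L FW) jW (fun _ _ => Commute.all _ _) w := fun x => by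
    obtain ⟨a, b, hb, rfl⟩ := IsFractionRing.div_surjective (A := MonoidAlgebra L W) x
    obtain ⟨w, hw⟩ := hφPbij.2 (toW.symm a)
    obtain ⟨w', hw'⟩ := hφPbij.2 (toW.symm b)
    have hb0 : algebraMap (MonoidAlgebra L W) FW b ≠ 0 := IsFractionRing.to_map_ne_zero_of_mem_nonZeroDivisors hb
    refine ⟨w, w', ?_, ?_⟩
    · rw [hlift, hw', toW.apply_symm_apply]; exact hb0
    · rw [hlift, hlift, hw, hw', toW.apply_symm_apply, toW.apply_symm_apply, div_mul_cancel₀ _ hb0]
  obtain ⟨y, hyfix, hyind, hyadj⟩ := exists_coordinates (L := L) πP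
  let jY : MvPolynomial SP k →ₐ[k] FP := MvPolynomial.aeval y
  let toF : L ⊗[k] MvPolynomial SP k →ₐ[L] FP :=
    Algebra.TensorProduct.lift (Algebra.ofId L FP) jY (fun _ _ => Commute.all _ _)
  have htoF : toF = (MvPolynomial.aeval y).comp (MvPolynomial.algebraTensorAlgEquiv k L).toAlgHom := by
    refine Algebra.TensorProduct.ext (Subsingleton.elim _ _) (MvPolynomial.algHom_ext fun i => ?_)
    simp [toF, jY, MvPolynomial.algebraTensorAlgEquiv]
    show y i = MvPolynomial.aeval y (MvPolynomial.map (algebraMap k L) (MvPolynomial.X i))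
    rw [MvPolynomial.map_X, MvPolynomial.aeval_X]
  have hYinj : Function.Injective toF := by
    rw [htoF]
    exact (algebraicIndependent_iff_injective_aeval.1 hyind).comp (MvPolynomial.algebraTensorAlgEquiv k L).injective
  have hjYfix : ∀ σ a, fAct (permθ πP) σ (jY a) = jY a := fun σ a => by
    have : (fAct (permθ πP) σ).comp jY = jY := MvPolynomial.algHom_ext fun i => by
      show fAct (permθ πP) σ (jY (MvPolynomial.X i)) = jY (MvPolynomial.X i)
      rw [show jY (MvPolynomial.X i) = y i from MvPolynomial.aeval_X _ _, hyfix]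
    exact DFunLike.congr_fun this a
  have hYgen : ∀ x : FP, ∃ w w', toF w' ≠ 0 ∧ x * toF w' = toF w := fun x => by
    have hx : x ∈ IntermediateField.adjoin L (Set.range y) := hyadj ▸ IntermediateField.mem_top
    obtain ⟨a, b, hab⟩ := (IntermediateField.mem_adjoin_range_iff L y x).1 hx
    let e := MvPolynomial.algebraTensorAlgEquiv k L (σ := SP)
    have he : ∀ p, toF (e.symm p) = MvPolynomial.aeval y p := fun p => by
      rw [htoF]
      show MvPolynomial.aeval y (e (e.symm p)) = _
      rw [e.apply_symm_apply]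
    by_cases hb : MvPolynomial.aeval y b = 0
    · exact ⟨0, e.symm 1, by rw [he, map_one]; exact one_ne_zero, by rw [hab, hb, div_zero, zero_mul, map_zero]⟩
    · exact ⟨e.symm a, e.symm b, by rwa [he], by rw [he, he, hab, div_mul_cancel₀ _ hb]⟩
  let jA : H ⊗[k] H₁ →ₐ[k] FP := Ψ.comp jW
  have hjWinj : Function.Injective jW := fun a b h => by
    refine Algebra.TensorProduct.includeRight_injective (R := k) (A := L) (B := H ⊗[k] H₁) (algebraMap k L).injective ?_
    apply hWinj
    simpa using h
  have hjAinj : Function.Injective jA := hΨ.1.comp hjWinj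
  have hjYinj : Function.Injective jY := fun a b h => by
    refine Algebra.TensorProduct.includeRight_injective (R := k) (A := L) (B := MvPolynomial SP k) (algebraMap k L).injective ?_
    apply hYinj
    simpa [toF] using h
  have : IsDomain (H ⊗[k] H₁) := hjAinj.isDomain jA.toRingHom
  have hft₁ : Algebra.FiniteType k H₁ := by
    have : Group.FG (TorusPts.Lat.{u} r₁) := by
      haveI : AddGroup.FG (Fin r₁ → ℤ) := Module.Finite.iff_addGroup_fg.mp inferInstance
      haveI : Group.FG (Multiplicative (Fin r₁ → ℤ)) := inferInstance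
      exact Group.fg_of_surjective (f := (MulEquiv.ulift.symm : Multiplicative (Fin r₁ → ℤ) ≃* TorusPts.Lat.{u} r₁).toMonoidHom)
        (MulEquiv.surjective _)
    let E₁ : L ⊗[k] H₁ ≃ₐ[L] MonoidAlgebra L (TorusPts.Lat.{u} r₁) :=
      (AlgEquiv.ofBijective _ hφ₁bij).trans (MonoidAlgebra.domCongr L L eM₁)
    have : Algebra.FiniteType L (L ⊗[k] H₁) :=
      Algebra.FiniteType.equiv (inferInstance : Algebra.FiniteType L (MonoidAlgebra L (TorusPts.Lat.{u} r₁))) E₁.symm
    exact Algebra.FiniteType.of_finiteType_tensorProduct_of_faithfullyFlat L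
  have : Algebra.FiniteType k (H ⊗[k] H₁) := Algebra.FiniteType.trans (S := H) ‹_› inferInstance
  obtain ⟨f, g, hf, hg, hfg⟩ := exists_away_equiv jA jY hjAinj hjYinj
    (fun a => by
      obtain ⟨x, z, hz, h⟩ := exists_frac_of_fixed (permθ πP) jY hjYfix hYinj hYgen (jA a)
        (fun σ => by show fAct _ σ (Ψ (jW a)) = Ψ (jW a); rw [← hΨθ, hWfix])
      exact ⟨x, z, hz, h⟩)
    (fun b => by
      obtain ⟨x', hx'⟩ := hΨ.2 (jY b)
      obtain ⟨x, z, hz, h⟩ := exists_frac_of_fixed θW jW hWfix hWinj hWgen x'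
        (fun σ => hΨ.1 (by rw [hΨθ, hx', hjYfix]))
      refine ⟨x, z, fun h0 => hz (hΨ.1 (h0.trans (map_zero _).symm)), ?_⟩
      show jY b * Ψ (jW z) = Ψ (jW x)
      rw [← hx', ← map_mul, h])
  exact ⟨H₁, inferInstance, inferInstance, inferInstance, r₁, SP, f, g, hsplit, hf, hg, hfg⟩

end Groth.Agent.GalTori
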