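import Groth.Agent.MultTypeLib.Twist
import Groth.Agent.GalDescX.Basic
import Groth.Agent.GrpSchLib.AffineHopf
import Groth.Agent.GrpSchLib.MultTypeBC
import Groth.Agent.TorusPts.Galois
import Groth.Prelude.Def_TwC
import Mathlib.RingTheory.Etale.Field

/-! Tori over a field with a prescribed Galois action on the character lattice. -/

universe u

open CategoryTheory AlgebraicGeometry TensorProduct

namespace Groth.Agent.GalTori

open MultTypeLib

section tw

variable {k : Type u} [Field k] {L : Type u} [Field L] [Algebra k L] {M : Type u} [CommGroup M]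
  (θ : (L ≃ₐ[k] L) →* MulAut M)

/-- The twisted Galois action on the group algebra of a lattice. -/
noncomputable def tw (σ : L ≃ₐ[k] L) : MonoidAlgebra L M →ₐ[k] MonoidAlgebra L M :=
  { (MonoidAlgebra.mapDomainRingHom L (θ σ).toMonoidHom).comp (MonoidAlgebra.mapRingHom M (σ : L →+* L)) with
    commutes' := fun c => by
      show MonoidAlgebra.mapDomainRingHom L (θ σ).toMonoidHom (MonoidAlgebra.mapRingHom M (σ : L →+* L)
        (algebraMap k (MonoidAlgebra L M) c)) = algebraMap k (MonoidAlgebra L M) c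
      simp [MonoidAlgebra.coe_algebraMap] }

theorem tw_single (σ : L ≃ₐ[k] L) (m : M) (a : L) :
    tw θ σ (MonoidAlgebra.single m a) = MonoidAlgebra.single (θ σ m) (σ a) := by
  show MonoidAlgebra.mapDomainRingHom L (θ σ).toMonoidHom (MonoidAlgebra.mapRingHom M (σ : L →+* L) _) = _
  simp

theorem tw_smul (σ : L ≃ₐ[k] L) (a : L) (x : MonoidAlgebra L M) : tw θ σ (a • x) = σ a • tw θ σ x := by
  induction x using MonoidAlgebra.induction_linear with
  | zero => simp
  | add x y hx hy => simp only [smul_add, map_add, hx, hy]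
  | single m r => simp [tw_single, MonoidAlgebra.smul_single]

theorem tw_one (x : MonoidAlgebra L M) : tw θ 1 x = x := by
  induction x using MonoidAlgebra.induction_linear with
  | zero => simp
  | add x y hx hy => simp only [map_add, hx, hy]
  | single m r => simp [tw_single]

theorem tw_mul (σ τ : L ≃ₐ[k] L) (x : MonoidAlgebra L M) : tw θ (σ * τ) x = tw θ σ (tw θ τ x) := by
  induction x using MonoidAlgebra.induction_linear with
  | zero => simp
  | add x y hx hy => simp only [map_add, hx, hy]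
  | single m r => simp [tw_single]

end tw

section galois

variable (k : Type u) [Field k] (L : Type u) [Field L] [Algebra k L]

/-- A component of `L ⊗ L`. -/
noncomputable def comp2 (σ : L ≃ₐ[k] L) : L ⊗[k] L →ₐ[k] L :=
  Algebra.TensorProduct.lift σ.toAlgHom (AlgHom.id k L) (fun _ _ => Commute.all _ _)

theorem comp2_tmul (σ : L ≃ₐ[k] L) (a b : L) : comp2 k L σ (a ⊗ₜ b) = σ a * b := rfl

/-- A component of `L ⊗ (L ⊗ L)`. -/
noncomputable def comp3 (σ τ : L ≃ₐ[k] L) : L ⊗[k] (L ⊗[k] L) →ₐ[k] L :=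
  (comp2 k L σ).comp (Algebra.TensorProduct.map (AlgHom.id k L) (comp2 k L τ))

variable [FiniteDimensional k L] [IsGalois k L]

theorem comp2_bijective : Function.Bijective fun w => fun σ => comp2 k L σ w := by
  classical
  let Ψ : L ⊗[k] L →ₗ[k] ((L ≃ₐ[k] L) → L) := LinearMap.pi fun σ => (comp2 k L σ).toLinearMap
  have hs : Function.Surjective Ψ := fun f => by
    have hf : f ∈ Submodule.span L (Set.range fun (x : L) => fun σ : L ≃ₐ[k] L => σ x) := by
      rw [GalDescX.span_conjugates]; trivial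
    induction hf using Submodule.span_induction with
    | mem y hy => obtain ⟨x, rfl⟩ := hy; exact ⟨x ⊗ₜ 1, funext fun σ => by simp [Ψ, comp2_tmul]⟩
    | zero => exact ⟨0, map_zero _⟩
    | add a b _ _ ha hb =>
      obtain ⟨a', rfl⟩ := ha
      obtain ⟨b', rfl⟩ := hb
      exact ⟨a' + b', map_add _ _ _⟩
    | smul c y _ hy =>
      obtain ⟨y', rfl⟩ := hy
      refine ⟨y' * ((1 : L) ⊗ₜ c), funext fun σ => ?_⟩
      simp [Ψ, comp2_tmul, mul_comm]
  have hd : Module.finrank k (L ⊗[k] L) = Module.finrank k ((L ≃ₐ[k] L) → L) := by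
    rw [Module.finrank_tensorProduct, Module.finrank_pi_fintype, Finset.sum_const, Finset.card_univ,
      ← Nat.card_eq_fintype_card, IsGalois.card_aut_eq_finrank, smul_eq_mul]
  exact ⟨(LinearMap.injective_iff_surjective_of_finrank_eq_finrank hd).2 hs, hs⟩

theorem comp2_ext {a b : L ⊗[k] L} (h : ∀ σ, comp2 k L σ a = comp2 k L σ b) : a = b :=
  (comp2_bijective k L).1 (funext h)

theorem comp3_ext {a b : L ⊗[k] (L ⊗[k] L)} (h : ∀ σ τ, comp3 k L σ τ a = comp3 k L σ τ b) : a = b := by
  classical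
  let Ψ : L ⊗[k] L →ₗ[k] ((L ≃ₐ[k] L) → L) := LinearMap.pi fun σ => (comp2 k L σ).toLinearMap
  apply Module.Flat.lTensor_preserves_injective_linearMap (M := L) Ψ (comp2_bijective k L).1
  apply (TensorProduct.piRight k k L (fun _ : L ≃ₐ[k] L => L)).injective
  have key : ∀ (w : L ⊗[k] (L ⊗[k] L)) τ,
      TensorProduct.piRight k k L (fun _ : L ≃ₐ[k] L => L) (LinearMap.lTensor L Ψ w) τ =
        Algebra.TensorProduct.map (AlgHom.id k L) (comp2 k L τ) w := fun w τ => by
    induction w using TensorProduct.induction_on with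
    | zero => simp
    | tmul x y => simp [Ψ]
    | add p q hp hq => simp only [map_add, Pi.add_apply, hp, hq]
  funext τ
  rw [key, key]
  exact comp2_ext k L fun σ => h σ τ

end galois

section torus

variable {k : Type u} [Field k] {L : Type u} [Field L] [Algebra k L] [FiniteDimensional k L] [IsGalois k L]
  {M : Type u} [CommGroup M]

theorem evalAt_ext2 {x y : MonoidAlgebra (L ⊗[k] L) M}
    (h : ∀ σ, evalAt (comp2 k L σ : L ⊗[k] L →+* L) x = evalAt (comp2 k L σ : L ⊗[k] L →+* L) y) : x = y := by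
  ext m
  refine comp2_ext k L fun σ => ?_
  have := congrArg (fun z => z.coeff m) (h σ)
  simpa [coeff_evalAt] using this

theorem evalAt_ext3 {x y : MonoidAlgebra (L ⊗[k] (L ⊗[k] L)) M}
    (h : ∀ σ τ, evalAt (comp3 k L σ τ : L ⊗[k] (L ⊗[k] L) →+* L) x =
      evalAt (comp3 k L σ τ : L ⊗[k] (L ⊗[k] L) →+* L) y) : x = y := by
  ext m
  refine comp3_ext k L fun σ τ => ?_
  have := congrArg (fun z => z.coeff m) (h σ τ)
  simpa [coeff_evalAt] using this

/-- The descent datum of a Galois action on a lattice. -/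
theorem exists_twist (θ : (L ≃ₐ[k] L) →* MulAut M) :
    ∃ D : Twist k L M, ∀ x, x ∈ D.form ↔ ∀ σ, tw θ σ x = x := by
  classical
  have hd : ∀ (m n : M), ∃ e : L ⊗[k] L, ∀ σ, comp2 k L σ e = if θ σ m = n then 1 else 0 := fun m n => by
    obtain ⟨e, he⟩ := (comp2_bijective k L).2 (fun σ => if θ σ m = n then 1 else 0)
    exact ⟨e, congrFun he⟩
  choose e he using hd
  let t : M → Finset M := fun m => Finset.univ.image fun σ => θ σ m
  let c₀ : M → MonoidAlgebra (L ⊗[k] L) M := fun m => ∑ n ∈ t m, MonoidAlgebra.single n (e m n)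
  have hc : ∀ m σ, evalAt (comp2 k L σ : L ⊗[k] L →+* L) (c₀ m) = MonoidAlgebra.single (θ σ m) 1 := fun m σ => by
    rw [map_sum]
    simp only [evalAt_single]
    rw [Finset.sum_eq_single (θ σ m)]
    · show MonoidAlgebra.single _ (comp2 k L σ (e m _)) = _
      rw [he, if_pos rfl]
    · intro n _ hn
      show MonoidAlgebra.single _ (comp2 k L σ (e m _)) = _
      rw [he, if_neg fun h => hn h.symm, MonoidAlgebra.single_zero]
    · intro h; exact absurd (Finset.mem_image_of_mem _ (Finset.mem_univ σ)) h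
  let c : M →* MonoidAlgebra (L ⊗[k] L) M :=
    { toFun := c₀
      map_one' := evalAt_ext2 fun σ => by rw [hc, map_one, map_one]; rfl
      map_mul' := fun a b => evalAt_ext2 fun σ => by
        rw [hc, map_mul, map_mul, hc, hc, MonoidAlgebra.single_mul_single, one_mul] }
  have hgl : ∀ m, IsGroupLikeElem (L ⊗[k] L) (c m) := fun m => by
    refine isGroupLike_of_orth (t m) (e m) (fun a _ b _ hab => comp2_ext k L fun σ => ?_)
      (fun a _ => comp2_ext k L fun σ => ?_) (comp2_ext k L fun σ => ?_)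
    · rw [map_mul, he, he, map_zero]
      split_ifs with h1 h2
      · exact absurd (h1.symm.trans h2) hab
      all_goals simp
    · show comp2 k L σ (e m a * e m a) = _
      rw [map_mul, he]
      split_ifs <;> simp
    · rw [map_sum, map_one, Finset.sum_eq_single (θ σ m)]
      · rw [he, if_pos rfl]
      · intro n _ hn; rw [he, if_neg fun h => hn h.symm]
      · intro h; exact absurd (Finset.mem_image_of_mem _ (Finset.mem_univ σ)) h
  have hΦ : ∀ σ x, evalAt (comp2 k L σ : L ⊗[k] L →+* L) (homOfGroupLike c hgl x) =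
      MonoidAlgebra.mapDomain (θ σ) (evalAt (comp2 k L σ : L ⊗[k] L →+* L) x) := fun σ x => by
    induction x using MonoidAlgebra.induction_linear with
    | zero => simp
    | add a b ha hb => simp only [map_add, MonoidAlgebra.mapDomain_add, ha, hb]
    | single m r =>
      rw [homOfGroupLike_single, evalAt_smul, show c m = c₀ m from rfl, hc, evalAt_single]
      simp [MonoidAlgebra.smul_single]
  have hbij : Function.Bijective (homOfGroupLike c hgl) := by
    refine ⟨fun x y h => evalAt_ext2 fun σ => ?_, fun y => ?_⟩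
    · have := congrArg (evalAt (comp2 k L σ : L ⊗[k] L →+* L)) h
      rw [hΦ, hΦ] at this
      exact MonoidAlgebra.mapDomain_injective (θ σ).injective this
    · induction y using MonoidAlgebra.induction_linear with
      | zero => exact ⟨0, map_zero _⟩
      | add a b ha hb =>
        obtain ⟨a', rfl⟩ := ha
        obtain ⟨b', rfl⟩ := hb
        exact ⟨a' + b', map_add _ _ _⟩
      | single n r =>
        have hd : ∀ (m : M), ∃ e : L ⊗[k] L, ∀ σ, comp2 k L σ e = if θ σ m = n then 1 else 0 := fun m => ⟨e m n, he m n⟩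
        refine ⟨∑ m ∈ (Finset.univ.image fun σ => (θ σ).symm n), MonoidAlgebra.single m (r * e m n), evalAt_ext2 fun σ => ?_⟩
        rw [hΦ, map_sum]
        simp only [evalAt_single]
        rw [Finset.sum_eq_single ((θ σ).symm n)]
        · rw [MonoidAlgebra.mapDomain_single]
          congr 1
          · exact (θ σ).apply_symm_apply n
          · show comp2 k L σ (r * e _ n) = comp2 k L σ r
            rw [map_mul, he, if_pos ((θ σ).apply_symm_apply n), mul_one]
        · intro m _ hm
          have : θ σ m ≠ n := fun h => hm (by rw [← h, MulEquiv.symm_apply_apply])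
          show MonoidAlgebra.single m (comp2 k L σ (r * e m n)) = 0
          rw [map_mul, he, if_neg this, mul_zero, MonoidAlgebra.single_zero]
        · intro h; exact absurd (Finset.mem_image_of_mem _ (Finset.mem_univ σ)) h
  let i12 : L ⊗[k] L →+* L ⊗[k] (L ⊗[k] L) := q12 k L
  have h12 : ∀ σ τ, ((comp3 k L σ τ : L ⊗[k] (L ⊗[k] L) →+* L).comp (q12 k L)) = (comp2 k L τ : L ⊗[k] L →+* L) :=
    fun σ τ => congrArg AlgHom.toRingHom (show (comp3 k L σ τ).comp (p12 k L) = comp2 k L τ from
      Algebra.TensorProduct.ext' fun a b => by simp [comp3, comp2_tmul, p12])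
  have h01 : ∀ σ τ, ((comp3 k L σ τ : L ⊗[k] (L ⊗[k] L) →+* L).comp (q01 k L)) =
      ((τ : L →+* L).comp (comp2 k L (τ⁻¹ * σ) : L ⊗[k] L →+* L)) :=
    fun σ τ => congrArg AlgHom.toRingHom (show (comp3 k L σ τ).comp (p01 k L) = τ.toAlgHom.comp (comp2 k L (τ⁻¹ * σ)) from
      Algebra.TensorProduct.ext' fun a b => by simp [comp3, comp2_tmul, p01])
  have h02 : ∀ σ τ, ((comp3 k L σ τ : L ⊗[k] (L ⊗[k] L) →+* L).comp (q02 k L)) = (comp2 k L σ : L ⊗[k] L →+* L) :=
    fun σ τ => congrArg AlgHom.toRingHom (show (comp3 k L σ τ).comp (p02 k L) = comp2 k L σ from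
      Algebra.TensorProduct.ext' fun a b => by simp [comp3, comp2_tmul, p02])
  let D : Twist k L M := ⟨c, hgl, hbij, fun m => evalAt_ext3 fun σ τ => ?cocycle⟩
  refine ⟨D, fun x => ?_⟩
  case cocycle =>
    rw [evalAt_homOfGroupLike, evalAt_evalAt, evalAt_evalAt, h01, h02, show c m = c₀ m from rfl, hc]
    rw [show evalAt ((τ : L →+* L).comp (comp2 k L (τ⁻¹ * σ) : L ⊗[k] L →+* L)) (c₀ m) =
      MonoidAlgebra.single (θ (τ⁻¹ * σ) m) 1 by rw [← evalAt_evalAt, hc, evalAt_single, map_one]]
    rw [homOfGroupLike_single, one_smul]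
    show evalAt (comp3 k L σ τ : L ⊗[k] (L ⊗[k] L) →+* L) (evalAt (q12 k L) (c₀ _)) = _
    rw [evalAt_evalAt, h12, hc, ← MulAut.mul_apply, ← map_mul, mul_inv_cancel_left]
  rw [Twist.mem_form]
  have hx : ∀ σ, evalAt (comp2 k L σ : L ⊗[k] L →+* L) (D.d1 x) = tw θ σ x := fun σ => by
      rw [Twist.d1_apply, hΦ, evalAt_evalAt]
      induction x using MonoidAlgebra.induction_linear with
      | zero => simp
      | add a b ha hb => simp only [map_add, MonoidAlgebra.mapDomain_add, ha, hb]
      | single m r => simp [evalAt_single, tw_single, comp2_tmul]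
  have hy : ∀ σ, evalAt (comp2 k L σ : L ⊗[k] L →+* L) (D.d2 x) = x := fun σ => by
      rw [Twist.d2_apply, evalAt_evalAt]
      ext m
      simp [coeff_evalAt, comp2_tmul]
  exact ⟨fun h σ => by rw [← hx σ, h, hy σ], fun h => evalAt_ext2 fun σ => by rw [hx σ, hy σ, h σ]⟩

/-- The torus with a given character lattice. -/
theorem exists_torus (θ : (L ≃ₐ[k] L) →* MulAut M) {r : ℕ} (eM : M ≃* TorusPts.Lat.{u} r) :
    ∃ (H : Type u) (_ : CommRing H) (_ : HopfAlgebra k H) (φ : H →ₐ[k] MonoidAlgebra L M),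
      Function.Bijective (Algebra.TensorProduct.lift (Algebra.ofId L (MonoidAlgebra L M)) φ
        (fun _ _ => Commute.all _ _)) ∧
      (∀ h σ, tw θ σ (φ h) = φ h) ∧
      TwC.Locally (Spec (CommRingCat.of k)) .finiteEtale
        (fun S' g => Red.IsSplitTorusWith (Fin r → ℤ) (Red.bc g (GrpSchLib.AffineHopf.sp k H))) := by
  obtain ⟨D, hD⟩ := exists_twist θ
  refine ⟨D.form, inferInstance, inferInstance, D.form.val, D.μ_bijective, fun h σ => (hD _).1 h.2 σ, ?_⟩
  have : IsFinite (Spec.map (CommRingCat.ofHom (algebraMap k L))) := by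
    rw [IsFinite.SpecMap_iff]
    exact RingHom.finite_algebraMap.2 inferInstance
  have : Etale (Spec.map (CommRingCat.ofHom (algebraMap k L))) := by
    rw [HasRingHomProperty.Spec_iff (P := @Etale)]
    show (algebraMap k L).Etale
    rw [RingHom.etale_algebraMap]
    have : Algebra.FormallyEtale k L := (Algebra.FormallyEtale.iff_isSeparable k L).2 inferInstance
    exact ⟨inferInstance, Algebra.FinitePresentation.of_finiteType.1 inferInstance⟩
  have hsurj : Surjective (Spec.map (CommRingCat.ofHom (algebraMap k L))) :=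
    ⟨fun x => ⟨(IsLocalRing.closedPoint L : Spec (CommRingCat.of L)), Subsingleton.elim _ _⟩⟩
  refine ⟨Spec (CommRingCat.of L), Spec.map (CommRingCat.ofHom (algebraMap k L)), inferInstance, inferInstance, hsurj,
    fun s => ⟨⊤, trivial, isClosed_univ, ?_⟩⟩
  obtain ⟨b⟩ := GrpSchLib.AffineHopf.nonempty_bc_sp (R := k) L D.form
  obtain ⟨d⟩ := GrpSchLib.AffineHopf.nonempty_DS_iso L (Fin r → ℤ)
  let E := D.formEquiv.trans (MonoidAlgebra.domCongrBialgEquiv L L (eM.trans MulEquiv.ulift))
  let g := b ≪≫ (GrpSchLib.AffineHopf.spIso E).symm ≪≫ d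
  obtain ⟨a⟩ := GrpSchLib.MultTypeBC.bc_iso (⊤ : (Spec (CommRingCat.of L)).Opens).ι g
  obtain ⟨a'⟩ := GrpSchLib.MultTypeBC.bc_bc (⊤ : (Spec (CommRingCat.of L)).Opens).ι
    (Spec.map (CommRingCat.ofHom (algebraMap k L))) (GrpSchLib.AffineHopf.sp k D.form)
  obtain ⟨a''⟩ := GrpSchLib.MultTypeBC.bc_DS (⊤ : (Spec (CommRingCat.of L)).Opens).ι (Fin r → ℤ)
  exact ⟨a'.symm ≪≫ a ≪≫ a''⟩

end torus

end Groth.Agent.GalTori
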