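import Mathlib.RingTheory.Ideal.Operations
import Mathlib.RingTheory.Localization.Basic
import Mathlib.RingTheory.Ideal.Nonunits
import Mathlib.Algebra.BigOperators.Finsupp.Basic

/-! Units of a semilocal ring with principal maximal ideals after inverting all of them. -/

universe u

namespace Groth.Agent.GalTori

variable {R : Type u} [CommRing R] {ι : Type u} [Fintype ι] {z : ι → R}
  (hmax : ∀ i, (Ideal.span {z i}).IsMaximal)
  (hidx : ∀ i j, z i ∈ Ideal.span {z j} → i = j)

include hmax hidx in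
theorem prod_not_mem {n : ι → ℕ} {j : ι} (hn : n j = 0) (ε : Rˣ) :
    (ε : R) * ∏ i, z i ^ n i ∉ Ideal.span {z j} := by
  classical
  intro h
  have hP := (hmax j).isPrime
  rcases hP.mem_or_mem h with h | h
  · exact hP.ne_top (Ideal.eq_top_of_isUnit_mem _ h ε.isUnit)
  · rw [hP.prod_mem_iff] at h
    obtain ⟨i, -, hi⟩ := h
    have hi0 : n i ≠ 0 := fun h0 => by
      rw [h0, pow_zero] at hi
      exact hP.ne_top ((Ideal.eq_top_iff_one _).2 hi)
    have := hidx i j (hP.mem_of_pow_mem _ hi)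
    exact hi0 (this ▸ hn)

variable (hreg : ∀ i, z i ∈ nonZeroDivisors R)

include hmax hidx hreg in
theorem eq_zero_of_prod_eq {a b : ι → ℕ} (hab : ∀ i, a i = 0 ∨ b i = 0) (ε : Rˣ)
    (h : (ε : R) * ∏ i, z i ^ a i = ∏ i, z i ^ b i) : a = b := by
  classical
  funext j
  rcases hab j with ha | hb
  · rw [ha]
    by_contra hb
    apply prod_not_mem hmax hidx ha ε
    rw [h]
    exact Ideal.mem_span_singleton.2 ((dvd_pow_self _ (fun e => hb e.symm)).trans (Finset.dvd_prod_of_mem _ (Finset.mem_univ j)))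
  · rw [hb]
    by_contra ha
    apply prod_not_mem hmax hidx hb 1
    rw [Units.val_one, one_mul, ← h]
    exact Ideal.mem_span_singleton.2 (((dvd_pow_self (z j) ha).trans (Finset.dvd_prod_of_mem (fun i => z i ^ a i) (Finset.mem_univ j))).mul_left _)

variable (hall : ∀ M : Ideal R, M.IsMaximal → ∃ i, M = Ideal.span {z i})

include hmax hidx hreg hall in
theorem exists_eq_prod {n : ι → ℕ} (r s : R) (ε : Rˣ) (h : r * s = ε * ∏ i, z i ^ n i) :
    ∃ (m : ι → ℕ) (η : Rˣ), r = η * ∏ i, z i ^ m i := by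
  classical
  induction hN : ∑ i, n i using Nat.strong_induction_on generalizing n r s with
  | _ N ih =>
  by_cases hr : IsUnit r
  · exact ⟨0, hr.unit, by simp⟩
  obtain ⟨M, hM, hrM⟩ := exists_max_ideal_of_mem_nonunits hr
  obtain ⟨j, rfl⟩ := hall M hM
  have hnj : n j ≠ 0 := fun h0 => prod_not_mem hmax hidx h0 ε (h ▸ Ideal.mul_mem_right _ _ hrM)
  obtain ⟨r', rfl⟩ := Ideal.mem_span_singleton.1 hrM
  let n' : ι → ℕ := Function.update n j (n j - 1)
  have hprod : ∏ i, z i ^ n i = z j * ∏ i, z i ^ n' i := by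
    rw [← Finset.mul_prod_erase _ _ (Finset.mem_univ j), ← Finset.mul_prod_erase _ (fun i => z i ^ n' i) (Finset.mem_univ j),
      ← mul_assoc]
    congr 1
    · simp only [n', Function.update_self]
      rw [← pow_succ', Nat.sub_add_cancel (Nat.one_le_iff_ne_zero.2 hnj)]
    · exact Finset.prod_congr rfl fun i hi => by rw [show n' i = n i from Function.update_of_ne (Finset.ne_of_mem_erase hi) _ _]
  have h' : r' * s = ε * ∏ i, z i ^ n' i := by
    apply (mul_cancel_left_mem_nonZeroDivisors (hreg j)).1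
    rw [← mul_assoc, h, hprod]
    ring
  have hlt : ∑ i, n' i < N := by
    rw [← hN]
    refine Finset.sum_lt_sum (fun i _ => ?_) ⟨j, Finset.mem_univ j, ?_⟩
    · by_cases hij : i = j
      · subst hij; simp [n']
      · exact le_of_eq (Function.update_of_ne hij _ _)
    · simp only [n', Function.update_self]; omega
  obtain ⟨m, η, rfl⟩ := ih _ hlt r' s h' rfl
  refine ⟨Function.update m j (m j + 1), η, ?_⟩
  rw [← Finset.mul_prod_erase _ _ (Finset.mem_univ j),
    ← Finset.mul_prod_erase _ (fun i => z i ^ Function.update m j (m j + 1) i) (Finset.mem_univ j)]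
  simp only [Function.update_self]
  rw [show (Finset.univ.erase j).prod (fun i => z i ^ Function.update m j (m j + 1) i) = (Finset.univ.erase j).prod (fun i => z i ^ m i)
    from Finset.prod_congr rfl fun i hi => by rw [Function.update_of_ne (Finset.ne_of_mem_erase hi)]]
  ring

variable {R' : Type u} [CommRing R'] [Algebra R R'] (zu : ι → R'ˣ) (hzu : ∀ i, (zu i : R') = algebraMap R R' (z i))

include hzu in
theorem val_prod_pow (a : ι → ℕ) :
    ((∏ i, zu i ^ (a i : ℤ) : R'ˣ) : R') = algebraMap R R' (∏ i, z i ^ a i) := by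
  simp [hzu, zpow_natCast]

include hmax hidx hreg hall hzu in
/-- Units of the localisation decompose uniquely. -/
theorem existsUnique_exp (hinj : Function.Injective (algebraMap R R')) {π : R} (n₀ : ι → ℕ) (ε₀ : Rˣ)
    (hπ : π = ε₀ * ∏ i, z i ^ n₀ i)
    (hsurj : ∀ u : R', ∃ (N : ℕ) (r : R), u * algebraMap R R' π ^ N = algebraMap R R' r) (u : R'ˣ) :
    ∃! n : ι → ℤ, ∃ ε : Rˣ, u = Units.map (algebraMap R R').toMonoidHom ε * ∏ i, zu i ^ n i := by
  classical
  refine existsUnique_of_exists_of_unique ?_ ?_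
  · obtain ⟨N, r, hr⟩ := hsurj u
    obtain ⟨N', r', hr'⟩ := hsurj (↑u⁻¹ : R')
    have hrs : r * r' = (ε₀ ^ (N + N') : Rˣ) * ∏ i, z i ^ (n₀ i * (N + N')) := by
      apply hinj
      rw [map_mul, ← hr, ← hr', mul_mul_mul_comm, Units.mul_inv, one_mul, ← pow_add, ← map_pow, hπ, mul_pow,
        ← Finset.prod_pow, Units.val_pow_eq_pow_val]
      simp_rw [← pow_mul]
    obtain ⟨m, η, hm⟩ := exists_eq_prod hmax hidx hreg hall r r' _ hrs
    refine ⟨fun i => (m i : ℤ) - (n₀ i * N : ℕ), η * (ε₀ ^ N)⁻¹, ?_⟩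
    apply Units.ext
    have hprod : ((∏ i, zu i ^ ((m i : ℤ) - (n₀ i * N : ℕ)) : R'ˣ) : R') * algebraMap R R' (∏ i, z i ^ (n₀ i * N)) =
        algebraMap R R' (∏ i, z i ^ m i) := by
      rw [← val_prod_pow zu hzu, ← val_prod_pow zu hzu, ← Units.val_mul, ← Finset.prod_mul_distrib]
      simp [← zpow_add]
    have hπN : algebraMap R R' π ^ N = algebraMap R R' ((ε₀ ^ N : Rˣ) : R) * algebraMap R R' (∏ i, z i ^ (n₀ i * N)) := by
      rw [← map_pow, hπ, mul_pow, ← Finset.prod_pow, map_mul, Units.val_pow_eq_pow_val]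
      simp_rw [← pow_mul]
    have hu : IsUnit (algebraMap R R' π ^ N) := by
      rw [hπN, ← val_prod_pow zu hzu]
      exact ((ε₀ ^ N).isUnit.map _).mul (Units.isUnit _)
    apply hu.mul_right_cancel
    rw [hr, hm, hπN, map_mul, Units.val_mul, ← hprod]
    have h1 : algebraMap R R' (↑(η * (ε₀ ^ N)⁻¹) : R) * algebraMap R R' ((ε₀ ^ N : Rˣ) : R) = algebraMap R R' (η : R) := by
      rw [← map_mul, ← Units.val_mul, inv_mul_cancel_right]
    rw [← h1]
    show _ = algebraMap R R' (↑(η * (ε₀ ^ N)⁻¹) : R) * _ * _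
    ring
  · rintro n n' ⟨ε, h⟩ ⟨ε', h'⟩
    have hd : Units.map (algebraMap R R').toMonoidHom (ε * ε'⁻¹) * ∏ i, zu i ^ (n i - n' i) = 1 := by
      simp only [zpow_sub, Finset.prod_mul_distrib, Finset.prod_inv_distrib, map_mul, map_inv]
      rw [mul_mul_mul_comm, ← h, ← mul_inv, ← h', mul_inv_cancel]
    let a : ι → ℕ := fun i => (n i - n' i).toNat
    let b : ι → ℕ := fun i => (-(n i - n' i)).toNat
    have hab : a = b := by
      refine eq_zero_of_prod_eq hmax hidx hreg (fun i => by simp only [a, b]; omega) (ε * ε'⁻¹) (hinj ?_)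
      have hsplit : (∏ i, zu i ^ (n i - n' i)) * ∏ i, zu i ^ (b i : ℤ) = ∏ i, zu i ^ (a i : ℤ) := by
        rw [← Finset.prod_mul_distrib]
        refine Finset.prod_congr rfl fun i _ => ?_
        rw [← zpow_add]
        congr 1
        simp only [a, b]; omega
      rw [map_mul, ← val_prod_pow zu hzu, ← val_prod_pow zu hzu]
      have := congrArg (fun w : R'ˣ => w * ∏ i, zu i ^ (b i : ℤ)) hd
      simp only [mul_assoc, hsplit, one_mul] at this
      exact congrArg Units.val this
    funext i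
    have := congrFun hab i
    simp only [a, b] at this
    omega

end Groth.Agent.GalTori
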